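import Cfsg.Agent.Lib.KnownB.SuzukiGroup

set_option autoImplicit false

/-!
The Sylow 2-subgroup of `Cfsg.Lie.Sz F e` and its normaliser.
-/

namespace CfsgLib.KnownB.Suzuki

open Matrix Cfsg.Lie CfsgLib.KnownB.SzElem
open scoped Pointwise

variable {F : Type*} [Field F] {e : ℕ}

/-- The unitriangular subgroup. -/
def uGroup (he : Twist F e) : Subgroup (Sz F e) where
  carrier := Set.range fun x : F × F => P he x.1 x.2
  one_mem' := ⟨(0, 0), P_zero he⟩
  mul_mem' := by
    rintro _ _ ⟨⟨a, b⟩, rfl⟩ ⟨⟨c, d⟩, rfl⟩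
    exact ⟨(a + c, b + d + a ^ e * c), (P_mul he a b c d).symm⟩
  inv_mem' := by
    rintro _ ⟨⟨a, b⟩, rfl⟩
    exact ⟨(a, b + a ^ e * a), (P_inv he a b).symm⟩

lemma P_mem_uGroup (he : Twist F e) (a b : F) : P he a b ∈ uGroup he := ⟨(a, b), rfl⟩

lemma uGroup_le_borel (he : Twist F e) : uGroup he ≤ borel F e := by
  rintro _ ⟨⟨a, b⟩, rfl⟩
  exact P_mem_borel he a b

/-- `P` as an equivalence. -/
noncomputable def uEquiv (he : Twist F e) : F × F ≃ uGroup he :=
  Equiv.ofBijective (fun x => ⟨P he x.1 x.2, x, rfl⟩)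
    ⟨fun x y h => Prod.ext_iff.2 (P_injective he (congrArg Subtype.val h)),
      fun g => by obtain ⟨x, hx⟩ := g.2; exact ⟨x, Subtype.ext hx⟩⟩

lemma card_uGroup (he : Twist F e) : Nat.card (uGroup he) = Nat.card F ^ 2 := by
  rw [← Nat.card_congr (uEquiv he), Nat.card_prod, pow_two]

lemma pow_four (he : Twist F e) {g : Sz F e} (hg : g ∈ uGroup he) : g ^ 4 = 1 := by
  obtain ⟨⟨a, b⟩, rfl⟩ := hg
  have h2 := he.two
  show P he a b ^ (2 * 2) = 1
  rw [pow_mul, pow_two, pow_two, P_mul, P_mul, ← P_zero he]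
  congr 1 <;> grind

lemma two_eq_zero_orderOf (he : Twist F e) : Even (Nat.card F) ∨ ¬ Finite F := by
  by_cases h : Finite F
  · left
    have h1 : addOrderOf (1 : F) = 2 :=
      addOrderOf_eq_prime (hp := ⟨Nat.prime_two⟩)
        (by rw [two_nsmul, ← two_mul, mul_one]; exact he.two) one_ne_zero
    exact even_iff_two_dvd.2 (h1 ▸ addOrderOf_dvd_natCard 1)
  · exact Or.inr h

variable [Finite F]

lemma even_card (he : Twist F e) : Even (Nat.card F) :=
  (two_eq_zero_orderOf he).resolve_right (not_not_intro inferInstance)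

omit [Finite F] in
lemma uGroup_isPGroup (he : Twist F e) : IsPGroup 2 (uGroup he) := fun g =>
  ⟨2, Subtype.ext (by simpa using pow_four he g.2)⟩

lemma not_two_dvd_index (he : Twist F e) : ¬ 2 ∣ (uGroup he).index := by
  cases nonempty_fintype F
  intro h
  have hm := Subgroup.card_mul_index (uGroup he)
  rw [card_uGroup, card_Sz he, Nat.card_eq_fintype_card] at hm
  have hq0 : 0 < Fintype.card F := Fintype.card_pos
  rw [mul_assoc] at hm
  have hi : (uGroup he).index = (Fintype.card F - 1) * (Fintype.card F ^ 2 + 1) :=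
    Nat.eq_of_mul_eq_mul_left (by positivity) hm
  rw [hi] at h
  have he2 := even_card he
  rw [Nat.card_eq_fintype_card] at he2
  obtain ⟨r, hr⟩ := he2
  rcases (Nat.prime_two.dvd_mul).1 h with h' | h'
  · omega
  · rw [hr] at h'
    have : 2 ∣ (r + r) ^ 2 := dvd_pow (by omega) two_ne_zero
    omega

/-- The standard Sylow 2-subgroup. -/
noncomputable def sylow2 (he : Twist F e) : Sylow 2 (Sz F e) :=
  haveI : Fact (Nat.Prime 2) := ⟨Nat.prime_two⟩
  (uGroup_isPGroup he).toSylow (not_two_dvd_index he)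

lemma coe_sylow2 (he : Twist F e) : (sylow2 he : Subgroup (Sz F e)) = uGroup he := rfl

lemma borel_le_normalizer (he : Twist F e) :
    borel F e ≤ Subgroup.normalizer (uGroup he : Set (Sz F e)) := by
  have key : ∀ g ∈ borel F e, ∀ h ∈ uGroup he, g * h * g⁻¹ ∈ uGroup he := by
    intro g hg h hh
    obtain ⟨a, b, t, rfl⟩ := exists_borel_eq he g hg
    obtain ⟨⟨c, d⟩, rfl⟩ := hh
    rw [_root_.mul_inv_rev, show P he a b * H e he t * P he c d * ((H e he t)⁻¹ * (P he a b)⁻¹) =
      P he a b * (H e he t * P he c d * (H e he t)⁻¹) * (P he a b)⁻¹ by simp only [mul_assoc],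
      H_conj_P]
    exact mul_mem (mul_mem (P_mem_uGroup he _ _) (P_mem_uGroup he _ _))
      (inv_mem (P_mem_uGroup he _ _))
  intro g hg
  rw [Subgroup.mem_normalizer_iff]
  refine fun h => ⟨key g hg h, fun hh => ?_⟩
  simpa [mul_assoc] using key g⁻¹ (inv_mem hg) _ hh

omit [Finite F]

lemma normalizer_le_borel (he : Twist F e) :
    Subgroup.normalizer (uGroup he : Set (Sz F e)) ≤ borel F e := by
  intro g hg
  by_contra hgb
  obtain ⟨a, b, c, d, t, rfl⟩ := exists_bruhat' he g hgb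
  have h1 := (Subgroup.mem_normalizer_iff''.1 hg (P he 1 0)).1 (P_mem_uGroup he _ _)
  have hB : P he c d * H e he t ∈ borel F e := mul_mem (P_mem_borel he c d) (H_mem_borel he t)
  have h2 : (P he a b * W he)⁻¹ * P he 1 0 * (P he a b * W he) ∈ borel F e := by
    have h3 := mul_mem (mul_mem hB (uGroup_le_borel he h1)) (inv_mem hB)
    convert h3 using 1
    simp [mul_assoc]
  rw [mul_assoc, ← mul_assoc (P he 1 0), P_mul] at h2
  have h3 := (P_W_P_mem_borel_iff he h2).1
  exact one_ne_zero (show (1 : F) = 0 by linear_combination -h3)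

lemma normalizer_uGroup [Finite F] (he : Twist F e) :
    Subgroup.normalizer (uGroup he : Set (Sz F e)) = borel F e :=
  le_antisymm (normalizer_le_borel he) (borel_le_normalizer he)

lemma uGroup_smul_unique (he : Twist F e) (x y : Sz F e ⧸ borel F e)
    (hx : x ≠ QuotientGroup.mk 1) (hy : y ≠ QuotientGroup.mk 1) :
    ∃! s : uGroup he, (s : Sz F e) • x = y := by
  obtain ⟨o, rfl⟩ := (cosetRep_bijective he).2 x
  obtain ⟨o', rfl⟩ := (cosetRep_bijective he).2 y
  match o, o', hx, hy with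
  | none, _, hx, _ => exact absurd rfl hx
  | _, none, _, hy => exact absurd rfl hy
  | some (a, b), some (c, d), _, _ =>
    have h2 := he.two
    refine ⟨⟨P he c d * (P he a b)⁻¹, mul_mem (P_mem_uGroup he c d)
      (inv_mem (P_mem_uGroup he a b))⟩, ?_, ?_⟩
    · simp only [cosetRep, MulAction.Quotient.smul_mk, smul_eq_mul, mul_assoc, inv_mul_cancel_left]
    · rintro ⟨_, ⟨⟨u, v⟩, rfl⟩⟩ h
      apply Subtype.ext
      simp only [cosetRep, MulAction.Quotient.smul_mk, smul_eq_mul, QuotientGroup.eq,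
        ← mul_assoc (P he u v), P_mul] at h
      obtain ⟨h1, h3⟩ := P_W_P_mem_borel_iff he h
      rw [eq_mul_inv_iff_mul_eq, P_mul, h1, h3]

end CfsgLib.KnownB.Suzuki
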