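import Cfsg.Agent.Lib.KnownB.SuzukiSylow

set_option autoImplicit false

/-!
Further properties of `Cfsg.Lie.Sz F e`: maximality of the Borel subgroup, real 2-elements,
the structure of the Sylow 2-subgroup.
-/

namespace CfsgLib.KnownB.Suzuki

open Matrix Cfsg.Lie CfsgLib.KnownB.SzElem
open scoped commutatorElement

variable {F : Type*} [Field F] {e : ℕ}

lemma no_root (he : Twist F e) (d : F) : d ^ e + d + 1 ≠ 0 := by
  intro hd
  have h2 := he.two
  have h1 : d ^ e = d + 1 := by grind
  have h4 := he.pow_pow d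
  rw [h1, he.add_pow, one_pow, h1] at h4
  have h5 : d = 0 ∨ d = 1 := by
    rcases mul_eq_zero.1 (show d * (d - 1) = 0 by grind) with h | h
    · exact Or.inl h
    · exact Or.inr (sub_eq_zero.1 h)
  rcases h5 with rfl | rfl
  · simp [zero_pow (Nat.ne_zero_of_lt he.one_lt)] at hd
  · rw [one_pow] at hd
    exact one_ne_zero (show (1 : F) = 0 by linear_combination hd - h2)

lemma mem_borel_of_conj_fix (he : Twist F e) {a b : F} (hab : P he a b ≠ 1) {h : Sz F e}
    {g : Sz F e} (hg : h * P he a b * h⁻¹ = g) (hgB : g ∈ borel F e) : h⁻¹ ∈ borel F e := by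
  by_contra hh
  obtain ⟨c, d, x, y, t, hdec⟩ := exists_bruhat' he h⁻¹ hh
  have hB : P he x y * H e he t ∈ borel F e := mul_mem (P_mem_borel he x y) (H_mem_borel he t)
  have h2 : (P he c d * W he)⁻¹ * P he a b * (P he c d * W he) ∈ borel F e := by
    have h3 := mul_mem (mul_mem hB hgB) (inv_mem hB)
    convert h3 using 1
    rw [← hg, show h = (h⁻¹)⁻¹ from (inv_inv h).symm, hdec]
    simp [mul_assoc]
  rw [mul_assoc, ← mul_assoc (P he a b), P_mul] at h2
  obtain ⟨h3, h4⟩ := P_W_P_mem_borel_iff he h2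
  have h2' := he.two
  have ha : a = 0 := by linear_combination -h3
  subst ha
  rw [zero_pow (Nat.ne_zero_of_lt he.one_lt), zero_mul, add_zero] at h4
  have hb : b = 0 := by linear_combination -h4
  subst hb
  exact hab (P_zero he)

theorem not_real (he : Twist F e) {a : F} (b : F) (ha : a ≠ 0) :
    ¬ IsConj (P he a b) (P he a b)⁻¹ := by
  intro hc
  obtain ⟨h, hh⟩ := isConj_iff.1 hc
  have h2 := he.two
  have hne : P he a b ≠ 1 := by
    intro h0
    rw [← P_zero he] at h0
    exact ha (P_injective he h0).1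
  have hB : h ∈ borel F e :=
    inv_mem_iff.1 (mem_borel_of_conj_fix he hne hh (inv_mem (P_mem_borel he a b)))
  obtain ⟨c, d, t, rfl⟩ := exists_borel_eq he h hB
  rw [_root_.mul_inv_rev, show P he c d * H e he t * P he a b * ((H e he t)⁻¹ * (P he c d)⁻¹) =
    P he c d * (H e he t * P he a b * (H e he t)⁻¹) * (P he c d)⁻¹ by simp only [mul_assoc],
    H_conj_P, P_inv, P_mul, P_mul, P_inv] at hh
  obtain ⟨h3, h4⟩ := P_injective he hh
  have ht : (t : F) ^ e * a = a := by linear_combination h3 - h2 * c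
  have ht1 : (t : F) = 1 := eq_one_of_pow_e he (mul_right_cancel₀ ha (by rw [ht, one_mul]))
  rw [ht1, one_pow, one_pow, one_mul, one_mul, he.add_pow] at h4
  refine no_root he (c / a) ?_
  rw [div_pow]
  have hae : a ^ e ≠ 0 := pow_ne_zero _ ha
  field_simp
  grind

theorem sylow_center (he : Twist F e) (hc : ∃ c : F, c ^ e ≠ c) (g : uGroup he) :
    g ∈ Subgroup.center (uGroup he) ↔ ∃ b, (g : Sz F e) = P he 0 b := by
  have h2 := he.two
  constructor
  · intro hg
    obtain ⟨⟨a, b⟩, hab⟩ := g.2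
    simp only at hab
    refine ⟨b, ?_⟩
    have hcomm : ∀ c, a ^ e * c = c ^ e * a := by
      intro c
      have h := congrArg Subtype.val (Subgroup.mem_center_iff.1 hg ⟨_, P_mem_uGroup he c 0⟩)
      simp only [Subgroup.coe_mul, ← hab, P_mul] at h
      linear_combination -(P_injective he h).2
    have h1 : a ^ e = a := by simpa using hcomm 1
    have hsq : a * (a - 1) = 0 := by
      have h := he.pow_pow a
      rw [h1, h1] at h
      linear_combination -h
    rcases mul_eq_zero.1 hsq with h | h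
    · rw [← hab, h]
    · exfalso
      obtain ⟨c, hc⟩ := hc
      have := hcomm c
      rw [sub_eq_zero.1 h, one_pow, one_mul, mul_one] at this
      exact hc this.symm
  · rintro ⟨b, hb⟩
    rw [Subgroup.mem_center_iff]
    intro x
    obtain ⟨⟨c, d⟩, hcd⟩ := x.2
    apply Subtype.ext
    simp only at hcd
    rw [Subgroup.coe_mul, Subgroup.coe_mul, hb, ← hcd, P_mul, P_mul]
    congr 1
    · ring
    · rw [zero_pow (Nat.ne_zero_of_lt he.one_lt), zero_mul, mul_zero]; ring

variable [Finite F]

theorem sylow_commutator (he : Twist F e) (hc : ∃ c : F, c ^ e ≠ c) (g : uGroup he) :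
    g ∈ commutator (uGroup he) ↔ ∃ b, (g : Sz F e) = P he 0 b := by
  have h2 := he.two
  have h0 : (0 : F) ^ e = 0 := zero_pow (Nat.ne_zero_of_lt he.one_lt)
  constructor
  · intro hg
    have hle : commutator (uGroup he) ≤ Subgroup.center (uGroup he) := by
      rw [commutator_def, Subgroup.commutator_le]
      intro x _ y _
      obtain ⟨⟨a, b⟩, hab⟩ := x.2
      obtain ⟨⟨c, d⟩, hcd⟩ := y.2
      simp only at hab hcd
      rw [sylow_center he hc]
      refine ⟨a ^ e * c + c ^ e * a, ?_⟩
      simp only [commutatorElement_def, Subgroup.coe_mul, Subgroup.coe_inv, ← hab, ← hcd, P_inv,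
        P_mul, he.add_pow]
      congr 1 <;> grind
    exact (sylow_center he hc g).1 (hle hg)
  · rintro ⟨b, hb⟩
    obtain ⟨c, hc⟩ := hc
    rcases eq_or_ne b 0 with rfl | hb0
    · rw [P_zero] at hb
      rw [Subtype.ext hb (a2 := (1 : uGroup he))]
      exact one_mem _
    have hne : c + c ^ e ≠ 0 := fun h => hc (by linear_combination h - h2 * c)
    obtain ⟨t, ht⟩ := (units_pow_e2_bijective he).2 (Units.mk0 b hb0 / Units.mk0 (c + c ^ e) hne)
    have ht' : (t : F) ^ (e + 2) = b / (c + c ^ e) := by simpa using congrArg Units.val ht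
    have hmem : g = ⁅(⟨_, P_mem_uGroup he ((t : F) ^ e) 0⟩ : uGroup he),
        ⟨_, P_mem_uGroup he ((t : F) ^ e * c) 0⟩⁆ := by
      apply Subtype.ext
      simp only [commutatorElement_def, Subgroup.coe_mul, Subgroup.coe_inv, hb, P_inv, P_mul,
        he.add_pow, mul_pow, he.pow_pow]
      have hb' : (t : F) ^ (e + 2) * (c + c ^ e) = b := by rw [ht', div_mul_cancel₀ _ hne]
      rw [pow_add] at hb'
      congr 1 <;> grind
    rw [hmem, commutator_def]
    exact Subgroup.commutator_mem_commutator (Subgroup.mem_top _) (Subgroup.mem_top _)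

/-- A subgroup containing the Sylow 2-subgroup and not inside the Borel subgroup is everything. -/
theorem eq_top_of_uGroup_lt (he : Twist F e) (M : Subgroup (Sz F e)) (hU : uGroup he ≤ M)
    (hM : ¬ M ≤ borel F e) : M = ⊤ := by
  have hP : ∀ a b, P he a b ∈ M := fun a b => hU (P_mem_uGroup he a b)
  have hext : ∀ g ∈ M, g ∉ borel F e → ∃ t, W he * H e he t ∈ M ∧
      mat g 3 0 = (t : F) ^ (e + 1) := by
    intro g hg hgB
    obtain ⟨a, b, c, d, t, rfl⟩ := exists_bruhat' he g hgB
    refine ⟨t, ?_, ?_⟩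
    · have h1 : W he * P he c d * H e he t ∈ M := by
        have := mul_mem (inv_mem (hP a b)) hg
        simpa [mul_assoc] using this
      have h3 : (H e he t)⁻¹ * P he c d * H e he t ∈ M := by
        have h4 : H e he t⁻¹ * P he c d * (H e he t⁻¹)⁻¹ ∈ M := by rw [H_conj_P]; exact hP _ _
        rwa [← H_inv, inv_inv] at h4
      have := mul_mem h1 (inv_mem h3)
      simpa [mul_assoc] using this
    · simp [mat_mul, mat_P, mat_W, mat, coe_H, Pmat, Jmat, Hmat, Matrix.mul_apply,
        Fin.sum_univ_four]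
  obtain ⟨g, hg, hgB⟩ := Set.not_subset.1 hM
  obtain ⟨t₀, ht₀, -⟩ := hext g hg hgB
  have hWPW : ∀ a b, W he * P he a b * W he ∈ M := by
    intro a b
    have h1 : W he * H e he t₀ * P he (((t₀⁻¹ : Fˣ) : F) ^ e * a) (((t₀⁻¹ : Fˣ) : F) ^ (e + 2) * b) *
        (W he * H e he t₀) ∈ M := mul_mem (mul_mem ht₀ (hP _ _)) ht₀
    convert h1 using 1
    rw [← H_conj_P, ← H_inv, inv_inv]
    have h5 : H e he t₀ * W he * H e he t₀ = W he := by
      rw [H_conj_W, mul_assoc, H_mul, inv_mul_cancel, H_one, mul_one]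
    simp only [mul_assoc, mul_inv_cancel_left]
    congr 2
    rw [← mul_assoc, h5]
  have hH : ∀ t, H e he t ∈ M := by
    intro s
    -- the entry at `(3, 0)` runs over all `(t₀ s) ^ (e + 1)`
    obtain ⟨z, hz⟩ := (units_pow_e_bijective he).2 ((t₀ * s) ^ (e + 1))
    have hz' : ((z : F) ^ e) = ((t₀ * s : Fˣ) : F) ^ (e + 1) := by
      simpa using congrArg Units.val hz
    have hval : mat (W he * P he 0 (z : F) * W he) 3 0 = (z : F) ^ e := by
      simp [mat_mul, mat_P, mat_W, Pmat, Jmat, nrm, Matrix.mul_apply, Fin.sum_univ_four]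
    have hnB : W he * P he 0 (z : F) * W he ∉ borel F e := fun h =>
      pow_ne_zero e z.ne_zero (hval ▸ h.2.2)
    obtain ⟨t, ht, htv⟩ := hext _ (hWPW 0 (z : F)) hnB
    rw [hval, hz'] at htv
    have hts : t₀ * s = t := by
      have h6 : ((t₀ * s / t : Fˣ) : F) ^ (e + 1) = 1 := by
        rw [← Units.val_pow_eq_pow_val, div_pow, Units.val_div_eq_div_val,
          Units.val_pow_eq_pow_val, Units.val_pow_eq_pow_val, htv,
          div_self (pow_ne_zero _ t.ne_zero)]
      set r := ((t₀ * s / t : Fˣ) : F) with hr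
      have h7 : r = 1 := by
        have h8 := congrArg (fun x => x ^ e) h6
        simp only [one_pow] at h8
        rw [pow_succ, mul_pow, he.pow_pow] at h8
        rw [pow_succ] at h6
        have hr0 : r ≠ 0 := (t₀ * s / t).ne_zero
        apply mul_left_cancel₀ (mul_ne_zero hr0 (pow_ne_zero e hr0))
        linear_combination h8 - h6
      exact div_eq_one.1 (Units.ext h7)
    have := mul_mem (inv_mem ht₀) ht
    rwa [← hts, _root_.mul_inv_rev, mul_assoc, inv_mul_cancel_left, H_inv, H_mul,
      inv_mul_cancel_left] at this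
  refine closure_gen he M hP hH ?_
  have := mul_mem ht₀ (hH t₀⁻¹)
  rwa [mul_assoc, H_mul, mul_inv_cancel, H_one, mul_one] at this

end CfsgLib.KnownB.Suzuki

namespace CfsgLib.KnownB.Suzuki

open CfsgLib.KnownB.SzElem

variable {F : Type*} [Field F] [Fintype F] {m : ℕ}

lemma eight_le_card (hm : 1 ≤ m) (hF : Fintype.card F = 2 ^ (2 * m + 1)) : 8 ≤ Fintype.card F := by
  rw [hF]
  exact (Nat.pow_le_pow_right two_pos (show 3 ≤ 2 * m + 1 by omega)).trans' (by norm_num)

lemma exists_unit_ne_one (hm : 1 ≤ m) (hF : Fintype.card F = 2 ^ (2 * m + 1)) :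
    ∃ u : Fˣ, u ≠ 1 := by
  classical
  have := eight_le_card hm hF
  have : Nontrivial Fˣ := Fintype.one_lt_card_iff_nontrivial.1 (by rw [Fintype.card_units]; omega)
  exact exists_ne 1

lemma exists_pow_ne {e : ℕ} (he : Twist F e) (hm : 1 ≤ m)
    (hF : Fintype.card F = 2 ^ (2 * m + 1)) : ∃ c : F, c ^ e ≠ c := by
  classical
  by_contra hall
  push Not at hall
  have h := eight_le_card hm hF
  have hsub : (Finset.univ : Finset F) ⊆ {0, 1} := by
    intro c _
    have h2 := he.pow_pow c
    rw [hall, hall] at h2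
    rcases mul_eq_zero.1 (show c * (c - 1) = 0 by linear_combination -h2) with h | h
    · simp [h]
    · simp [sub_eq_zero.1 h]
  have := (Finset.card_le_card hsub).trans Finset.card_le_two
  rw [Finset.card_univ] at this
  omega

end CfsgLib.KnownB.Suzuki
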