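import Cfsg.Agent.Lib.KnownB.SuzukiOvoid
import Cfsg.Agent.Lib.KnownB.SuzukiFacts

set_option autoImplicit false

/-!
Transfer of statements about `Cfsg.Lie.Sz` to the ovoid stabiliser `Cfsg.Sz F m`.
-/

namespace CfsgLib.KnownB.Suzuki

open Cfsg.Lie CfsgLib.KnownB.SzElem

variable {F : Type*} [Field F] [Fintype F] {m : ℕ}

/-- Any Sylow 2-subgroup of the ovoid stabiliser is the image of the unitriangular group. -/
theorem exists_equiv_sylow (hm : 1 ≤ m) (hF : Fintype.card F = 2 ^ (2 * m + 1))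
    (P : Sylow 2 (Cfsg.Sz F m)) :
    ∃ (he : Twist F (2 ^ (m + 1))) (ψ : Sz F (2 ^ (m + 1)) ≃* Cfsg.Sz F m),
      (uGroup he).map ψ.toMonoidHom = (P : Subgroup (Cfsg.Sz F m)) := by
  have : Fact (Nat.Prime 2) := ⟨Nat.prime_two⟩
  obtain ⟨he, φ, -⟩ := exists_equiv_of_card hm hF
  have hpg : IsPGroup 2 ((uGroup he).map φ.toMonoidHom) := (uGroup_isPGroup he).map _
  have hidx : ¬ 2 ∣ ((uGroup he).map φ.toMonoidHom).index := by
    rw [show φ.toMonoidHom = (φ : Sz F (2 ^ (m + 1)) →* Cfsg.Sz F m) from rfl,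
      Subgroup.index_map_equiv]
    exact not_two_dvd_index he
  let Q : Sylow 2 (Cfsg.Sz F m) := hpg.toSylow hidx
  obtain ⟨x, hx⟩ := MulAction.exists_smul_eq (Cfsg.Sz F m) Q P
  refine ⟨he, φ.trans (MulAut.conj x), ?_⟩
  rw [← hx, Sylow.coe_subgroup_smul]
  show _ = ((uGroup he).map φ.toMonoidHom).map (MulAut.conj x).toMonoidHom
  rw [Subgroup.map_map]
  rfl

/-- The coset space of the Borel subgroup as the ovoid, equivariantly. -/
theorem exists_ovoid_equiv (hm : 1 ≤ m) (hF : Fintype.card F = 2 ^ (2 * m + 1)) :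
    ∃ (he : Twist F (2 ^ (m + 1))) (φ : Sz F (2 ^ (m + 1)) ≃* Cfsg.Sz F m)
      (u : Sz F (2 ^ (m + 1)) ⧸ borel F (2 ^ (m + 1)) ≃ Cfsg.suzukiOvoid F m),
      (∀ g x, (φ g • u x : Cfsg.suzukiOvoid F m) = u (g • x)) ∧
      ∀ g, (u (QuotientGroup.mk g) : Projectivization F (Fin 4 → F)) = pt g := by
  obtain ⟨he, φ, hφ⟩ := exists_equiv_of_card hm hF
  let u : Sz F (2 ^ (m + 1)) ⧸ borel F (2 ^ (m + 1)) ≃ Cfsg.suzukiOvoid F m :=
    (Equiv.ofInjective _ ptQ_injective).trans (Equiv.setCongr (range_ptQ he))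
  refine ⟨he, φ, u, fun g x => Subtype.ext ?_, fun g => rfl⟩
  show (φ g : Matrix.SpecialLinearGroup (Fin 4) F) • ptQ F _ x = ptQ F _ (g • x)
  rw [hφ, toSL_smul_ptQ]

lemma card_Sz_formula {G : Type*} (h : G ≃ Sz F (2 ^ (m + 1)))
    (hF : Fintype.card F = 2 ^ (2 * m + 1)) :
    Nat.card G =
      (2 ^ (2 * m + 1)) ^ 2 * ((2 ^ (2 * m + 1)) ^ 2 + 1) * (2 ^ (2 * m + 1) - 1) := by
  rw [Nat.card_congr h, card_Sz (twist_of_card hF), hF]
  ring

end CfsgLib.KnownB.Suzuki
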