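import Cfsg.Agent.Lib.KnownB.SuzukiCentralizer
import Cfsg.Prelude.Def_Transfer
import Mathlib.FieldTheory.Finite.GaloisField

set_option autoImplicit false

/-!
Trivial-intersection elementary abelian 2-subgroups of the Suzuki group and subfields.
-/

namespace CfsgLib.KnownB.Suzuki

open Cfsg.Lie CfsgLib.KnownB.SzElem
open scoped Pointwise

variable {F : Type*} [Field F] [Fintype F] {e : ℕ}

/-- Elements of `E` conjugated back into `E` force the conjugator to normalise `E`. -/
def IsTIWith {G : Type*} [Group G] (E : Subgroup G) : Prop :=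
  ∀ x : G, E ⊓ E.map (MulAut.conj x).toMonoidHom ≠ ⊥ → x ∈ Subgroup.normalizer (E : Set G)

lemma conj_P_zero (he : Twist F e) (c d b : F) (t : Fˣ) :
    P he c d * H e he t * P he 0 b * (P he c d * H e he t)⁻¹ =
      P he 0 ((t : F) ^ (e + 2) * b) := by
  rw [_root_.mul_inv_rev, show P he c d * H e he t * P he 0 b * ((H e he t)⁻¹ * (P he c d)⁻¹) =
    P he c d * (H e he t * P he 0 b * (H e he t)⁻¹) * (P he c d)⁻¹ by simp only [mul_assoc],
    H_conj_P, mul_zero, P_inv, P_mul, P_mul]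
  have h2 := he.two
  have h0 : (0 : F) ^ e = 0 := zero_pow (Nat.ne_zero_of_lt he.one_lt)
  congr 1 <;> simp [he.add_pow, h0] <;> grind

lemma exists_central_of_sq (he : Twist F e) {x : Sz F e} (hx : x ∈ uGroup he) (h : x ^ 2 = 1) :
    ∃ b, x = P he 0 b := by
  obtain ⟨⟨a, b⟩, rfl⟩ := hx
  refine ⟨b, ?_⟩
  show P he a b = P he 0 b
  change P he a b ^ 2 = 1 at h
  rw [pow_two, P_mul, ← P_zero he] at h
  have h1 := (P_injective he h).2
  have h2 := he.two
  rcases mul_eq_zero.1 (show a ^ e * a = 0 by grind) with h3 | h3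
  · rw [pow_eq_zero_iff (Nat.ne_zero_of_lt he.one_lt) |>.1 h3]
  · rw [h3]

theorem dvd_of_TI (hm : ∃ m, Fintype.card F = 2 ^ (2 * m + 1)) (he : Twist F e) (n : ℕ)
    (hn : n ≠ 0) (E : Subgroup (Sz F e)) (hE : Cfsg.IsElementaryAbelian 2 E)
    (hcard : Nat.card E = 2 ^ n) (hTI : IsTIWith E) :
    ∃ m, Fintype.card F = 2 ^ (2 * m + 1) ∧ n ∣ 2 * m + 1 := by
  classical
  obtain ⟨m, hF⟩ := hm
  refine ⟨m, hF, ?_⟩
  have : Fact (Nat.Prime 2) := ⟨Nat.prime_two⟩
  obtain ⟨S, hS⟩ := (IsPGroup.of_card (p := 2) (n := n) hcard).exists_le_sylow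
  obtain ⟨g, hg⟩ := MulAction.exists_smul_eq (Sz F e) S (sylow2 he)
  set φ := MulAut.conj g
  have hU : ∀ x ∈ E, φ x ∈ uGroup he := by
    intro x hx
    rw [← coe_sylow2 he, ← hg, Sylow.coe_subgroup_smul]
    exact Subgroup.smul_mem_pointwise_smul x (MulAut.conj g) _ (hS hx)
  have hb : ∀ x ∈ E, ∃ b, φ x = P he 0 b := fun x hx =>
    exists_central_of_sq he (hU x hx) (by rw [← map_pow, hE.2 x hx, map_one])
  let B : AddSubgroup F :=
    { carrier := {b | φ.symm (P he 0 b) ∈ E}
      zero_mem' := by simp [P_zero]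
      add_mem' := fun {a b} ha hb => by
        change φ.symm (P he 0 a) ∈ E at ha
        change φ.symm (P he 0 b) ∈ E at hb
        show φ.symm (P he 0 (a + b)) ∈ E
        have h := mul_mem ha hb
        rw [← map_mul, P_mul, zero_pow (Nat.ne_zero_of_lt he.one_lt), zero_mul, add_zero,
          add_zero] at h
        exact h
      neg_mem' := fun {a} ha => by
        show φ.symm (P he 0 (-a)) ∈ E
        rw [show -a = a by linear_combination (-a) * he.two]
        exact ha }
  have hBcard : Nat.card B = 2 ^ n := by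
    rw [← hcard]
    refine Nat.card_congr (Equiv.ofBijective (fun b : B => (⟨φ.symm (P he 0 b.1), b.2⟩ : E))
      ⟨fun a b h => Subtype.ext (P_injective he (φ.symm.injective (congrArg Subtype.val h))).2,
        fun x => ?_⟩)
    obtain ⟨b, hb⟩ := hb x.1 x.2
    refine ⟨⟨b, show φ.symm (P he 0 b) ∈ E by rw [← hb, φ.symm_apply_apply]; exact x.2⟩, ?_⟩
    exact Subtype.ext (show φ.symm (P he 0 b) = x.1 by rw [← hb, φ.symm_apply_apply])
  have hmul : ∀ s b : F, s ≠ 0 → b ∈ B → b ≠ 0 → s * b ∈ B → ∀ c ∈ B, s * c ∈ B := by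
    intro s b hs hb hb0 hsb c hc
    obtain ⟨t, ht⟩ := (units_pow_e2_bijective he).2 (Units.mk0 s hs)
    have ht' : (t : F) ^ (e + 2) = s := by simpa using congrArg Units.val ht
    set x := φ.symm (H e he t) with hx
    have hxb : ∀ d : F, MulAut.conj x (φ.symm (P he 0 d)) = φ.symm (P he 0 (s * d)) := by
      intro d
      rw [MulAut.conj_apply, hx, ← map_inv, ← map_mul, ← map_mul, ← ht',
        ← conj_P_zero he 0 0 d t, P_zero, one_mul]
    have hN : x ∈ Subgroup.normalizer (E : Set (Sz F e)) := by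
      refine hTI x fun h => ?_
      rw [Subgroup.eq_bot_iff_forall] at h
      have h1 : φ.symm (P he 0 (s * b)) = 1 := h _ ⟨hsb, φ.symm (P he 0 b), hb, hxb b⟩
      have h2 : P he 0 (s * b) = P he 0 0 := by
        rw [P_zero]; exact φ.symm.injective (h1.trans (map_one _).symm)
      exact mul_ne_zero hs hb0 (P_injective he h2).2
    show φ.symm (P he 0 (s * c)) ∈ E
    rw [← hxb]
    exact (Subgroup.mem_normalizer_iff.1 hN _).1 hc
  obtain ⟨b0, hb0, hb00⟩ : ∃ b ∈ B, b ≠ 0 := by
    by_contra h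
    push Not at h
    have hbot : B = ⊥ := (AddSubgroup.eq_bot_iff_forall B).2 h
    rw [hbot, AddSubgroup.card_bot] at hBcard
    exact hn (Nat.pow_eq_one.1 hBcard.symm |>.resolve_left (by norm_num))
  let R : Subring F :=
    { carrier := {c | ∀ b ∈ B, c * b ∈ B}
      one_mem' := fun b hb => by rwa [one_mul]
      mul_mem' := fun {c d} hc hd b hb => by rw [mul_assoc]; exact hc _ (hd b hb)
      zero_mem' := fun b _ => by rw [zero_mul]; exact B.zero_mem
      add_mem' := fun {c d} hc hd b hb => by rw [add_mul]; exact B.add_mem (hc b hb) (hd b hb)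
      neg_mem' := fun {c} hc b hb => by rw [neg_mul]; exact B.neg_mem (hc b hb) }
  have hmem : ∀ b ∈ B, b / b0 ∈ R := by
    intro b hb
    rcases eq_or_ne b 0 with rfl | hbne
    · rw [zero_div]; exact R.zero_mem
    · exact fun c hc => hmul _ b0 (div_ne_zero hbne hb00) hb0 hb00
        (by rwa [div_mul_cancel₀ _ hb00]) c hc
  have hRcard : Nat.card R = 2 ^ n := by
    rw [← hBcard]
    refine Nat.card_congr ⟨fun c => ⟨c.1 * b0, c.2 b0 hb0⟩, fun b => ⟨b.1 / b0, hmem b.1 b.2⟩,
      fun c => Subtype.ext (mul_div_cancel_right₀ _ hb00),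
      fun b => Subtype.ext (div_mul_cancel₀ _ hb00)⟩
  let K : Subfield F :=
    { R with
      inv_mem' := fun c hc => by
        rcases eq_or_ne c 0 with rfl | hc0
        · rw [inv_zero]; exact R.zero_mem
        · have h1 : c⁻¹ = c ^ (Fintype.card F - 2) := by
            refine inv_eq_of_mul_eq_one_right ?_
            rw [← pow_succ', show Fintype.card F - 2 + 1 = Fintype.card F - 1 by
              have := Fintype.one_lt_card (α := F); omega, FiniteField.pow_card_sub_one_eq_one c hc0]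
          rw [h1]
          exact pow_mem (show c ∈ R from hc) _ }
  have h := Module.natCard_eq_pow_finrank (K := K) (V := F)
  rw [show Nat.card K = 2 ^ n from hRcard, Nat.card_eq_fintype_card, hF, ← pow_mul] at h
  exact ⟨_, Nat.pow_right_injective le_rfl h⟩

theorem exists_TI (he : Twist F e) {m n : ℕ} (hF : Fintype.card F = 2 ^ (2 * m + 1))
    (hn : n ≠ 0) (hdvd : n ∣ 2 * m + 1) :
    ∃ E : Subgroup (Sz F e), Cfsg.IsElementaryAbelian 2 E ∧ Nat.card E = 2 ^ n ∧ IsTIWith E := by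
  classical
  have : Fact (Nat.Prime 2) := ⟨Nat.prime_two⟩
  have : CharP F 2 := CharTwo.of_one_ne_zero_of_two_eq_zero one_ne_zero he.two
  let _ : Algebra (ZMod 2) F := ZMod.algebra F 2
  have hfr : Module.finrank (ZMod 2) F = 2 * m + 1 := by
    apply Nat.pow_right_injective le_rfl
    have h := Module.card_eq_pow_finrank (K := ZMod 2) (V := F)
    rw [ZMod.card, hF] at h
    exact h.symm
  obtain ⟨ι⟩ : Nonempty (GaloisField 2 n →ₐ[ZMod 2] F) :=
    FiniteField.nonempty_algHom_of_finrank_dvd (by rw [GaloisField.finrank 2 hn, hfr]; exact hdvd)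
  have h0 : (0 : F) ^ e = 0 := zero_pow (Nat.ne_zero_of_lt he.one_lt)
  let E : Subgroup (Sz F e) :=
    { carrier := Set.range fun c : GaloisField 2 n => P he 0 (ι c)
      one_mem' := ⟨0, by simp [P_zero]⟩
      mul_mem' := by
        rintro _ _ ⟨c, rfl⟩ ⟨d, rfl⟩
        exact ⟨c + d, by simp [P_mul, h0]⟩
      inv_mem' := by
        rintro _ ⟨c, rfl⟩
        exact ⟨c, by simp [P_inv, h0]⟩ }
  refine ⟨E, ⟨⟨⟨?_⟩⟩, ?_⟩, ?_, ?_⟩
  · rintro ⟨_, c, rfl⟩ ⟨_, d, rfl⟩
    apply Subtype.ext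
    show P he 0 (ι c) * P he 0 (ι d) = P he 0 (ι d) * P he 0 (ι c)
    rw [P_mul, P_mul, h0, zero_mul, add_comm (ι c)]
  · rintro _ ⟨c, rfl⟩
    show P he 0 (ι c) ^ 2 = 1
    rw [pow_two, P_mul, ← P_zero he, h0]
    congr 1
    · ring
    · linear_combination (ι c) * he.two
  · rw [← GaloisField.card 2 n hn]
    exact (Nat.card_range_of_injective (fun c d h => ι.injective (P_injective he h).2))
  · intro x hx
    obtain ⟨⟨y, hyE, hy⟩, hy1'⟩ := Subgroup.ne_bot_iff_exists_ne_one.1 hx
    obtain ⟨c', rfl⟩ := hyE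
    have hy1 : P he 0 (ι c') ≠ 1 := fun h => hy1' (Subtype.ext h)
    obtain ⟨-, ⟨c, rfl⟩, hcc⟩ := hy
    have hc1 : P he 0 (ι c) ≠ 1 := fun h => hy1 (hcc.symm.trans (by simp only [h, map_one]))
    have hcc' : x * P he 0 (ι c) * x⁻¹ = P he 0 (ι c') := hcc
    have hB : x ∈ borel F e :=
      inv_mem_iff.1 (mem_borel_of_conj_fix he hc1 hcc' (P_mem_borel he _ _))
    obtain ⟨u, v, t, rfl⟩ := exists_borel_eq he x hB
    rw [conj_P_zero] at hcc'
    have hs := (P_injective he hcc').2
    have hcne : c ≠ 0 := fun h => hc1 (by rw [h, map_zero, P_zero])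
    have hs' : (t : F) ^ (e + 2) = ι (c' / c) := by
      rw [map_div₀, ← hs, mul_div_assoc, div_self ((map_ne_zero ι).2 hcne), mul_one]
    have hc'ne : c' ≠ 0 := fun h => hy1 (show P he 0 (ι c') = 1 by rw [h, map_zero, P_zero])
    rw [Subgroup.mem_normalizer_iff]
    intro z
    constructor
    · rintro ⟨d, rfl⟩
      exact ⟨c' / c * d, by simp only [conj_P_zero, hs', map_mul]⟩
    · rintro ⟨d, hd⟩
      refine ⟨c / c' * d, ?_⟩
      show P he 0 _ = z
      apply mul_left_cancel (a := P he u v * H e he t)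
      apply mul_right_cancel (b := (P he u v * H e he t)⁻¹)
      rw [conj_P_zero, hs', ← map_mul, ← hd]
      congr 2
      field_simp

end CfsgLib.KnownB.Suzuki
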