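import Cfsg.Agent.Lib.KnownB.SuzukiPartition

set_option autoImplicit false

/-!
The partition of a group isomorphic to the Suzuki group, in isomorphism-invariant form.
-/

namespace CfsgLib.KnownB.Suzuki

open CfsgLib.KnownB.SzElem CfsgLib.KnownB.TICount
open scoped Pointwise

variable {G H : Type*} [Group G] [Group H]

lemma map_centralizer_singleton (φ : G ≃* H) (x : G) :
    (Subgroup.centralizer {x}).map φ.toMonoidHom = Subgroup.centralizer {φ x} := by
  ext y
  obtain ⟨y, rfl⟩ := φ.surjective y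
  rw [show φ y = φ.toMonoidHom y from rfl, Subgroup.mem_map_iff_mem φ.injective,
    Subgroup.mem_centralizer_singleton_iff, Subgroup.mem_centralizer_singleton_iff]
  exact ⟨fun h => by simpa using congrArg φ h,
    fun h => φ.injective (by simpa using h)⟩

/-- Isomorphism-invariant summary of the partition of the Suzuki group. -/
structure SzPartition (G : Type*) [Group G] (n r : ℕ) : Prop where
  cases : ∀ x : G, x ≠ 1 → IsPGroup 2 (Subgroup.centralizer {x}) ∨
    (IsCyclic (Subgroup.centralizer {x}) ∧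
      Nat.card (Subgroup.centralizer {x}) ∈ ({n - 1, n + r + 1, n - r + 1} : Set ℕ) ∧
      ∀ y ∈ Subgroup.centralizer {x}, y ≠ 1 → Subgroup.centralizer {y} = Subgroup.centralizer {x})
  ti : ∀ (P : Sylow 2 G), ∀ g ∈ (P : Subgroup G), g ≠ 1 →
    Subgroup.centralizer {g} ≤ (P : Subgroup G)
  tori : ∀ k ∈ ({n + r + 1, n - r + 1} : Set ℕ), ∃ U : Subgroup G, IsCyclic U ∧
    Nat.card U = k ∧ (∀ u ∈ U, u ≠ 1 → Subgroup.centralizer {u} = U) ∧
    Nat.card (Subgroup.normalizer (U : Set G)) = 4 * k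

theorem SzPartition.congr {n r : ℕ} (φ : G ≃* H) (h : SzPartition G n r) : SzPartition H n r := by
  have hcard : ∀ K : Subgroup G, Nat.card (K.map φ.toMonoidHom) = Nat.card K := fun K =>
    Subgroup.card_map_of_injective φ.injective
  have hcyc : ∀ K : Subgroup G, IsCyclic K → IsCyclic (K.map φ.toMonoidHom) := fun K hK =>
    (MulEquiv.isCyclic (K.equivMapOfInjective _ φ.injective)).1 hK
  refine ⟨?_, ?_, ?_⟩
  · intro x hx
    obtain ⟨x, rfl⟩ := φ.surjective x
    rw [← map_centralizer_singleton]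
    rcases h.cases x (fun h' => hx (by rw [h', map_one])) with h1 | ⟨h1, h2, h3⟩
    · exact Or.inl (h1.map _)
    · refine Or.inr ⟨hcyc _ h1, (hcard _).symm ▸ h2, ?_⟩
      rintro _ ⟨y, hy, rfl⟩ hy1
      show Subgroup.centralizer {φ y} = _
      rw [← map_centralizer_singleton, h3 y hy (fun h' => hy1 (by rw [h', map_one]))]
  · intro P g hg hg1
    obtain ⟨g, rfl⟩ := φ.surjective g
    let P' : Sylow 2 G := P.comapOfInjective φ.toMonoidHom φ.injective (fun y _ => φ.surjective y)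
    have := h.ti P' g hg (fun h' => hg1 (by rw [h', map_one]))
    rw [← map_centralizer_singleton]
    exact Subgroup.map_le_iff_le_comap.2 this
  · intro k hk
    obtain ⟨U, h1, h2, h3, h4⟩ := h.tori k hk
    refine ⟨U.map φ.toMonoidHom, hcyc U h1, (hcard U).trans h2, ?_, ?_⟩
    · rintro _ ⟨u, hu, rfl⟩ hu1
      show Subgroup.centralizer {φ u} = _
      rw [← map_centralizer_singleton, h3 u hu (fun h' => hu1 (by rw [h', map_one]))]
    · rw [← Subgroup.map_normalizer_eq_of_bijective U (f := φ.toMonoidHom) φ.bijective, hcard, h4]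

variable {F : Type*} [Field F] [Fintype F] {e : ℕ}

local notation "q" => Fintype.card F

lemma mem_conjSet_centralizer {A : Subgroup (Cfsg.Lie.Sz F e)}
    (hA : ∀ a ∈ A, a ≠ 1 → Subgroup.centralizer {a} = A) {x : Cfsg.Lie.Sz F e}
    (hx : x ∈ conjSet A) :
    ∃ g, Subgroup.centralizer {x} = A.map (MulAut.conj g).toMonoidHom := by
  obtain ⟨hx1, g, hg⟩ := hx
  refine ⟨g⁻¹, ?_⟩
  rw [← hA _ hg (fun h => hx1 (conj_eq_one_iff.1 h)), map_centralizer_singleton]
  congr 1
  simp [mul_assoc]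

theorem szPartition (hp : Params F e) : SzPartition (Cfsg.Lie.Sz F e) q e := by
  classical
  have he := hp.twist
  obtain ⟨A, B, hA, hB, hcA, hcB, hnA, hnB, hcover⟩ := exists_tori hp
  have hHc : ∀ a ∈ hGroup he, a ≠ 1 → Subgroup.centralizer {a} = hGroup he := by
    rintro _ ⟨t, rfl⟩ ht
    exact centralizer_H he fun h => ht (by rw [h, map_one])
  refine ⟨?_, ?_, ?_⟩
  · intro x hx
    have key : ∀ T : Subgroup (Cfsg.Lie.Sz F e), IsCyclic T →
        (∀ a ∈ T, a ≠ 1 → Subgroup.centralizer {a} = T) → x ∈ conjSet T →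
        IsCyclic (Subgroup.centralizer {x}) ∧ Nat.card (Subgroup.centralizer {x}) = Nat.card T ∧
        ∀ y ∈ Subgroup.centralizer {x}, y ≠ 1 →
          Subgroup.centralizer {y} = Subgroup.centralizer {x} := by
      intro T hT hTc hxT
      obtain ⟨g, hg⟩ := mem_conjSet_centralizer hTc hxT
      rw [hg]
      refine ⟨(MulEquiv.isCyclic (T.equivMapOfInjective _ (MulAut.conj g).injective)).1 hT,
        Subgroup.card_map_of_injective (MulAut.conj g).injective, ?_⟩
      rintro _ ⟨y, hy, rfl⟩ hy1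
      show Subgroup.centralizer {MulAut.conj g y} = _
      rw [← map_centralizer_singleton, hTc y hy (fun h' => hy1 (by rw [h', map_one]))]
    rcases exists_cases hp hx with h | h | h
    · left
      obtain ⟨hx1, g, hg⟩ := h
      have h1 := (uGroup_isPGroup he).to_le
        (centralizer_le_uGroup he hg (fun h => hx1 (conj_eq_one_iff.1 h)))
      rw [show g * x * g⁻¹ = MulAut.conj g x from rfl, ← map_centralizer_singleton] at h1
      exact h1.of_equiv ((Subgroup.centralizer {x}).equivMapOfInjective _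
        (MulAut.conj g).injective).symm
    · obtain ⟨h1, h2, h3⟩ := key _ (hGroup_isCyclic he) hHc h
      exact Or.inr ⟨h1, Or.inl (h2.trans (card_hGroup he)), h3⟩
    · rcases hcover h with h | h
      · obtain ⟨h1, h2, h3⟩ := key A (hA.cyclic hp) (fun a => hA.centralizer_eq hp) h
        exact Or.inr ⟨h1, Or.inr (Or.inl (h2.trans hcA)), h3⟩
      · obtain ⟨h1, h2, h3⟩ := key B (hB.cyclic hp) (fun a => hB.centralizer_eq hp) h
        exact Or.inr ⟨h1, Or.inr (Or.inr (h2.trans hcB)), h3⟩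
  · intro P g hg hg1
    have : Fact (Nat.Prime 2) := ⟨Nat.prime_two⟩
    obtain ⟨x, hx⟩ := MulAction.exists_smul_eq (Cfsg.Lie.Sz F e) (sylow2 he) P
    rw [← hx, Sylow.coe_subgroup_smul, coe_sylow2] at hg ⊢
    obtain ⟨u, hu, hug⟩ := hg
    have h1 := centralizer_le_uGroup he hu (fun h => hg1 (by rw [← hug, h]; exact map_one (MulAut.conj x)))
    rw [← hug]
    intro y hy
    refine Subgroup.mem_pointwise_smul_iff_inv_smul_mem.2 (h1 ?_)
    rw [Subgroup.mem_centralizer_singleton_iff] at hy ⊢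
    have hy' : Commute y (x * u * x⁻¹) := hy
    have := (commute_conj (g := x⁻¹) hy').eq
    simpa [mul_assoc] using this
  · rintro k (rfl | rfl)
    · exact ⟨A, hA.cyclic hp, hcA, fun u => hA.centralizer_eq hp, hcA ▸ hnA⟩
    · exact ⟨B, hB.cyclic hp, hcB, fun u => hB.centralizer_eq hp, hcB ▸ hnB⟩

/-- The partition of the ovoid stabiliser. -/
theorem szPartition_ovoid {m : ℕ} (hm : 1 ≤ m) (hF : Fintype.card F = 2 ^ (2 * m + 1)) :
    SzPartition (Cfsg.Sz F m) (2 ^ (2 * m + 1)) (2 ^ (m + 1)) := by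
  obtain ⟨-, φ, -⟩ := exists_equiv_of_card hm hF
  exact hF ▸ (szPartition (params_of_card hm hF)).congr φ

/-- The three torus orders are odd, larger than one and distinct divisors. -/
lemma torus_orders {m : ℕ} (hm : 1 ≤ m) {k : ℕ}
    (hk : k ∈ ({2 ^ (2 * m + 1) - 1, 2 ^ (2 * m + 1) + 2 ^ (m + 1) + 1,
      2 ^ (2 * m + 1) - 2 ^ (m + 1) + 1} : Set ℕ)) :
    1 < k ∧ ¬ 2 ∣ k ∧ ∀ k' ∈ ({2 ^ (2 * m + 1) - 1, 2 ^ (2 * m + 1) + 2 ^ (m + 1) + 1,
      2 ^ (2 * m + 1) - 2 ^ (m + 1) + 1} : Set ℕ), k ∣ k' → k = k' := by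
  have h4 : 4 ≤ 2 ^ (m + 1) :=
    le_trans (by norm_num) (Nat.pow_le_pow_right two_pos (show 2 ≤ m + 1 by omega))
  have h2 : 2 ^ (m + 1) * 2 ^ (m + 1) = 2 * 2 ^ (2 * m + 1) := by rw [← pow_add]; ring
  have he2 : 2 ∣ 2 ^ (m + 1) := dvd_pow_self 2 (by omega)
  have hq2 : 2 ∣ 2 ^ (2 * m + 1) := dvd_pow_self 2 (by omega)
  generalize 2 ^ (m + 1) = r at h4 h2 he2 hk ⊢
  generalize 2 ^ (2 * m + 1) = n at h2 hq2 hk ⊢
  have h8 : 2 * r ≤ n := by nlinarith
  refine ⟨?_, ?_, ?_⟩
  · rcases hk with rfl | rfl | rfl <;> omega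
  · rcases hk with rfl | rfl | rfl <;> omega
  · intro k' hk' hdvd
    by_contra hne
    obtain ⟨c, hc⟩ := hdvd
    rcases (show c = 0 ∨ c = 1 ∨ c = 2 ∨ 3 ≤ c by omega) with rfl | rfl | rfl | hc3
    rotate_right
    · have h9 : k * 3 ≤ k' := hc ▸ Nat.mul_le_mul_left k hc3
      clear hc
      rcases hk with rfl | rfl | rfl <;> rcases hk' with rfl | rfl | rfl <;> omega
    all_goals rcases hk with rfl | rfl | rfl <;> rcases hk' with rfl | rfl | rfl <;> omega

end CfsgLib.KnownB.Suzuki
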