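import Cfsg.Agent.Lib.Chevalley.TablesSupp
import Cfsg.Agent.Lib.Chevalley.Levi
import Cfsg.Agent.Lib.Chevalley.PosProduct
import Cfsg.Agent.Lib.KnownB.Steinberg.Alt
import Cfsg.Agent.Lib.KGroups.CharP
import Cfsg.Agent.Lib.Solvable.Cores
import Cfsg.Agent.Lib.Chevalley.Twist.OrbitProd

/-!
Proper standard parabolic subgroups are `p`-constrained with trivial core of order prime to `p`.
-/

set_option autoImplicit false
set_option maxRecDepth 20000

namespace CfsgLib.KnownB.ParabolicFStar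

open CfsgLib.Chevalley CfsgLib.Chevalley.Tbl

/-- For distinct nodes `i`, `k` some positive root through `k` is moved by the reflection at `i`,
and some has a sum with the fundamental root `i`. -/
def chkSpread (T : Tbl) : Bool :=
  allLt (fun i => allLt (fun k => Nat.beq i k ||
    (((List.range T.n).any fun r =>
        Nat.ble T.half r && !decide (T.co r k = 0) && !Nat.beq (T.refl i r) r) &&
      (List.range T.n).any fun r =>
        Nat.ble T.half r && !decide (T.co r k = 0) && (T.sum? (T.simple i) r).isSome)) T.rank) T.rank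

theorem exists_tbl_spread {D : Cfsg.Lie.ChevalleyDatum}
    (hD : D ∈ [Cfsg.Lie.chevG2, Cfsg.Lie.chevB2, Cfsg.Lie.chevD4, Cfsg.Lie.chevF4, Cfsg.Lie.chevE6,
      Cfsg.Lie.chevE7, Cfsg.Lie.chevE8]) :
    ∃ T : Tbl, T.Valid ∧ T.chkComm = true ∧ T.chkSupp = true ∧ chkSpread T = true ∧ T.datum = D := by
  simp only [List.mem_cons, List.not_mem_nil, or_false] at hD
  rcases hD with rfl | rfl | rfl | rfl | rfl | rfl | rfl
  · exact ⟨_, Data.G2.valid, Data.G2.chkComm, Data.G2.chkSupp, by decide +kernel, Data.G2.datum_eq⟩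
  · exact ⟨_, Data.B2.valid, Data.B2.chkComm, Data.B2.chkSupp, by decide +kernel, Data.B2.datum_eq⟩
  · exact ⟨_, Data.D4.valid, Data.D4.chkComm, Data.D4.chkSupp, by decide +kernel, Data.D4.datum_eq⟩
  · exact ⟨_, Data.F4.valid, Data.F4.chkComm, Data.F4.chkSupp, by decide +kernel, Data.F4.datum_eq⟩
  · exact ⟨_, Data.E6.valid, Data.E6.chkComm, Data.E6.chkSupp, by decide +kernel, Data.E6.datum_eq⟩
  · exact ⟨_, Data.E7.valid, Data.E7.chkComm, Data.E7.chkSupp, by decide +kernel, Data.E7.datum_eq⟩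
  · exact ⟨_, Data.E8.valid, Data.E8.chkComm, Data.E8.chkSupp, by decide +kernel, Data.E8.datum_eq⟩

variable {T : Tbl} {F : Type*} [Field F] (hT : T.Valid) (hC : T.chkComm = true) (hS : T.chkSupp = true)
include hT

theorem spread (hX : chkSpread T = true) {i k : ℕ} (hi : i < T.rank) (hk : k < T.rank) (hne : i ≠ k) :
    (∃ r < T.n, T.half ≤ r ∧ T.co r k ≠ 0 ∧ T.refl i r ≠ r) ∧
      ∃ r < T.n, T.half ≤ r ∧ T.co r k ≠ 0 ∧ ∃ u N, T.sum? (T.simple i) r = some (u, N) := by
  have h := allLt_iff.mp (allLt_iff.mp hX i hi) k hk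
  simp only [Bool.or_eq_true, Nat.beq_eq, hne, false_or, Bool.and_eq_true, List.any_eq_true,
    List.mem_range, Nat.ble_eq, Bool.not_eq_true', decide_eq_false_iff_not] at h
  obtain ⟨⟨r, hr, ⟨hp, hco⟩, hmov⟩, ⟨s, hs, ⟨hsp, hsco⟩, hsum⟩⟩ := h
  refine ⟨⟨r, hr, hp, hco, fun e => ?_⟩, ⟨s, hs, hsp, hsco, ?_⟩⟩
  · rw [e, Nat.beq_refl] at hmov
    exact Bool.noConfusion hmov
  · obtain ⟨⟨u, N⟩, e⟩ := Option.isSome_iff_exists.mp hsum
    exact ⟨u, N, e⟩

/-- A root subgroup of the radical lies in it. -/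
theorem out_mem {J : Set ℕ} (hS : T.chkSupp = true) {r k : ℕ} (hr : r < T.n) (hp : T.half ≤ r)
    (hk : k < T.rank) (hkJ : k ∉ J) (hco : T.co r k ≠ 0) (t : F) :
    T.xU F r t ∈ T.datum.unipotentRadical F J := by
  rw [unipotentRadical_eq hT]
  exact xU_mem_rootGen (P := fun r => T.datum.IsPosRoot r ∧ ¬ T.datum.InRootSub J r) hr
    ⟨(posRoot_iff hT).mpr ⟨hr, hp⟩, fun h => hco ((supp_inSub hT hS hr).mp h k hk hkJ)⟩ t

include hC

/-- Conjugation by an element of `B` scales the leading coordinate. -/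
theorem conj_lead {χ : ℕ → Fˣ} (hχ : T.IsChar χ) {u : GL T.I F}
    (hu : u ∈ T.rootGen F (fun r => T.half ≤ r)) {r : ℕ} (hr : r < T.n) (hp : T.half ≤ r) (t : F) :
    ∃ g ∈ T.rootGen F (fun s => r + 1 ≤ s),
      u * T.dU χ * T.xU F r t * (u * T.dU χ)⁻¹ = T.xU F r ((χ r : F) * t) * g := by
  set x := T.xU F r ((χ r : F) * t)
  have hx : x ∈ T.rootGen F (fun s => r ≤ s) := xU_mem_rootGen (P := fun s => r ≤ s) hr le_rfl _
  refine ⟨x⁻¹ * (u * x * u⁻¹), ?_, ?_⟩
  · have h := commutator_mem hT hC hp (inv_mem hx) hu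
    rw [commutatorElement_def, inv_inv] at h
    simpa [mul_assoc] using h
  · calc u * T.dU χ * T.xU F r t * (u * T.dU χ)⁻¹ = u * (T.dU χ * T.xU F r t) * (T.dU χ)⁻¹ * u⁻¹ := by group
      _ = x * (x⁻¹ * (u * x * u⁻¹)) := by
        rw [dU_conj_X hT hχ hr, mul_inv_cancel_left, ← mul_assoc u, mul_inv_cancel_right]

/-- Conjugation by an element of `B` cannot lower a root. -/
theorem conj_ne {b : GL T.I F} (hb : b ∈ T.datum.borelSubgroup F) {r s : ℕ} (hr : r < T.n)
    (hp : T.half ≤ r) (hs : T.half ≤ s) (hlt : s < r) {a : F} (ha : a ≠ 0) :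
    b * T.xU F r 1 * b⁻¹ ≠ T.xU F s a := by
  intro e
  obtain ⟨u, hu, h, hh, rfl⟩ := (mem_borel_iff hT).mp hb
  rw [posUnipotent_rootGen hT] at hu
  obtain ⟨χ, hχ, rfl⟩ := diag_exists_char hT hh
  obtain ⟨g, hg, e'⟩ := conj_lead hT hC hχ hu hr hp 1
  have hmem : T.xU F r ((χ r : F) * 1) * g ∈ T.rootGen F (fun v => s + 1 ≤ v) :=
    mul_mem (xU_mem_rootGen (P := fun v => s + 1 ≤ v) hr hlt _) (rootGen_mono (fun _ _ h => by omega) hg)
  obtain ⟨h1, -⟩ := xU_mul_inj hT hC hs (hlt.trans hr) (one_mem _) hmem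
    (t := a) (t' := 0) (by rw [xU_zero hT (hlt.trans hr), one_mul, mul_one, ← e, e'])
  exact ha h1

omit hC in
theorem parabolic_le_group' (J : Set ℕ) : T.datum.parabolicSubgroup F J ≤ T.datum.group F := by
  refine sup_le (borel_le_group hT) ((Subgroup.closure_le _).mpr ?_)
  rintro g ⟨j, -, hj, hg⟩
  rw [(eq_nMat_simple_iff hT hj g).mp hg]
  exact nU_mem_group hT (simple_lt hT hj) _

theorem isPGroup_fstar [Fintype F] (p : ℕ) [Fact p.Prime] [CharP F p] (hS : T.chkSupp = true)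
    (hX : chkSpread T = true) {J : Set ℕ} (hJ : ∃ i, i < T.rank ∧ i ∉ J) :
    IsPGroup p ↥(Cfsg.generalizedFittingSubgroup ↥(T.datum.parabolicSubgroup F J)) := by
  obtain ⟨k, hk, hkJ⟩ := hJ
  set P := T.datum.parabolicSubgroup F J with hP
  have hPG : P ≤ T.datum.group F := parabolic_le_group' hT J
  have hBP : T.datum.borelSubgroup F ≤ P := le_sup_left
  haveI : Finite ↥P := inferInstance
  set Q := (T.datum.unipotentRadical F J).subgroupOf P with hQ
  have hUle : T.datum.unipotentRadical F J ≤ T.rootGen F (fun r => T.half ≤ r) := by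
    rw [unipotentRadical_eq hT]
    exact rootGen_mono fun r _ h => ((posRoot_iff hT).mp h.1).2
  haveI hQn : Q.Normal :=
    ⟨fun x hx g => (Subgroup.mem_normalizer_iff.mp (parabolic_le_normalizer hT hC hS J g.2) _).mp hx⟩
  haveI hCn : (Subgroup.centralizer (Q : Set ↥P)).Normal := Subgroup.normal_centralizer
  set C := Subgroup.centralizer (Q : Set ↥P) with hCdef
  set B := (T.datum.borelSubgroup F).subgroupOf P
  -- what an element centralising the radical does to a root
  have hcomm : ∀ c ∈ C, ∀ {r : ℕ}, r < T.n → T.half ≤ r → T.co r k ≠ 0 → ∀ t : F,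
      (c : GL T.I F) * T.xU F r t = T.xU F r t * (c : GL T.I F) := by
    intro c hc r hr hp hco t
    have hx : T.xU F r t ∈ T.datum.unipotentRadical F J := out_mem hT hS hr hp hk hkJ hco t
    have hxP : T.xU F r t ∈ P := hBP (pos_le_borel hT hr hp t)
    have := hc ⟨T.xU F r t, hxP⟩ hx
    exact (congrArg Subtype.val this).symm
  -- the centraliser lies in `B`
  have hCB : C ≤ B := by
    set M : Subgroup ↥(T.datum.group F) := ((C ⊔ B).map P.subtype).subgroupOf (T.datum.group F)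
    let N := bnPair hT hC F
    have hBM : N.B ≤ M := fun b hb => Subgroup.mem_subgroupOf.mpr
      ⟨⟨b, hBP (Subgroup.mem_subgroupOf.mp hb)⟩, Subgroup.mem_sup_right (Subgroup.mem_subgroupOf.mp hb), rfl⟩
    have hno : N.S ∩ (M : Set ↥(T.datum.group F)) = ∅ := by
      by_contra hne
      obtain ⟨s, ⟨i, hi, hs⟩, hsM⟩ := Set.nonempty_iff_ne_empty.mpr hne
      obtain ⟨y, hy, ey⟩ := Subgroup.mem_subgroupOf.mp hsM
      obtain ⟨c, hc, b, hb, rfl⟩ := Subgroup.mem_sup_of_normal_left.mp hy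
      have en : T.nU F (T.simple i) 1 = (c : GL T.I F) * (b : GL T.I F) := by
        rw [← (eq_nMat_simple_iff hT hi _).mp hs]; exact ey.symm
      have hnP : T.nU F (T.simple i) 1 ∈ P := en ▸ mul_mem c.2 b.2
      have hiJ : i ∈ J := by
        by_contra hiJ
        have hp := simple_lt hT hi
        have hpp : T.half ≤ T.simple i := isPos_iff.mp (simple_pos hT hi)
        have hco : T.co (T.simple i) i ≠ 0 := by rw [co_simple hT hi hi, if_pos rfl]; exact one_ne_zero
        have h1 : T.nU F (T.simple i) 1 * T.xU F (T.simple i) (-1) * (T.nU F (T.simple i) 1)⁻¹ ∈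
            T.datum.unipotentRadical F J :=
          (Subgroup.mem_normalizer_iff.mp (parabolic_le_normalizer hT hC hS J hnP) _).mp
            (out_mem hT hS hp hpp hi hiJ hco (-1))
        rw [nU_conj hT hp, neg_neg, mul_inv_cancel_right] at h1
        have h2 : T.xU F (T.neg (T.simple i)) 1 ∈ T.datum.negUnipotent F := by
          rw [negUnipotent_rootGen hT]
          exact xU_mem_rootGen (P := fun r => r < T.half) (neg_lt' hp)
            (negF_lt (T := T) (s := ⟨_, hp⟩) hpp) _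
        have h3 : T.xU F (T.neg (T.simple i)) 1 ∈ T.datum.borelSubgroup F :=
          Subgroup.mem_sup_left ((posUnipotent_rootGen (F := F) hT).symm ▸ hUle h1)
        have h0 := (borel_inf_neg (T := T) (F := F) hT).le ⟨h3, h2⟩
        rw [Subgroup.mem_bot, ← xU_zero hT (neg_lt' hp)] at h0
        exact one_ne_zero (xU_inj hT (neg_lt' hp) h0)
      obtain ⟨r0, hr0, hp0, hco0, hmov⟩ := (spread hT hX hi hk (fun e => hkJ (e ▸ hiJ))).1
      obtain ⟨r, hr, hp, hco, hlt⟩ : ∃ r < T.n, T.half ≤ r ∧ T.co r k ≠ 0 ∧ T.refl i r < r := by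
        rcases lt_or_gt_of_ne hmov with h | h
        · exact ⟨r0, hr0, hp0, hco0, h⟩
        have hco' : T.co (T.refl i r0) k = T.co r0 k := by
          rw [co_refl hT hi hr0 hk, if_neg (fun e : k = i => hkJ (e ▸ hiJ)), sub_zero]
        refine ⟨T.refl i r0, refl_lt hT hi hr0, hp0.trans h.le, hco' ▸ hco0, ?_⟩
        rwa [refl_refl hT hi hr0]
      set s' := T.refl i r
      have hs' : s' < T.n := refl_lt hT hi hr
      have hco' : T.co s' k ≠ 0 := by
        rw [co_refl hT hi hr hk, if_neg (fun e : k = i => hkJ (e ▸ hiJ)), sub_zero]; exact hco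
      have hsp : T.half ≤ s' := half_le_of_co hT hs' hk
        (lt_of_le_of_ne (by
          rw [co_refl hT hi hr hk, if_neg (fun e : k = i => hkJ (e ▸ hiJ)), sub_zero]
          exact co_nonneg hT hr (isPos_iff.mpr hp) hk) (Ne.symm hco'))
      have ha : (T.eta i r : F) * 1 ≠ 0 := by
        rcases eta_sq hT hi hr with h' | h' <;> simp [h']
      refine conj_ne hT hC (Subgroup.mem_subgroupOf.mp hb) hr hp hsp hlt ha ?_
      have e1 := nU_simple_xU (F := F) hT hi hr 1
      rw [en] at e1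
      have e2 := hcomm c hc hs' hsp hco' ((T.eta i r : F) * 1)
      calc (b : GL T.I F) * T.xU F r 1 * (b : GL T.I F)⁻¹
          = (c : GL T.I F)⁻¹ * ((c : GL T.I F) * b * T.xU F r 1) * (b : GL T.I F)⁻¹ := by group
        _ = (c : GL T.I F)⁻¹ * (T.xU F s' ((T.eta i r : F) * 1) * c) := by
            rw [e1, show T.refl i r = s' from rfl]; group
        _ = T.xU F s' ((T.eta i r : F) * 1) := by rw [← e2]; group
    have hM := BNPair.Parabolic.eq_parabolic N hBM
    rw [hno] at hM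
    intro c hc
    have hcM : (⟨c, hPG c.2⟩ : ↥(T.datum.group F)) ∈ M :=
      Subgroup.mem_subgroupOf.mpr ⟨c, Subgroup.mem_sup_left hc, rfl⟩
    rw [hM, Cfsg.BNPair.parabolic, Subgroup.closure_empty, sup_bot_eq] at hcM
    exact Subgroup.mem_subgroupOf.mpr (Subgroup.mem_subgroupOf.mp hcM)
  -- inside `B` it lies in `U`
  have hCU : ∀ c ∈ C, (c : GL T.I F) ∈ T.rootGen F (fun r => T.half ≤ r) := by
    intro c hc
    obtain ⟨u, hu, h, hh, e⟩ := (mem_borel_iff hT).mp (Subgroup.mem_subgroupOf.mp (hCB hc))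
    rw [posUnipotent_rootGen hT] at hu
    obtain ⟨χ, hχ, rfl⟩ := diag_exists_char hT hh
    have hout : ∀ r < T.n, T.half ≤ r → T.co r k ≠ 0 → χ r = 1 := by
      intro r hr hp hco
      obtain ⟨g, hg, e'⟩ := conj_lead hT hC hχ hu hr hp 1
      rw [← e, hcomm c hc hr hp hco, mul_inv_cancel_right] at e'
      obtain ⟨h1, -⟩ := xU_mul_inj hT hC hp hr (one_mem _) hg (t := (1 : F)) (by rw [mul_one]; exact e')
      exact Units.ext (by simpa using h1.symm)
    have hd : T.dU χ = (1 : GL T.I F) := dU_eq_one_of_simple hT hχ fun i hi => by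
      by_cases hik : i = k
      · subst hik
        exact hout _ (simple_lt hT hi) (isPos_iff.mp (simple_pos hT hi))
          (by rw [co_simple hT hi hi, if_pos rfl]; exact one_ne_zero)
      obtain ⟨r, hr, hp, hco, v, N, hsum⟩ := (spread hT hX hi hk hik).2
      have hv : v < T.n := sum?_lt hT (simple_lt hT hi) hr hsum
      have hcov : T.co v k = T.co r k := by
        rw [co_sum hT (simple_lt hT hi) hr hsum hk, co_simple hT hi hk, if_neg (Ne.symm hik), zero_add]
      have hpos : 0 < T.co r k := lt_of_le_of_ne (co_nonneg hT hr (isPos_iff.mpr hp) hk) (Ne.symm hco)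
      have h1 := hout v hv (half_le_of_co hT hv hk (hcov ▸ hpos)) (hcov ▸ hco)
      rwa [hχ.add _ (simple_lt hT hi) r hr v N hsum, hout r hr hp hco, mul_one] at h1
    rw [e, hd, mul_one]
    exact hu
  have hUp : ∀ K : Subgroup ↥P, (∀ c ∈ K, (c : GL T.I F) ∈ T.rootGen F (fun r => T.half ≤ r)) →
      IsPGroup p ↥K := by
    intro K hK
    have hU := CfsgLib.KnownB.Steinberg.isPGroup_pos (F := F) hT hC p
    rintro ⟨c, hc⟩
    obtain ⟨n, hn⟩ := hU ⟨⟨(c : GL T.I F), hPG c.2⟩, by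
      rw [Subgroup.mem_subgroupOf, posUnipotent_rootGen hT]; exact hK c hc⟩
    refine ⟨n, Subtype.ext (Subtype.ext ?_)⟩
    have := congrArg (fun x : ↥((T.datum.posUnipotent F).subgroupOf (T.datum.group F)) =>
      ((x : ↥(T.datum.group F)) : GL T.I F)) hn
    simpa using this
  have hQp : Q ≤ Cfsg.pCore p ↥P :=
    CfsgLib.Solvable.Cores.le_pCore (hUp Q fun c hc => hUle hc)
  have hCp : C ≤ Cfsg.pCore p ↥P := CfsgLib.Solvable.Cores.le_pCore (hUp C hCU)
  have hcen : Subgroup.centralizer (Cfsg.pCore p ↥P : Set ↥P) ≤ Cfsg.pCore p ↥P :=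
    (Subgroup.centralizer_le hQp).trans hCp
  rw [CfsgLib.KGroups.CharP.generalizedFitting_eq_pCore hcen]
  exact CfsgLib.Solvable.Cores.isPGroup_pCore p

end CfsgLib.KnownB.ParabolicFStar
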