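import Cfsg.Agent.Lib.KnownB.SuzukiBasic

set_option autoImplicit false

/-!
Order, double transitivity, generation and simplicity of `Cfsg.Lie.Sz F e`.
-/

namespace CfsgLib.KnownB.Suzuki

open Matrix Cfsg.Lie CfsgLib.KnownB.SzElem
open scoped Pointwise

variable {F : Type*} [Field F] {e : ℕ}

lemma sq_inj (he : Twist F e) {x y : F} (h : x ^ 2 = y ^ 2) : x = y := by
  have h2 := he.two
  have h3 : (x + y) * (x + y) = 0 := by linear_combination h + h2 * (x * y + y ^ 2)
  have h4 := mul_self_eq_zero.1 h3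
  linear_combination h4 - h2 * y

lemma eq_one_of_pow_e2 (he : Twist F e) {s : F} (hs : s ^ (e + 2) = 1) : s = 1 := by
  have hpp := he.pow_pow s
  have h1 : (s ^ (e + 2)) ^ e = 1 := by rw [hs, one_pow]
  rw [pow_add, mul_pow, hpp, pow_right_comm s 2 e] at h1
  have h2 : s ^ e * s ^ 2 = 1 := by rw [← pow_add]; exact hs
  have hs0 : s ≠ 0 := by rintro rfl; simp at hs
  have h3 : s ^ e = 1 := by
    apply mul_right_cancel₀ (mul_ne_zero (pow_ne_zero 2 hs0) (pow_ne_zero e hs0))
    linear_combination h1 - h2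
  rw [h3, one_mul] at h2
  exact sq_inj he (by rw [h2, one_pow])

lemma eq_one_of_pow_e (he : Twist F e) {s : F} (hs : s ^ e = 1) : s = 1 := by
  have hpp := he.pow_pow s
  rw [hs, one_pow] at hpp
  exact sq_inj he (by rw [← hpp, one_pow])

variable [Finite F]

lemma units_pow_e2_bijective (he : Twist F e) : Function.Bijective fun t : Fˣ => t ^ (e + 2) :=
  Finite.injective_iff_bijective.1 fun a b h => by
    have h1 : (a / b) ^ (e + 2) = 1 := by rw [div_pow, h, div_self']
    have h2 : ((a / b : Fˣ) : F) = 1 := eq_one_of_pow_e2 he (by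
      rw [← Units.val_pow_eq_pow_val, h1, Units.val_one])
    exact div_eq_one.1 (Units.ext h2)

lemma units_pow_e_bijective (he : Twist F e) : Function.Bijective fun t : Fˣ => t ^ e :=
  Finite.injective_iff_bijective.1 fun a b h => by
    have h1 : (a / b) ^ e = 1 := by rw [div_pow, h, div_self']
    have h2 : ((a / b : Fˣ) : F) = 1 := eq_one_of_pow_e he (by
      rw [← Units.val_pow_eq_pow_val, h1, Units.val_one])
    exact div_eq_one.1 (Units.ext h2)

omit [Finite F]

lemma W_notMem_borel (he : Twist F e) : W he ∉ borel F e := by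
  simp [mem_borel, mat_W, Jmat]

lemma P_W_P_mem_borel_iff (he : Twist F e) {a b c d : F}
    (h : (P he a b * W he)⁻¹ * (P he c d * W he) ∈ borel F e) : a = c ∧ b = d := by
  have h2 := he.two
  rw [_root_.mul_inv_rev, W_inv, P_inv, mul_assoc, ← mul_assoc (P he _ _) (P he _ _) (W he), P_mul,
    mem_borel] at h
  obtain ⟨h1, h3, -⟩ := h
  simp [mat_mul, mat_P, mat_W, Jmat, Pmat, Matrix.mul_apply, Fin.sum_univ_four] at h1 h3
  have hac : a = c := by linear_combination h1 - h2 * c
  subst hac
  exact ⟨rfl, by grind⟩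

/-- The standard representatives of the cosets of the Borel subgroup. -/
def cosetRep (he : Twist F e) : Option (F × F) → Sz F e
  | none => 1
  | some p => P he p.1 p.2 * W he

/-- The points of the ovoid as cosets. -/
theorem cosetRep_bijective (he : Twist F e) :
    Function.Bijective (fun o => (QuotientGroup.mk (cosetRep he o) : Sz F e ⧸ borel F e)) := by
  refine ⟨?_, ?_⟩
  · rintro (_ | ⟨a, b⟩) (_ | ⟨c, d⟩) h <;>
      simp only [cosetRep, QuotientGroup.eq] at h
    · rfl
    · rw [inv_one, one_mul] at h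
      exact absurd ((Subgroup.mul_mem_cancel_left _ (P_mem_borel he c d)).1 h) (W_notMem_borel he)
    · rw [mul_one, Subgroup.inv_mem_iff] at h
      exact absurd ((Subgroup.mul_mem_cancel_left _ (P_mem_borel he a b)).1 h) (W_notMem_borel he)
    · obtain ⟨rfl, rfl⟩ := P_W_P_mem_borel_iff he h
      rfl
  · intro x
    induction x using QuotientGroup.induction_on with | _ g =>
    by_cases hg : g ∈ borel F e
    · exact ⟨none, QuotientGroup.eq.2 (by simpa [cosetRep] using hg)⟩
    · obtain ⟨a, b, c, d, t, rfl⟩ := exists_bruhat' he g hg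
      refine ⟨some (a, b), QuotientGroup.eq.2 ?_⟩
      simp only [cosetRep, mul_assoc, inv_mul_cancel_left]
      rw [_root_.mul_inv_rev, mul_assoc, inv_mul_cancel_left, inv_mul_cancel_left]
      exact mul_mem (P_mem_borel he c d) (H_mem_borel he t)

lemma borel_equiv_bijective (he : Twist F e) :
    Function.Bijective (fun x : F × F × Fˣ => (⟨P he x.1 x.2.1 * H e he x.2.2,
      mul_mem (P_mem_borel he _ _) (H_mem_borel he _)⟩ : borel F e)) := by
  refine ⟨?_, fun g => ?_⟩
  · rintro ⟨a, b, s⟩ ⟨c, d, t⟩ h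
    have h1 : P he a b * H e he s = P he c d * H e he t := congrArg Subtype.val h
    have hd := congrFun (congrFun (congrArg mat h1) 1) 1
    simp [mat_mul, mat_P, mat, coe_H, Pmat, Hmat, Matrix.mul_apply, Fin.sum_univ_four] at hd
    obtain rfl : s = t := Units.ext hd
    obtain ⟨rfl, rfl⟩ := P_injective he (mul_right_cancel h1)
    rfl
  · obtain ⟨a, b, t, h⟩ := exists_borel_eq he g.1 g.2
    exact ⟨(a, b, t), Subtype.ext h.symm⟩

lemma borel_mul (he : Twist F e) (a b c d : F) (s t : Fˣ) :
    P he a b * H e he s * (P he c d * H e he t) =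
      P he (a + (s : F) ^ e * c) (b + (s : F) ^ (e + 2) * d + a ^ e * ((s : F) ^ e * c)) *
        H e he (s * t) := by
  rw [← P_mul, ← H_conj_P, ← H_mul]
  simp [mul_assoc]

/-- The projection of the Borel subgroup on the torus. -/
noncomputable def torusHom (he : Twist F e) : borel F e →* Fˣ :=
  MonoidHom.mk'
    (fun g => ((Equiv.ofBijective _ (borel_equiv_bijective he)).symm g).2.2) (fun g h => by
    obtain ⟨⟨a, b, s⟩, rfl⟩ := (Equiv.ofBijective _ (borel_equiv_bijective he)).surjective g
    obtain ⟨⟨c, d, t⟩, rfl⟩ := (Equiv.ofBijective _ (borel_equiv_bijective he)).surjective h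
    have e1 : (Equiv.ofBijective _ (borel_equiv_bijective he)) (a, b, s) *
        (Equiv.ofBijective _ (borel_equiv_bijective he)) (c, d, t) =
        (Equiv.ofBijective _ (borel_equiv_bijective he))
          (a + (s : F) ^ e * c, b + (s : F) ^ (e + 2) * d + a ^ e * ((s : F) ^ e * c), s * t) :=
      Subtype.ext (borel_mul he a b c d s t)
    show ((Equiv.ofBijective _ (borel_equiv_bijective he)).symm _).2.2 = _
    rw [e1]
    simp only [Equiv.symm_apply_apply])

lemma torusHom_apply (he : Twist F e) (a b : F) (t : Fˣ)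
    (h : P he a b * H e he t ∈ borel F e) : torusHom he ⟨_, h⟩ = t := by
  show ((Equiv.ofBijective _ (borel_equiv_bijective he)).symm
    ((Equiv.ofBijective _ (borel_equiv_bijective he)) (a, b, t))).2.2 = t
  rw [Equiv.symm_apply_apply]

lemma H_conj_W (he : Twist F e) (t : Fˣ) : H e he t * W he = W he * H e he t⁻¹ := by
  rw [← W_conj_H he t, ← mul_assoc, ← mul_assoc, W_mul_W, one_mul]

/-- The Borel subgroup is the stabiliser of the base point and `T` is transitive on the others. -/
theorem two_pretransitive (he : Twist F e) :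
    MulAction.IsMultiplyPretransitive (Sz F e) (Sz F e ⧸ borel F e) 2 := by
  have key : ∀ a b : Sz F e ⧸ borel F e, a ≠ b → ∃ g : Sz F e,
      g • (QuotientGroup.mk 1 : Sz F e ⧸ borel F e) = a ∧ g • (QuotientGroup.mk (W he)) = b := by
    intro a b hab
    obtain ⟨g, rfl⟩ := QuotientGroup.mk_surjective a
    obtain ⟨o, ho⟩ := (cosetRep_bijective he).2 (g⁻¹ • b)
    match o, ho with
    | none, ho =>
      exfalso
      apply hab
      have h2 : g • (QuotientGroup.mk (1 : Sz F e) : Sz F e ⧸ borel F e) = b := by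
        show g • (QuotientGroup.mk (cosetRep he none) : Sz F e ⧸ borel F e) = b
        simp only at ho
        rw [ho, smul_inv_smul]
      rw [← h2, MulAction.Quotient.smul_mk, smul_eq_mul, mul_one]
    | some (c, d), ho =>
      refine ⟨g * P he c d, ?_, ?_⟩
      · rw [mul_smul, MulAction.Quotient.smul_mk, MulAction.Quotient.smul_mk, smul_eq_mul,
          smul_eq_mul, mul_one, QuotientGroup.eq]
        simp [P_mem_borel]
      · simp only [cosetRep] at ho
        rw [mul_smul]
        show g • (QuotientGroup.mk (P he c d * W he) : Sz F e ⧸ borel F e) = b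
        rw [ho, smul_inv_smul]
  rw [MulAction.is_two_pretransitive_iff]
  intro a b c d hab hcd
  obtain ⟨g, hg1, hg2⟩ := key a b hab
  obtain ⟨h, hh1, hh2⟩ := key c d hcd
  exact ⟨h * g⁻¹, by rw [← hg1, mul_smul, inv_smul_smul, hh1],
    by rw [← hg2, mul_smul, inv_smul_smul, hh2]⟩

lemma card_coset (he : Twist F e) [Fintype F] :
    Nat.card (Sz F e ⧸ borel F e) = Fintype.card F ^ 2 + 1 := by
  rw [← Nat.card_congr (Equiv.ofBijective _ (cosetRep_bijective he))]
  simp [pow_two]

lemma card_borel (he : Twist F e) [Fintype F] :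
    Nat.card (borel F e) = Fintype.card F ^ 2 * (Fintype.card F - 1) := by
  rw [← Nat.card_congr (Equiv.ofBijective _ (borel_equiv_bijective he)), Nat.card_prod, Nat.card_prod,
    Nat.card_units, Nat.card_eq_fintype_card]
  ring

/-- The order of the Suzuki group. -/
theorem card_Sz (he : Twist F e) [Fintype F] :
    Nat.card (Sz F e) =
      Fintype.card F ^ 2 * (Fintype.card F - 1) * (Fintype.card F ^ 2 + 1) := by
  rw [Subgroup.card_eq_card_quotient_mul_card_subgroup (borel F e), card_coset he, card_borel he]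
  ring

/-- Generators. -/
theorem closure_gen (he : Twist F e) (K : Subgroup (Sz F e)) (hP : ∀ a b, P he a b ∈ K)
    (hH : ∀ t, H e he t ∈ K) (hW : W he ∈ K) : K = ⊤ := by
  rw [eq_top_iff]
  intro g _
  by_cases hg : g ∈ borel F e
  · obtain ⟨a, b, t, rfl⟩ := exists_borel_eq he g hg
    exact mul_mem (hP a b) (hH t)
  · obtain ⟨a, b, c, d, t, rfl⟩ := exists_bruhat' he g hg
    exact mul_mem (mul_mem (mul_mem (hP a b) hW) (hP c d)) (hH t)

variable [Finite F]

/-- A normal subgroup containing one central root element contains all of them. -/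
lemma centre_mem_of_mem (he : Twist F e) {N : Subgroup (Sz F e)} [hN : N.Normal] {b : F}
    (hb : b ≠ 0) (hm : P he 0 b ∈ N) (c : F) : P he 0 c ∈ N := by
  rcases eq_or_ne c 0 with rfl | hc
  · rw [P_zero]; exact one_mem _
  obtain ⟨t, ht⟩ := (units_pow_e2_bijective he).2 (Units.mk0 c hc / Units.mk0 b hb)
  have h := hN.conj_mem _ hm (H e he t)
  rw [H_conj_P, mul_zero] at h
  have h2 := congrArg Units.val ht
  simp only [Units.val_pow_eq_pow_val, Units.val_div_eq_div_val, Units.val_mk0] at h2
  rwa [h2, div_mul_cancel₀ _ hb] at h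

/-- The normal closure of the centre of the unitriangular group is everything. -/
theorem eq_top_of_centre_mem (he : Twist F e) {N : Subgroup (Sz F e)} [hN : N.Normal]
    (hq : ∃ u : Fˣ, u ≠ 1) {b : F} (hb : b ≠ 0) (hm : P he 0 b ∈ N) : N = ⊤ := by
  have hZ := centre_mem_of_mem he (N := N) hb hm
  have h2 := he.two
  have hLmem : L e he 1 ∈ N := by
    have h := hN.conj_mem _ (hZ 1) (W he)
    convert h using 1
    apply mat_injective
    rw [W_inv, mat_mul, mat_mul, mat_W, mat_P]
    show Lmat e 1 = _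
    have h0 : (0 : F) ^ e = 0 := zero_pow (Nat.ne_zero_of_lt he.one_lt)
    ext i j
    fin_cases i <;> fin_cases j <;>
      simp [Lmat, Jmat, Pmat, nrm, Matrix.mul_apply, Fin.sum_univ_four, h0, Matrix.vecMul,
        dotProduct]
  have hB : W he * (P he 1 0)⁻¹ * L e he 1 ∈ borel F e := by
    apply mem_borel_of_col he
    rw [P_inv, mat_mul, mat_mul, mat_W, mat_P]
    have h0 : (0 : F) ^ e = 0 := zero_pow (Nat.ne_zero_of_lt he.one_lt)
    simp [mat, coe_L, Lmat, Jmat, Pmat, nrm, Matrix.mul_apply, Fin.sum_univ_four, h0]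
    grind
  obtain ⟨c, d, s, hs⟩ := exists_borel_eq he _ hB
  let π := QuotientGroup.mk' N
  have hπ : ∀ x, x ∈ N → π x = 1 := fun x hx => (QuotientGroup.eq_one_iff x).2 hx
  have hW : π (W he) = π (P he c d * H e he s * P he 1 0) := by
    have h := congrArg π hs
    rw [map_mul π _ (L e he 1), hπ _ hLmem, mul_one] at h
    rw [map_mul π _ (P he 1 0), ← h, ← map_mul, inv_mul_cancel_right]
  -- modulo `N` the torus lies in the unitriangular group
  have hH : ∀ u : Fˣ, ∃ x y, π (H e he u) = π (P he x y) := by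
    intro u
    obtain ⟨r, hr⟩ : ∃ r : Fˣ, r ^ 2 = u := by
      have hinj : Function.Injective fun t : Fˣ => t ^ 2 := fun a b h =>
        Units.ext (sq_inj he (by simpa using congrArg Units.val h))
      exact (Finite.injective_iff_bijective.1 hinj).2 u
    obtain ⟨x, y, w, hB2⟩ := exists_borel_eq he
      ((P he c d * H e he s * P he 1 0) * H e he r * (P he c d * H e he s * P he 1 0)⁻¹ *
        (H e he r)⁻¹) (by
      have hX : P he c d * H e he s * P he 1 0 ∈ borel F e :=
        mul_mem (mul_mem (P_mem_borel he c d) (H_mem_borel he s)) (P_mem_borel he 1 0)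
      exact mul_mem (mul_mem (mul_mem hX (H_mem_borel he r)) (inv_mem hX))
        (inv_mem (H_mem_borel he r)))
    have hw : w = 1 := by
      have hX : P he c d * H e he s * P he 1 0 ∈ borel F e :=
        mul_mem (mul_mem (P_mem_borel he c d) (H_mem_borel he s)) (P_mem_borel he 1 0)
      let X' : borel F e := ⟨_, hX⟩
      let R : borel F e := ⟨_, H_mem_borel he r⟩
      have hm : P he x y * H e he w ∈ borel F e :=
        mul_mem (P_mem_borel he x y) (H_mem_borel he w)
      have hEq : (⟨_, hm⟩ : borel F e) = X' * R * X'⁻¹ * R⁻¹ := Subtype.ext hB2.symm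
      have h := congrArg (torusHom he) hEq
      rw [torusHom_apply] at h
      rw [h, map_mul, map_mul, map_mul, map_inv, map_inv, mul_comm (torusHom he X'),
        mul_inv_cancel_right, mul_inv_cancel]
    rw [hw, H_one, mul_one] at hB2
    have h := congrArg π hB2
    simp only [map_mul, map_inv] at h hW
    rw [← hW, ← map_inv π (W he), ← map_mul, ← map_mul, W_inv, W_conj_H, ← map_inv, ← map_mul, H_inv,
      H_mul] at h
    refine ⟨x, y + x ^ e * x, ?_⟩
    have h3 := congrArg (·⁻¹) h
    simp only [← map_inv, H_inv, P_inv] at h3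
    convert h3 using 3
    rw [← hr, _root_.mul_inv_rev, inv_inv, pow_two]
  -- modulo `N` the unitriangular group is commutative
  have hPP : ∀ a b c d, π (P he a b) * π (P he c d) = π (P he c d) * π (P he a b) := by
    intro a b c d
    rw [← map_mul, ← map_mul, P_mul, P_mul, show P he (a + c) (b + d + a ^ e * c) =
      P he 0 (a ^ e * c + c ^ e * a) * P he (c + a) (d + b + c ^ e * a) by
        rw [P_mul]
        congr 1
        · ring
        · rw [zero_pow (Nat.ne_zero_of_lt he.one_lt), zero_mul]; grind,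
      map_mul, hπ _ (hZ _), one_mul]
  have hall : ∀ a b, P he a b ∈ N := by
    intro a b
    obtain ⟨u, hu⟩ := hq
    obtain ⟨t, ht⟩ := (units_pow_e_bijective he).2 u
    have htne : (t : F) ^ e ≠ 1 := by
      intro h
      apply hu
      rw [← ht]
      exact Units.ext (by rw [Units.val_pow_eq_pow_val, h, Units.val_one])
    set a' := a / ((t : F) ^ e + 1)
    have hne : (t : F) ^ e + 1 ≠ 0 := fun h => htne (by grind)
    obtain ⟨x, y, hxy⟩ := hH t
    have h := congrArg π (H_conj_P he t a' 0)
    rw [map_mul, map_mul, map_inv, hxy, hPP, mul_inv_cancel_right, mul_zero] at h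
    have h2' : π (P he a' 0 * (P he ((t : F) ^ e * a') 0)⁻¹) = 1 := by
      rw [map_mul, h, ← map_mul, mul_inv_cancel, map_one]
    rw [P_inv, P_mul] at h2'
    have ha : a' + (t : F) ^ e * a' = a := by
      simp only [a']; field_simp; ring
    rw [ha] at h2'
    have h5 := (QuotientGroup.eq_one_iff _).1 h2'
    set z := 0 + (0 + ((t : F) ^ e * a') ^ e * ((t : F) ^ e * a')) + a' ^ e * ((t : F) ^ e * a')
    have h4 := mul_mem (hZ (b + z)) h5
    rw [P_mul, zero_add, zero_pow (Nat.ne_zero_of_lt he.one_lt), zero_mul, add_zero] at h4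
    rwa [show b + z + z = b by grind] at h4
  refine closure_gen he N hall (fun t => ?_) ?_
  · obtain ⟨x, y, hxy⟩ := hH t
    exact (QuotientGroup.eq_one_iff _).1 (hxy.trans (hπ _ (hall x y)))
  · obtain ⟨x, y, hxy⟩ := hH s
    refine (QuotientGroup.eq_one_iff _).1 (hW.trans ?_)
    rw [map_mul, map_mul, hπ _ (hall _ _), hπ _ (hall _ _), hxy, hπ _ (hall x y)]
    simp

/-- Perfect. -/
theorem commutator_eq_top (he : Twist F e) (hq : ∃ u : Fˣ, u ≠ 1) :
    commutator (Sz F e) = ⊤ := by
  obtain ⟨u, hu⟩ := hq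
  obtain ⟨t, ht⟩ := (units_pow_e2_bijective he).2 u
  have hne : (t : F) ^ (e + 2) + 1 ≠ 0 := by
    intro h
    apply hu
    rw [← ht]
    exact Units.ext (by rw [Units.val_pow_eq_pow_val, Units.val_one]; linear_combination h - he.two)
  have hmem : P he 0 ((t : F) ^ (e + 2) + 1) ∈ commutator (Sz F e) := by
    have h2 : H e he t * P he 0 1 * (H e he t)⁻¹ * (P he 0 1)⁻¹ =
        P he 0 ((t : F) ^ (e + 2) + 1) := by
      rw [H_conj_P, mul_zero, mul_one, P_inv, P_mul]
      simp [zero_pow (Nat.ne_zero_of_lt he.one_lt)]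
    rw [← h2, commutator_def]
    exact Subgroup.commutator_mem_commutator (Subgroup.mem_top _) (Subgroup.mem_top _)
  exact eq_top_of_centre_mem he ⟨u, hu⟩ hne hmem

/-- The centre of the unitriangular group. -/
def zGroup (he : Twist F e) : Subgroup (Sz F e) where
  carrier := Set.range fun b => P he 0 b
  one_mem' := ⟨0, P_zero he⟩
  mul_mem' := by
    rintro _ _ ⟨a, rfl⟩ ⟨b, rfl⟩
    exact ⟨a + b, by simp [P_mul, zero_pow (Nat.ne_zero_of_lt he.one_lt)]⟩
  inv_mem' := by
    rintro _ ⟨a, rfl⟩
    exact ⟨a, by simp [P_inv, zero_pow (Nat.ne_zero_of_lt he.one_lt)]⟩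

lemma borel_conj_z (he : Twist F e) {g : Sz F e} (hg : g ∈ borel F e) :
    MulAut.conj g • zGroup he = zGroup he := by
  obtain ⟨a, b, t, rfl⟩ := exists_borel_eq he g hg
  have h0 : (0 : F) ^ e = 0 := zero_pow (Nat.ne_zero_of_lt he.one_lt)
  have key : ∀ c, (P he a b * H e he t) * P he 0 c * (P he a b * H e he t)⁻¹ =
      P he 0 ((t : F) ^ (e + 2) * c) := by
    intro c
    rw [_root_.mul_inv_rev, mul_assoc (P he a b), mul_assoc (P he a b), ← mul_assoc _ (H e he t)⁻¹,
      H_conj_P, ← mul_assoc, P_inv, P_mul, P_mul]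
    have h2 := he.two
    congr 1 <;> simp [h0] <;> grind
  ext x
  simp only [Subgroup.mem_pointwise_smul_iff_inv_smul_mem]
  constructor
  · rintro ⟨c, hc⟩
    have h2 : x = (P he a b * H e he t) * P he 0 c * (P he a b * H e he t)⁻¹ := by
      simp only at hc
      rw [hc]
      simp [MulAut.smul_def, mul_assoc]
    exact ⟨_, (h2.trans (key c)).symm⟩
  · rintro ⟨c, rfl⟩
    refine ⟨((t : F) ^ (e + 2))⁻¹ * c, ?_⟩
    have h3 := key (((t : F) ^ (e + 2))⁻¹ * c)
    rw [← mul_assoc, mul_inv_cancel₀ (pow_ne_zero _ t.ne_zero), one_mul] at h3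
    simp only [← h3]
    simp [MulAut.smul_def, mul_assoc]

/-- The action on cosets of the Borel subgroup is faithful. -/
theorem faithful (he : Twist F e) : FaithfulSMul (Sz F e) (Sz F e ⧸ borel F e) := by
  refine ⟨fun {g h} hgh => ?_⟩
  suffices h1 : h⁻¹ * g = 1 from (inv_mul_eq_one.1 h1).symm
  set k := h⁻¹ * g
  have hk : ∀ y : Sz F e, y⁻¹ * k * y ∈ borel F e := by
    intro y
    have := hgh (QuotientGroup.mk y)
    rw [MulAction.Quotient.smul_mk, MulAction.Quotient.smul_mk, smul_eq_mul, smul_eq_mul,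
      eq_comm, QuotientGroup.eq] at this
    simpa [k, mul_assoc] using this
  have h1 := hk 1
  have h2 := hk (W he)
  have h3 := hk (P he 1 0 * W he)
  have h4 := hk (P he 0 1 * W he)
  simp only [inv_one, one_mul, mul_one] at h1
  obtain ⟨a, b, t, ht⟩ := exists_borel_eq he k h1
  rw [ht, W_inv, mul_assoc, mul_assoc, ← mul_assoc (W he), H_conj_W, ← mul_assoc] at h2
  rw [Subgroup.mul_mem_cancel_right _ (H_mem_borel he _)] at h2
  have hab := P_W_P_mem_borel_iff he (a := 0) (b := 0) (c := a) (d := b)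
    (by rwa [P_zero, one_mul, W_inv, ← mul_assoc])
  obtain ⟨rfl, rfl⟩ := hab
  rw [P_zero, one_mul] at ht
  have hh : ∀ c d : F, (P he c d * W he)⁻¹ * k * (P he c d * W he) ∈ borel F e →
      (t : F) ^ e * c = c ∧ (t : F) ^ (e + 2) * d = d := by
    intro c d hcd
    have e1 : k * (P he c d * W he) =
        P he ((t : F) ^ e * c) ((t : F) ^ (e + 2) * d) * W he * H e he t⁻¹ := by
      rw [ht, ← H_conj_P]
      simp [mul_assoc, ← H_conj_W]
    rw [mul_assoc, e1, ← mul_assoc, Subgroup.mul_mem_cancel_right _ (H_mem_borel he _)] at hcd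
    obtain ⟨h5, h6⟩ := P_W_P_mem_borel_iff he hcd
    exact ⟨h5.symm, h6.symm⟩
  have ht1 : (t : F) = 1 := eq_one_of_pow_e he (by simpa using (hh 1 0 h3).1)
  rw [ht, show t = 1 from Units.ext ht1, H_one]

/-- Simplicity. -/
theorem isSimpleGroup (he : Twist F e) (hq : ∃ u : Fˣ, u ≠ 1) : IsSimpleGroup (Sz F e) := by
  have h2t := two_pretransitive (F := F) he
  have hprim := MulAction.isPreprimitive_of_is_two_pretransitive h2t
  have : Nontrivial (Sz F e) := ⟨W he, 1, fun h => W_notMem_borel he (h ▸ one_mem _)⟩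
  let T : (Sz F e ⧸ borel F e) → Subgroup (Sz F e) := fun x => MulAut.conj x.out • zGroup he
  have hT : ∀ g, T (QuotientGroup.mk g) = MulAut.conj g • zGroup he := by
    intro g
    obtain ⟨b, hb⟩ := QuotientGroup.mk_out_eq_mul (borel F e) g
    simp only [T, hb, map_mul, mul_smul, borel_conj_z he b.2]
  let I : MulAction.IwasawaStructure (Sz F e) (Sz F e ⧸ borel F e) :=
    { T := T
      is_comm := fun x => by
        obtain ⟨g, rfl⟩ := QuotientGroup.mk_surjective x
        rw [hT]
        refine ⟨⟨?_⟩⟩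
        rintro ⟨_, _, ⟨a, rfl⟩, rfl⟩ ⟨_, _, ⟨b, rfl⟩, rfl⟩
        apply Subtype.ext
        show MulAut.conj g (P he 0 a) * MulAut.conj g (P he 0 b) =
          MulAut.conj g (P he 0 b) * MulAut.conj g (P he 0 a)
        rw [← map_mul, ← map_mul, P_mul, P_mul]
        simp [zero_pow (Nat.ne_zero_of_lt he.one_lt), add_comm]
      is_conj := fun g x => by
        obtain ⟨k, rfl⟩ := QuotientGroup.mk_surjective x
        rw [MulAction.Quotient.smul_mk, hT, hT, smul_eq_mul, map_mul, mul_smul]
      is_generator := by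
        rw [eq_top_iff]
        have hN : (Subgroup.normalClosure (Set.range fun b : F => P he 0 b)) = ⊤ :=
          eq_top_of_centre_mem he hq one_ne_zero (Subgroup.subset_normalClosure ⟨1, rfl⟩)
        rw [← hN]
        refine Subgroup.closure_le _ |>.2 ?_
        intro x hx
        obtain ⟨z, ⟨b, rfl⟩, hz⟩ := Group.mem_conjugatesOfSet_iff.1 hx
        obtain ⟨g, hg⟩ := isConj_iff.1 hz
        refine Subgroup.mem_iSup_of_mem (QuotientGroup.mk g) ?_
        rw [hT]
        exact ⟨P he 0 b, ⟨b, rfl⟩, hg⟩ }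
  exact MulAction.IwasawaStructure.isSimpleGroup (commutator_eq_top he hq) I (faithful he)

end CfsgLib.KnownB.Suzuki
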