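import Cfsg.Agent.Lib.KnownB.SzElem

set_option autoImplicit false

/-!
`Cfsg.Lie.Sz F e` is exactly the set of symplectic matrices with `g* = g^θ`; the Bruhat decomposition
with respect to the stabiliser of the line of the first basis vector.
-/

namespace CfsgLib.KnownB.Suzuki

open Matrix Cfsg.Lie CfsgLib.KnownB.SzElem

variable {F : Type*} [Field F] {e : ℕ}

/-- The antidiagonal matrix. -/
def Jmat : Matrix (Fin 4) (Fin 4) F := !![0, 0, 0, 1; 0, 0, 1, 0; 0, 1, 0, 0; 1, 0, 0, 0]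

lemma Jmat_sq : (Jmat : Matrix (Fin 4) (Fin 4) F) * Jmat = 1 := by
  ext i j
  fin_cases i <;> fin_cases j <;> simp [Jmat, Matrix.mul_apply, Fin.sum_univ_four]

lemma altForm4_eq (u v : Fin 4 → F) : altForm4 u v = u ⬝ᵥ (Jmat *ᵥ v) := by
  simp [altForm4, Jmat, dotProduct, Matrix.mulVec, Fin.sum_univ_four]

lemma transpose_mul_J {g : GL (Fin 4) F} (hg : g ∈ Sp4 F) :
    (g : Matrix (Fin 4) (Fin 4) F)ᵀ * Jmat * (g : Matrix (Fin 4) (Fin 4) F) = Jmat := by
  ext i j
  have h := hg (Pi.single i 1) (Pi.single j 1)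
  rw [altForm4_eq, altForm4_eq] at h
  simp only [Units.coeHom_apply, mulVec_mulVec] at h
  rw [Matrix.mul_assoc, Matrix.mul_apply]
  simpa [mulVec_single_one, dotProduct, Pi.single_apply] using h

lemma mul_J_transpose {g : GL (Fin 4) F} (hg : g ∈ Sp4 F) :
    (g : Matrix (Fin 4) (Fin 4) F) * Jmat * (g : Matrix (Fin 4) (Fin 4) F)ᵀ = Jmat := by
  have h : (Jmat * (g : Matrix (Fin 4) (Fin 4) F)ᵀ * Jmat) * (g : Matrix (Fin 4) (Fin 4) F) = 1 := by
    rw [Matrix.mul_assoc, Matrix.mul_assoc, ← Matrix.mul_assoc _ Jmat, transpose_mul_J hg, Jmat_sq]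
  have h2 := congrArg (fun X => X * Jmat) (mul_eq_one_comm.1 h)
  simpa [Matrix.mul_assoc, Jmat_sq] using h2

/-- `g*` is multiplicative on `Sp₄` in characteristic two. -/
lemma star4_mul (h2 : (2 : F) = 0) {g h : GL (Fin 4) F} (hg : g ∈ Sp4 F) (hh : h ∈ Sp4 F) :
    star4 ((g * h : GL (Fin 4) F) : Matrix (Fin 4) (Fin 4) F) =
      star4 (g : Matrix (Fin 4) (Fin 4) F) * star4 (h : Matrix (Fin 4) (Fin 4) F) := by
  have hr := mul_J_transpose hg
  have hc := transpose_mul_J hh
  rw [Units.val_mul]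
  generalize (g : Matrix (Fin 4) (Fin 4) F) = A at hr ⊢
  generalize (h : Matrix (Fin 4) (Fin 4) F) = B at hc ⊢
  ext p r
  have e1 := congrFun (congrFun hr (pairOf p).1) (pairOf p).2
  have e2 := congrFun (congrFun hc (pairOf r).1) (pairOf r).2
  fin_cases p <;> fin_cases r <;>
    simp [star4, pairOf, Matrix.mul_apply, Fin.sum_univ_four, Jmat] at e1 e2 ⊢ <;> grind

/-- The defining condition. -/
def Cond (e : ℕ) (g : GL (Fin 4) F) : Prop :=
  g ∈ Sp4 F ∧ star4 (g : Matrix (Fin 4) (Fin 4) F) =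
    (g : Matrix (Fin 4) (Fin 4) F).map (fun x => x ^ e)

/-- `x ↦ x ^ e` as a ring homomorphism. -/
def theta (he : Twist F e) : F →+* F where
  toFun x := x ^ e
  map_one' := one_pow e
  map_mul' x y := mul_pow x y e
  map_zero' := zero_pow (Nat.ne_zero_of_lt he.one_lt)
  map_add' := he.add_pow

lemma star4_one : star4 (1 : Matrix (Fin 4) (Fin 4) F) = 1 := by
  ext p r
  fin_cases p <;> fin_cases r <;> simp [star4, pairOf, Matrix.one_apply]

theorem mem_Sz_iff (he : Twist F e) {g : GL (Fin 4) F} : g ∈ Sz F e ↔ Cond e g := by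
  have hmap : ∀ A : Matrix (Fin 4) (Fin 4) F, A.map (fun x => x ^ e) = (theta he).mapMatrix A :=
    fun A => rfl
  refine ⟨fun hg => ?_, fun hg => Subgroup.subset_closure hg⟩
  induction hg using Subgroup.closure_induction with
  | mem x hx => exact hx
  | one =>
    refine ⟨one_mem _, ?_⟩
    rw [Units.val_one, star4_one, hmap, map_one]
  | mul x y _ _ hx hy =>
    refine ⟨mul_mem hx.1 hy.1, ?_⟩
    rw [star4_mul he.two hx.1 hy.1, hx.2, hy.2, hmap, hmap, hmap, Units.val_mul, map_mul]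
  | inv x _ hx =>
    refine ⟨inv_mem hx.1, ?_⟩
    have h1 := star4_mul he.two (inv_mem hx.1) hx.1
    rw [inv_mul_cancel, Units.val_one, star4_one, hx.2, hmap] at h1
    rw [hmap]
    refine left_inv_eq_right_inv h1.symm ?_
    rw [← map_mul, Units.mul_inv, map_one]

/-- The norm form of the ovoid. -/
def nrm (e : ℕ) (a b : F) : F := a ^ (e + 2) + a * b + b ^ e

/-- Upper unitriangular elements. -/
def Pmat (e : ℕ) (a b : F) : Matrix (Fin 4) (Fin 4) F :=
  !![1, a, a ^ (e + 1) + b, nrm e a b; 0, 1, a ^ e, b; 0, 0, 1, a; 0, 0, 0, 1]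

lemma Pmat_mul (he : Twist F e) (a b c d : F) :
    Pmat e a b * Pmat e c d = Pmat e (a + c) (b + d + a ^ e * c) := by
  have h2 := he.two
  have hpp : ((a ^ e : F)) ^ e = a ^ 2 := he.pow_pow a
  ext i j
  fin_cases i <;> fin_cases j <;>
    simp [Pmat, nrm, Matrix.mul_apply, Fin.sum_univ_four, he.add_pow, mul_pow, pow_add, hpp] <;>
    grind

lemma Pmat_zero (he : Twist F e) : Pmat e (0 : F) 0 = 1 := by
  have h0 : (0 : F) ^ e = 0 := zero_pow (Nat.ne_zero_of_lt he.one_lt)
  ext i j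
  fin_cases i <;> fin_cases j <;> simp [Pmat, nrm, h0]

lemma Pmat_mul_inv (he : Twist F e) (a b : F) :
    Pmat e a b * Pmat e a (b + a ^ e * a) = 1 := by
  have h2 := he.two
  rw [Pmat_mul he, ← Pmat_zero he]
  congr 1 <;> grind

lemma Pmat_mem (he : Twist F e) (a b : F) :
    (⟨Pmat e a b, Pmat e a (b + a ^ e * a), Pmat_mul_inv he a b,
      mul_eq_one_comm.mp (Pmat_mul_inv he a b)⟩ : GL (Fin 4) F) ∈ Sz F e :=
  mem_Sz_of (M := Pmat e a b) rfl
    (fun u v => by
      have h2 := he.two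
      simp [Pmat, nrm, altForm4, Matrix.mulVec, dotProduct, Fin.sum_univ_four]
      grind)
    (by
      have h2 := he.two
      have hpa := he.pow_pow a
      have hpb := he.pow_pow b
      have h0 : (0 : F) ^ e = 0 := zero_pow (Nat.ne_zero_of_lt he.one_lt)
      have hsq : ∀ x : F, (x ^ 2) ^ e = (x ^ e) ^ 2 := fun x => pow_right_comm x 2 e
      ext i j
      fin_cases i <;> fin_cases j <;>
        simp [Pmat, nrm, star4, pairOf, h0, he.add_pow, mul_pow, pow_add, hpa, hpb, hsq] <;> grind)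

/-- Upper unitriangular elements of the Suzuki group. -/
def P (he : Twist F e) (a b : F) : Sz F e :=
  ⟨⟨Pmat e a b, Pmat e a (b + a ^ e * a), Pmat_mul_inv he a b,
      mul_eq_one_comm.mp (Pmat_mul_inv he a b)⟩, Pmat_mem he a b⟩

/-- The Weyl element. -/
def W (he : Twist F e) : Sz F e :=
  ⟨mkUnit Jmat Jmat Jmat_sq, mem_Sz_of (M := Jmat) rfl
    (fun u v => by
      simp [Jmat, altForm4, Matrix.mulVec, dotProduct, Fin.sum_univ_four]
      ring)
    (by
      have h2 := he.two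
      have h0 : (0 : F) ^ e = 0 := zero_pow (Nat.ne_zero_of_lt he.one_lt)
      ext i j
      fin_cases i <;> fin_cases j <;> simp [Jmat, star4, pairOf, h0] <;> grind)⟩

/-- The matrix of an element. -/
abbrev mat (g : Sz F e) : Matrix (Fin 4) (Fin 4) F := ((g : GL (Fin 4) F) : Matrix (Fin 4) (Fin 4) F)

lemma mat_P (he : Twist F e) (a b : F) : mat (P he a b) = Pmat e a b := rfl

lemma mat_W (he : Twist F e) : mat (W he) = Jmat := rfl

lemma mat_mul (g h : Sz F e) : mat (g * h) = mat g * mat h := rfl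

lemma mat_injective : Function.Injective (mat (F := F) (e := e)) := fun g h hgh =>
  Subtype.ext (Units.ext hgh)

lemma P_mul (he : Twist F e) (a b c d : F) :
    P he a b * P he c d = P he (a + c) (b + d + a ^ e * c) :=
  mat_injective (Pmat_mul he a b c d)

lemma P_zero (he : Twist F e) : P he 0 0 = 1 := mat_injective (Pmat_zero he)

lemma P_inv (he : Twist F e) (a b : F) : (P he a b)⁻¹ = P he a (b + a ^ e * a) :=
  inv_eq_of_mul_eq_one_right (mat_injective (Pmat_mul_inv he a b))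

lemma W_mul_W (he : Twist F e) : W he * W he = 1 := mat_injective Jmat_sq

lemma W_inv (he : Twist F e) : (W he)⁻¹ = W he := inv_eq_of_mul_eq_one_right (W_mul_W he)

lemma P_injective (he : Twist F e) {a b c d : F} (h : P he a b = P he c d) : a = c ∧ b = d := by
  have h' : Pmat e a b = Pmat e c d := congrArg mat h
  exact ⟨by simpa [Pmat] using congrFun (congrFun h' 0) 1,
    by simpa [Pmat] using congrFun (congrFun h' 1) 3⟩

lemma P_zero_eq_U (he : Twist F e) (b : F) : P he 0 b = U e he b := by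
  apply mat_injective
  rw [mat_P]
  show Pmat e 0 b = Umat e b
  have h0 : (0 : F) ^ e = 0 := zero_pow (Nat.ne_zero_of_lt he.one_lt)
  ext i j
  fin_cases i <;> fin_cases j <;> simp [Pmat, Umat, nrm, h0]

lemma H_mul (he : Twist F e) (s t : Fˣ) : H e he s * H e he t = H e he (s * t) := by
  apply mat_injective
  show Hmat e (s : F) * Hmat e (t : F) = Hmat e ((s * t : Fˣ) : F)
  rw [Hmat, Hmat, Hmat, diagonal_mul_diagonal]
  congr 1
  ext i
  fin_cases i <;> simp [mul_pow, mul_comm]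

lemma H_one (he : Twist F e) : H e he 1 = 1 := by
  apply mat_injective
  show Hmat e ((1 : Fˣ) : F) = 1
  rw [Hmat, ← diagonal_one]
  congr 1
  ext i
  fin_cases i <;> simp

lemma H_inv (he : Twist F e) (t : Fˣ) : (H e he t)⁻¹ = H e he t⁻¹ :=
  inv_eq_of_mul_eq_one_right (by rw [H_mul, mul_inv_cancel, H_one])

lemma H_injective (he : Twist F e) : Function.Injective (H e he) := fun s t h => by
  refine Units.ext ?_
  have h2 := congrFun (congrFun (congrArg mat h) 1) 1
  simpa [mat, coe_H, Hmat] using h2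

/-- The torus normalises the unitriangular group. -/
lemma H_conj_P (he : Twist F e) (t : Fˣ) (a b : F) :
    H e he t * P he a b * (H e he t)⁻¹ = P he ((t : F) ^ e * a) ((t : F) ^ (e + 2) * b) := by
  rw [H_inv]
  apply mat_injective
  show Hmat e (t : F) * Pmat e a b * Hmat e ((t⁻¹ : Fˣ) : F) = Pmat e _ _
  have ht := t.ne_zero
  have hpp := he.pow_pow (t : F)
  rw [Units.val_inv_eq_inv_val]
  ext i j
  fin_cases i <;> fin_cases j <;>
    simp [Hmat, Pmat, nrm, Matrix.mul_apply, Fin.sum_univ_four, Matrix.diagonal_apply, mul_pow, pow_add,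
      hpp] <;>
    field_simp <;> ring

lemma W_conj_H (he : Twist F e) (t : Fˣ) : W he * H e he t * W he = H e he t⁻¹ := by
  apply mat_injective
  show Jmat * Hmat e (t : F) * Jmat = Hmat e ((t⁻¹ : Fˣ) : F)
  rw [Units.val_inv_eq_inv_val]
  ext i j
  fin_cases i <;> fin_cases j <;>
    simp [Hmat, Jmat, Matrix.mul_apply, Fin.sum_univ_four, Matrix.vecMul_diagonal, inv_pow]

/-- The stabiliser of the line of the first basis vector. -/
def borel (F : Type*) [Field F] (e : ℕ) : Subgroup (Sz F e) where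
  carrier := {g | mat g 1 0 = 0 ∧ mat g 2 0 = 0 ∧ mat g 3 0 = 0}
  one_mem' := by simp [mat]
  mul_mem' {g h} hg hh := by
    obtain ⟨h1, h2, h3⟩ := hg
    obtain ⟨k1, k2, k3⟩ := hh
    simp only [Set.mem_setOf_eq, mat_mul, Matrix.mul_apply, Fin.sum_univ_four, k1, k2, k3, h1, h2, h3]
    simp
  inv_mem' {g} hg := by
    obtain ⟨h1, h2, h3⟩ := hg
    have hmul : mat g⁻¹ * mat g = 1 := by rw [← mat_mul, inv_mul_cancel]; rfl
    have key : ∀ i, i ≠ 0 → mat g⁻¹ i 0 * mat g 0 0 = 0 := by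
      intro i hi
      simpa [Matrix.mul_apply, Fin.sum_univ_four, h1, h2, h3, hi] using congrFun (congrFun hmul i) 0
    have h00 : mat g 0 0 ≠ 0 := by
      intro h
      simpa [Matrix.mul_apply, Fin.sum_univ_four, h1, h2, h3, h] using congrFun (congrFun hmul 0) 0
    exact ⟨(mul_eq_zero.1 (key 1 (by decide))).resolve_right h00,
      (mul_eq_zero.1 (key 2 (by decide))).resolve_right h00,
      (mul_eq_zero.1 (key 3 (by decide))).resolve_right h00⟩

lemma mem_borel {g : Sz F e} :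
    g ∈ borel F e ↔ mat g 1 0 = 0 ∧ mat g 2 0 = 0 ∧ mat g 3 0 = 0 := Iff.rfl

lemma P_mem_borel (he : Twist F e) (a b : F) : P he a b ∈ borel F e := by
  simp [mem_borel, mat_P, Pmat]

lemma H_mem_borel (he : Twist F e) (t : Fˣ) : H e he t ∈ borel F e := by
  simp [mem_borel, mat, coe_H, Hmat]

/-- Structure of the first column. -/
theorem col_zero_eq (he : Twist F e) (g : Sz F e) (h30 : mat g 3 0 ≠ 0) :
    let a := mat g 2 0 / mat g 3 0
    let b := mat g 1 0 / mat g 3 0
    mat g 0 0 = mat g 3 0 * nrm e a b := by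
  obtain ⟨hS, hstar⟩ := (mem_Sz_iff he).1 g.2
  have hJ := congrFun (congrFun (transpose_mul_J hS) 0) 1
  have s0 := congrFun (congrFun hstar 0) 0
  have s1 := congrFun (congrFun hstar 1) 0
  have s2 := congrFun (congrFun hstar 2) 0
  have s3 := congrFun (congrFun hstar 3) 0
  simp [star4, pairOf] at s0 s1 s2 s3
  simp [Jmat, Matrix.mul_apply, Fin.sum_univ_four] at hJ
  intro a b
  have h2 := he.two
  have ha : mat g 2 0 = a * mat g 3 0 := (div_mul_cancel₀ _ h30).symm
  have hb : mat g 1 0 = b * mat g 3 0 := (div_mul_cancel₀ _ h30).symm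
  simp only [mat] at ha hb h30 ⊢
  set x0 := ((g : GL (Fin 4) F) : Matrix (Fin 4) (Fin 4) F) 0 0
  set x1 := ((g : GL (Fin 4) F) : Matrix (Fin 4) (Fin 4) F) 1 0
  set x2 := ((g : GL (Fin 4) F) : Matrix (Fin 4) (Fin 4) F) 2 0
  set x3 := ((g : GL (Fin 4) F) : Matrix (Fin 4) (Fin 4) F) 3 0
  set y0 := ((g : GL (Fin 4) F) : Matrix (Fin 4) (Fin 4) F) 0 1
  set y1 := ((g : GL (Fin 4) F) : Matrix (Fin 4) (Fin 4) F) 1 1
  set y2 := ((g : GL (Fin 4) F) : Matrix (Fin 4) (Fin 4) F) 2 1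
  set y3 := ((g : GL (Fin 4) F) : Matrix (Fin 4) (Fin 4) F) 3 1
  have e4 : x1 * x3 ^ e + x2 * x2 ^ e + x3 * (x1 * y2 - x2 * y1) = 0 := by
    rw [← s3, ← s2]; grind
  have e3 : x0 * x3 ^ e + x2 * (x1 * y2 - x2 * y1) + x3 * x1 ^ e = 0 := by
    rw [← s3, ← s1]; grind
  rw [ha, hb, mul_pow] at e4
  rw [ha, hb, mul_pow] at e3
  have hs : a * (x3 * (b * y2 - a * y1)) = a * (x3 ^ e * b + x3 ^ e * a * a ^ e) := by
    refine mul_left_cancel₀ h30 ?_
    grind
  have hx3e : x3 ^ e ≠ 0 := pow_ne_zero _ h30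
  refine mul_left_cancel₀ hx3e ?_
  simp only [nrm, pow_add]
  grind

theorem mem_borel_of_col (he : Twist F e) (g : Sz F e) (h30 : mat g 3 0 = 0) : g ∈ borel F e := by
  obtain ⟨hS, hstar⟩ := (mem_Sz_iff he).1 g.2
  have hJ := congrFun (congrFun (transpose_mul_J hS) 0) 1
  have s0 := congrFun (congrFun hstar 0) 0
  have s1 := congrFun (congrFun hstar 1) 0
  have s2 := congrFun (congrFun hstar 2) 0
  have s3 := congrFun (congrFun hstar 3) 0
  simp [star4, pairOf] at s0 s1 s2 s3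
  simp [Jmat, Matrix.mul_apply, Fin.sum_univ_four] at hJ
  simp only [mat] at h30
  have h2 := he.two
  set x0 := ((g : GL (Fin 4) F) : Matrix (Fin 4) (Fin 4) F) 0 0
  set x1 := ((g : GL (Fin 4) F) : Matrix (Fin 4) (Fin 4) F) 1 0
  set x2 := ((g : GL (Fin 4) F) : Matrix (Fin 4) (Fin 4) F) 2 0
  set x3 := ((g : GL (Fin 4) F) : Matrix (Fin 4) (Fin 4) F) 3 0
  set y0 := ((g : GL (Fin 4) F) : Matrix (Fin 4) (Fin 4) F) 0 1
  set y1 := ((g : GL (Fin 4) F) : Matrix (Fin 4) (Fin 4) F) 1 1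
  set y2 := ((g : GL (Fin 4) F) : Matrix (Fin 4) (Fin 4) F) 2 1
  set y3 := ((g : GL (Fin 4) F) : Matrix (Fin 4) (Fin 4) F) 3 1
  have h0e : x3 ^ e = 0 := by rw [h30, zero_pow (Nat.ne_zero_of_lt he.one_lt)]
  have hx2 : x2 * x2 ^ e = 0 := by
    rw [← s2]; grind
  have hx2' : x2 = 0 := by
    rcases mul_eq_zero.1 hx2 with h | h
    · exact h
    · exact (pow_eq_zero_iff (Nat.ne_zero_of_lt he.one_lt)).1 h
  have h2e : x2 ^ e = 0 := by rw [hx2', zero_pow (Nat.ne_zero_of_lt he.one_lt)]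
  have hx1 : x1 * x1 * x1 ^ e = 0 := by
    rw [← s1]; grind
  refine ⟨?_, hx2', h30⟩
  rcases mul_eq_zero.1 hx1 with h | h
  · exact mul_self_eq_zero.1 h
  · exact (pow_eq_zero_iff (Nat.ne_zero_of_lt he.one_lt)).1 h

/-- Bruhat decomposition, first part. -/
theorem exists_bruhat (he : Twist F e) (g : Sz F e) (hg : g ∉ borel F e) :
    ∃ a b, W he * P he a b * g ∈ borel F e := by
  have h30 : mat g 3 0 ≠ 0 := fun h => hg (mem_borel_of_col he g h)
  have h00 := col_zero_eq he g h30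
  simp only at h00
  set a := mat g 2 0 / mat g 3 0 with ha'
  set b := mat g 1 0 / mat g 3 0 with hb'
  have ha : mat g 2 0 = a * mat g 3 0 := (div_mul_cancel₀ _ h30).symm
  have hb : mat g 1 0 = b * mat g 3 0 := (div_mul_cancel₀ _ h30).symm
  refine ⟨a, b + a ^ e * a, mem_borel_of_col he _ ?_⟩
  have h2 := he.two
  rw [mat_mul, mat_mul, mat_P, mat_W]
  simp [Jmat, Pmat, nrm, Matrix.mul_apply, Fin.sum_univ_four, h00, ha, hb, he.add_pow, mul_pow,
    pow_add, he.pow_pow]
  grind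

/-- The stabiliser of the two lines of the first and last basis vectors is the torus. -/
theorem eq_H_of_diag (he : Twist F e) (g : Sz F e) (hg : g ∈ borel F e)
    (h13 : mat g 1 3 = 0) (h23 : mat g 2 3 = 0) : ∃ t : Fˣ, g = H e he t := by
  obtain ⟨h10, h20, h30⟩ := hg
  obtain ⟨hS, hstar⟩ := (mem_Sz_iff he).1 g.2
  have hJ := transpose_mul_J hS
  have j01 := congrFun (congrFun hJ 0) 1
  have j02 := congrFun (congrFun hJ 0) 2
  have j03 := congrFun (congrFun hJ 0) 3
  have j13 := congrFun (congrFun hJ 1) 3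
  have j23 := congrFun (congrFun hJ 2) 3
  have j12 := congrFun (congrFun hJ 1) 2
  have h0 : (0 : F) ^ e = 0 := zero_pow (Nat.ne_zero_of_lt he.one_lt)
  have s00 := congrFun (congrFun hstar 0) 0
  have s10 := congrFun (congrFun hstar 1) 0
  have s01 := congrFun (congrFun hstar 0) 1
  have s11 := congrFun (congrFun hstar 1) 1
  have s02 := congrFun (congrFun hstar 0) 2
  have s03 := congrFun (congrFun hstar 0) 3
  have hee : ∀ x : F, (x ^ e) ^ e = x ^ 2 := he.pow_pow
  simp only [mat] at h10 h20 h30 h13 h23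
  simp [star4, pairOf, h10, h20, h30, h13, h23, h0] at s00 s10 s01 s11 s02 s03
  simp [Jmat, Matrix.mul_apply, Fin.sum_univ_four, h10, h20, h30, h13, h23] at j01 j02 j03 j13 j23 j12
  set M := ((g : GL (Fin 4) F) : Matrix (Fin 4) (Fin 4) F) with hM
  have h00 : M 0 0 ≠ 0 := by
    intro h
    rw [h] at j03
    simp at j03
  have h33 : M 3 3 = (M 0 0)⁻¹ := (inv_eq_of_mul_eq_one_right j03).symm
  have h31 : M 3 1 = 0 := j01.resolve_left h00
  have h32 : M 3 2 = 0 := j02.resolve_left h00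
  have h21 : M 2 1 = 0 := by
    exact s10.resolve_left h00
  have h01 : M 0 1 = 0 := by
    have : M 3 3 ≠ 0 := by rw [h33]; exact inv_ne_zero h00
    grind
  have h02 : M 0 2 = 0 := by
    have : M 3 3 ≠ 0 := by rw [h33]; exact inv_ne_zero h00
    grind
  have h11e : M 0 0 * M 1 1 = M 0 0 ^ e := s00
  have h11 : M 1 1 ≠ 0 := by
    intro h
    rw [h, mul_zero] at h11e
    exact pow_ne_zero _ h00 h11e.symm
  have h12 : M 1 2 = 0 := by
    rw [h01, h0] at s01
    grind
  have h22 : M 2 2 = (M 1 1)⁻¹ := by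
    refine (inv_eq_of_mul_eq_one_right ?_).symm
    grind
  refine ⟨Units.mk0 (M 1 1) h11, mat_injective ?_⟩
  have h00' : M 0 0 = M 1 1 ^ (e + 1) := by
    have h3 := congrArg (fun x => x ^ e) h11e
    simp only [mul_pow, hee] at h3
    refine mul_left_cancel₀ h00 ?_
    rw [← pow_two, ← h3, pow_succ, ← mul_assoc, ← h11e]
    ring
  show M = Hmat e (M 1 1)
  ext i j
  fin_cases i <;> fin_cases j <;>
    simp [Hmat, h00, h10, h20, h30, h13, h23, h31, h32, h21, h01, h02, h11, h12, h22, h33,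
      ← h00'] <;> grind

/-- The Borel subgroup is the semidirect product of the unitriangular group and the torus. -/
theorem exists_borel_eq (he : Twist F e) (g : Sz F e) (hg : g ∈ borel F e) :
    ∃ a b t, g = P he a b * H e he t := by
  obtain ⟨h10, h20, h30⟩ := id hg
  obtain ⟨hS, hstar⟩ := (mem_Sz_iff he).1 g.2
  have hJ := transpose_mul_J hS
  have j03 := congrFun (congrFun hJ 0) 3
  simp only [mat] at h10 h20 h30
  simp [Jmat, Matrix.mul_apply, Fin.sum_univ_four, h10, h20, h30] at j03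
  have h33 : mat g 3 3 ≠ 0 := by
    intro h
    simp only [mat] at h
    rw [h] at j03
    simp at j03
  set a := mat g 2 3 / mat g 3 3
  set b := mat g 1 3 / mat g 3 3
  have ha : mat g 2 3 = a * mat g 3 3 := (div_mul_cancel₀ _ h33).symm
  have hb : mat g 1 3 = b * mat g 3 3 := (div_mul_cancel₀ _ h33).symm
  have h2 := he.two
  obtain ⟨t, ht⟩ := eq_H_of_diag he ((P he a b)⁻¹ * g) (mul_mem (inv_mem (P_mem_borel he a b)) hg)
    (by
      rw [P_inv, mat_mul, mat_P]
      simp [Pmat, Matrix.mul_apply, Fin.sum_univ_four, ha, hb]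
      grind)
    (by
      rw [P_inv, mat_mul, mat_P]
      simp [Pmat, Matrix.mul_apply, Fin.sum_univ_four, ha]
      grind)
  exact ⟨a, b, t, by rw [← ht, mul_inv_cancel_left]⟩

/-- The Bruhat decomposition. -/
theorem exists_bruhat' (he : Twist F e) (g : Sz F e) (hg : g ∉ borel F e) :
    ∃ a b c d t, g = P he a b * W he * P he c d * H e he t := by
  obtain ⟨a, b, hab⟩ := exists_bruhat he g hg
  obtain ⟨c, d, t, h⟩ := exists_borel_eq he _ hab
  refine ⟨a, b + a ^ e * a, c, d, t, ?_⟩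
  rw [← P_inv, mul_assoc, ← h]
  conv_rhs => rw [mul_assoc, ← mul_assoc (W he) (W he * P he a b) g, ← mul_assoc (W he) (W he),
    W_mul_W, one_mul, inv_mul_cancel_left]

end CfsgLib.KnownB.Suzuki
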