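import Mathlib

set_option autoImplicit false

/-!
Matrices with irreducible minimal polynomial of full degree: the commutant is a field.
-/

namespace CfsgLib.KnownB.IrredMatrix

open Polynomial Matrix

variable {F : Type*} [Field F] {n : ℕ}

/-- `M` has irreducible minimal polynomial of full degree. -/
structure IsRegularIrred (M : Matrix (Fin n) (Fin n) F) : Prop where
  irred : Irreducible (minpoly F M)
  deg : (minpoly F M).natDegree = n

variable {M : Matrix (Fin n) (Fin n) F}

lemma IsRegularIrred.pos (h : IsRegularIrred M) : 0 < n :=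
  h.deg ▸ h.irred.natDegree_pos

lemma IsRegularIrred.exists_poly (h : IsRegularIrred M) {Y : Matrix (Fin n) (Fin n) F}
    (hY : Commute Y M) : ∃ f : F[X], aeval M f = Y := by
  classical
  let v : Fin n → F := Pi.single ⟨0, h.pos⟩ 1
  let φ : degreeLT F n →ₗ[F] (Fin n → F) :=
    { toFun := fun f => (aeval M (f : F[X])) *ᵥ v
      map_add' := fun f g => by simp [Matrix.add_mulVec]
      map_smul' := fun c f => by simp [Matrix.smul_mulVec] }
  have hinj : Function.Injective φ := by
    rw [← LinearMap.ker_eq_bot, Submodule.eq_bot_iff]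
    intro f hf
    by_contra hf0
    have hf1 : (f : F[X]) ≠ 0 := fun h0 => hf0 (Subtype.ext h0)
    have hd : (f : F[X]).natDegree < n :=
      (natDegree_lt_iff_degree_lt hf1).2 (mem_degreeLT.1 f.2)
    have hnd : ¬ minpoly F M ∣ (f : F[X]) := fun hdv => by
      have := natDegree_le_of_dvd hdv hf1
      rw [h.deg] at this
      omega
    obtain ⟨a, b, hab⟩ := (h.irred.coprime_iff_not_dvd.2 hnd)
    have h1 := congrArg (aeval M) hab
    rw [map_add, map_mul, map_mul, minpoly.aeval, mul_zero, zero_add, map_one] at h1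
    have h2 : (aeval M b * aeval M (f : F[X])) *ᵥ v = 0 := by
      rw [← Matrix.mulVec_mulVec, show (aeval M (f : F[X])) *ᵥ v = 0 from LinearMap.mem_ker.1 hf,
        Matrix.mulVec_zero]
    rw [h1, Matrix.one_mulVec] at h2
    simpa [v] using congrFun h2 ⟨0, h.pos⟩
  have hsurj : Function.Surjective φ := by
    have hfin : FiniteDimensional F (degreeLT F n) := (degreeLTEquiv F n).symm.finiteDimensional
    have : Module.finrank F (degreeLT F n) = Module.finrank F (Fin n → F) := by
      rw [(degreeLTEquiv F n).finrank_eq]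
    exact (LinearMap.injective_iff_surjective_of_finrank_eq_finrank this).1 hinj
  obtain ⟨f, hf⟩ := hsurj (Y *ᵥ v)
  refine ⟨f, Matrix.ext_of_mulVec_single fun i => ?_⟩
  obtain ⟨g, hg⟩ := hsurj (Pi.single i 1)
  show aeval M (f : F[X]) *ᵥ Pi.single i 1 = Y *ᵥ Pi.single i 1
  have hg' : (aeval M (g : F[X])) *ᵥ v = Pi.single i 1 := hg
  have hf' : (aeval M (f : F[X])) *ᵥ v = Y *ᵥ v := hf
  have hc : ∀ k : F[X], Commute (aeval M k) Y := by
    intro k
    induction k using Polynomial.induction_on' with
    | add p q hp hq => rw [map_add]; exact hp.add_left hq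
    | monomial j c =>
      rw [aeval_monomial]
      exact Commute.mul_left (Algebra.commutes c Y) (hY.symm.pow_left j)
  have hfg : Commute (aeval M (f : F[X])) (aeval M (g : F[X])) :=
    (Commute.all (f : F[X]) g).map (aeval M)
  rw [← hg', Matrix.mulVec_mulVec, Matrix.mulVec_mulVec, hfg.eq, ← (hc g).eq,
    ← Matrix.mulVec_mulVec, ← Matrix.mulVec_mulVec, hf']

/-- The field generated by `M`, inside the matrix algebra. -/
noncomputable def embed (M : Matrix (Fin n) (Fin n) F) :
    AdjoinRoot (minpoly F M) →ₐ[F] Matrix (Fin n) (Fin n) F :=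
  { (Ideal.Quotient.lift (Ideal.span {minpoly F M})
      (aeval M : F[X] →ₐ[F] Matrix (Fin n) (Fin n) F).toRingHom (fun a ha => by
        obtain ⟨k, rfl⟩ := Ideal.mem_span_singleton'.1 ha
        simp) : AdjoinRoot (minpoly F M) →+* Matrix (Fin n) (Fin n) F) with
    commutes' := fun c => aeval_C M c }

lemma embed_mk (M : Matrix (Fin n) (Fin n) F) (f : F[X]) :
    embed M (AdjoinRoot.mk _ f) = aeval M f := rfl

lemma IsRegularIrred.exists_embed (h : IsRegularIrred M) {Y : Matrix (Fin n) (Fin n) F}
    (hY : Commute Y M) : ∃ x, embed M x = Y := by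
  obtain ⟨f, hf⟩ := h.exists_poly hY
  exact ⟨AdjoinRoot.mk _ f, hf⟩

lemma IsRegularIrred.embed_injective (h : IsRegularIrred M) :
    Function.Injective (embed M) := by
  have : Fact (Irreducible (minpoly F M)) := ⟨h.irred⟩
  have : Nonempty (Fin n) := ⟨⟨0, h.pos⟩⟩
  exact (embed M).toRingHom.injective

/-- A finite group of matrices commuting with `M` is cyclic. -/
theorem IsRegularIrred.isCyclic (h : IsRegularIrred M) {G : Type*} [Group G] [Finite G]
    (ρ : G →* Matrix (Fin n) (Fin n) F) (hρ : Function.Injective ρ)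
    (hc : ∀ g, Commute (ρ g) M) : IsCyclic G := by
  have : Fact (Irreducible (minpoly F M)) := ⟨h.irred⟩
  choose ψ hψ using fun g => h.exists_embed (hc g)
  have hinj := h.embed_injective
  let Ψ : G →* AdjoinRoot (minpoly F M) :=
    { toFun := ψ
      map_one' := hinj (by rw [hψ, map_one, map_one])
      map_mul' := fun a b => hinj (by rw [map_mul, hψ, hψ, hψ, map_mul]) }
  refine isCyclic_of_injective_ringHom Ψ fun a b hab => hρ ?_
  rw [← hψ a, ← hψ b]
  exact congrArg (embed M) hab

/-- At most `n` conjugates of `M` lie in its commutant. -/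
theorem IsRegularIrred.card_roots_le (h : IsRegularIrred M) {α : Type*} [Finite α]
    (y : α → Matrix (Fin n) (Fin n) F) (hy : Function.Injective y)
    (hc : ∀ a, Commute (y a) M) (h0 : ∀ a, aeval (y a) (minpoly F M) = 0) :
    Nat.card α ≤ n := by
  classical
  have : Fact (Irreducible (minpoly F M)) := ⟨h.irred⟩
  choose ψ hψ using fun a => h.exists_embed (hc a)
  have hinj := h.embed_injective
  have hroot : ∀ a, ψ a ∈
      ((minpoly F M).map (algebraMap F (AdjoinRoot (minpoly F M)))).roots.toFinset := by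
    intro a
    rw [Multiset.mem_toFinset, mem_roots', IsRoot, eval_map_algebraMap]
    refine ⟨map_ne_zero h.irred.ne_zero, hinj ?_⟩
    rw [map_zero, ← aeval_algHom_apply, hψ, h0]
  have hψinj : Function.Injective fun a => (⟨ψ a, hroot a⟩ :
      {x // x ∈ ((minpoly F M).map (algebraMap F (AdjoinRoot (minpoly F M)))).roots.toFinset}) :=
    fun a b hab => hy (by
      have hab' : ψ a = ψ b := congrArg Subtype.val hab
      rw [← hψ a, ← hψ b, hab'])
  refine (Nat.card_le_card_of_injective _ hψinj).trans ?_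
  rw [Nat.card_eq_fintype_card, Fintype.card_coe]
  exact (Multiset.toFinset_card_le _).trans ((card_roots' _).trans (natDegree_map_le.trans h.deg.le))

/-- A matrix `M ≠ 1` of prime order `p` invertible in `F`, with `p` dividing none of
`|F| ^ d - 1` for `0 < d < n`, has irreducible minimal polynomial of degree `n`. -/
theorem isRegularIrred_of_pow [Finite F] (M : Matrix (Fin n) (Fin n) F) {p : ℕ} [Fact p.Prime]
    (hM : M ^ p = 1) (hM1 : M ≠ 1) (hp : (p : F) ≠ 0)
    (hd : ∀ d, 0 < d → d < n → ¬ p ∣ Nat.card F ^ d - 1) : IsRegularIrred M := by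
  classical
  cases nonempty_fintype F
  set G : F[X] := ∑ i ∈ Finset.range p, X ^ i with hG
  have hint : IsIntegral F M := Matrix.isIntegral M
  have hdvd : minpoly F M ∣ G * (X - 1) := by
    refine minpoly.dvd F M ?_
    rw [hG, geom_sum_mul]
    simp [hM]
  have hnc : ¬ IsCoprime (minpoly F M) G := by
    intro hc
    have h1 := hc.dvd_of_dvd_mul_left hdvd
    obtain ⟨k, hk⟩ := h1
    have h2 := congrArg (aeval M) hk
    rw [map_mul, minpoly.aeval, zero_mul, map_sub, aeval_X, map_one] at h2
    exact hM1 (sub_eq_zero.1 h2)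
  obtain ⟨π, hπ, hπ1, hπ2⟩ : ∃ π : F[X], Irreducible π ∧ π ∣ minpoly F M ∧ π ∣ G := by
    have hg : ¬ IsUnit (EuclideanDomain.gcd (minpoly F M) G) := fun hu =>
      hnc (EuclideanDomain.gcd_isUnit_iff.1 hu)
    have hg0 : EuclideanDomain.gcd (minpoly F M) G ≠ 0 := fun h0 =>
      minpoly.ne_zero hint (EuclideanDomain.gcd_eq_zero_iff.1 h0).1
    obtain ⟨π, hπ, hπd⟩ := WfDvdMonoid.exists_irreducible_factor hg hg0
    exact ⟨π, hπ, hπd.trans (EuclideanDomain.gcd_dvd_left _ _),
      hπd.trans (EuclideanDomain.gcd_dvd_right _ _)⟩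
  have : Fact (Irreducible π) := ⟨hπ⟩
  set α := AdjoinRoot.root π
  have hG0 : aeval α G = 0 := by
    obtain ⟨k, hk⟩ := hπ2
    rw [hk, map_mul, AdjoinRoot.aeval_eq, AdjoinRoot.mk_self, zero_mul]
  have hα : α ^ p = 1 := by
    have h1 : aeval α (G * (X - 1)) = 0 := by rw [map_mul, hG0, zero_mul]
    rw [hG, geom_sum_mul] at h1
    simpa [sub_eq_zero] using h1
  have hα1 : α ≠ 1 := by
    intro h1
    rw [h1, hG] at hG0
    have h2 : ((p : F) : F) = 0 := (algebraMap F (AdjoinRoot π)).injective
      (by simpa using hG0)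
    exact hp h2
  have hα0 : α ≠ 0 := by
    intro h0
    rw [h0, zero_pow (Fact.out : p.Prime).ne_zero] at hα
    exact zero_ne_one hα
  have : FiniteDimensional F (AdjoinRoot π) := (AdjoinRoot.powerBasis hπ.ne_zero).finite
  have : Finite (AdjoinRoot π) := Module.finite_of_finite F
  cases nonempty_fintype (AdjoinRoot π)
  have hcard : Nat.card (AdjoinRoot π) = Nat.card F ^ π.natDegree := by
    rw [Module.natCard_eq_pow_finrank (K := F) (V := AdjoinRoot π),
      (AdjoinRoot.powerBasis hπ.ne_zero).finrank, AdjoinRoot.powerBasis_dim]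
  have hpd : p ∣ Nat.card F ^ π.natDegree - 1 := by
    rw [← hcard, ← Nat.card_units (AdjoinRoot π)]
    have h3 : orderOf (Units.mk0 α hα0) = p :=
      orderOf_eq_prime (Units.ext (by simpa using hα)) fun h => hα1 (congrArg Units.val h)
    exact h3 ▸ orderOf_dvd_natCard _
  have hn : n ≤ π.natDegree := by
    by_contra hlt
    exact hd _ hπ.natDegree_pos (by omega) hpd
  have hmn : (minpoly F M).natDegree ≤ n := by
    have := natDegree_le_of_dvd (Matrix.minpoly_dvd_charpoly M) (Matrix.charpoly_monic M).ne_zero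
    rwa [Matrix.charpoly_natDegree_eq_dim, Fintype.card_fin] at this
  have hπm : π.natDegree ≤ (minpoly F M).natDegree :=
    natDegree_le_of_dvd hπ1 (minpoly.ne_zero hint)
  refine ⟨?_, by omega⟩
  have hass : Associated π (minpoly F M) :=
    associated_of_dvd_of_natDegree_le hπ1 (minpoly.ne_zero hint) (by omega)
  exact hass.irreducible hπ

end CfsgLib.KnownB.IrredMatrix
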