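import Mathlib.Algebra.Group.Subgroup.Finite
import Mathlib.GroupTheory.GroupAction.Quotient
import Mathlib.SetTheory.Cardinal.Finite
import Mathlib.GroupTheory.OrderOfElement

set_option autoImplicit false

/-!
Counting the conjugates of the nontrivial elements of a trivial-intersection subgroup.
-/

namespace CfsgLib.KnownB.TICount

variable {G : Type*} [Group G]

/-- The nontrivial elements conjugate into `A`. -/
def conjSet (A : Subgroup G) : Set G := {x | x ≠ 1 ∧ ∃ g : G, g * x * g⁻¹ ∈ A}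

/-- If two conjugates of `A` share a nontrivial element only inside the normaliser, then the
conjugates of the nontrivial elements of `A` are counted by `|G : N(A)| (|A| - 1)`. -/
theorem card_conjSet [Finite G] (A : Subgroup G)
    (hTI : ∀ g : G, ∀ a ∈ A, a ≠ 1 → g * a * g⁻¹ ∈ A → g ∈ Subgroup.normalizer (A : Set G)) :
    Nat.card (conjSet A) * Nat.card (Subgroup.normalizer (A : Set G)) =
      Nat.card G * (Nat.card A - 1) := by
  classical
  set N := Subgroup.normalizer (A : Set G) with hN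
  choose g₀ hg₀ using fun x : conjSet A => x.2.2
  have hne : ∀ x : conjSet A, (1 : G) ≠ g₀ x * x * (g₀ x)⁻¹ := fun x h => x.2.1 (by
    have := congrArg (fun y => (g₀ x)⁻¹ * y * g₀ x) h
    simpa [mul_assoc] using this.symm)
  let f : conjSet A × N → G × {a : A // a ≠ 1} := fun p =>
    ((p.2 : G) * g₀ p.1, ⟨⟨(p.2 : G) * (g₀ p.1 * p.1 * (g₀ p.1)⁻¹) * (p.2 : G)⁻¹,
      (Subgroup.mem_normalizer_iff.1 p.2.2 _).1 (hg₀ p.1)⟩, fun h => by
        have h1 : (p.2 : G) * (g₀ p.1 * p.1 * (g₀ p.1)⁻¹) * (p.2 : G)⁻¹ = 1 :=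
          congrArg Subtype.val h
        exact hne p.1 (conj_eq_one_iff.1 h1).symm⟩)
  have hf : Function.Bijective f := by
    constructor
    · intro p q hpq
      obtain ⟨h1, h2⟩ := Prod.ext_iff.1 hpq
      have h3 := congrArg (fun a : {a : A // a ≠ 1} => ((a : A) : G)) h2
      simp only [f] at h1 h3
      have hx : ∀ r : conjSet A × N, ((r.2 : G) * g₀ r.1)⁻¹ *
          ((r.2 : G) * (g₀ r.1 * r.1 * (g₀ r.1)⁻¹) * (r.2 : G)⁻¹) *
          ((r.2 : G) * g₀ r.1) = r.1 := by
        intro r; simp [mul_assoc]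
      have e1 : p.1 = q.1 := Subtype.ext (by rw [← hx p, h3, h1, hx q])
      refine Prod.ext e1 (Subtype.ext ?_)
      rw [e1] at h1
      exact mul_right_cancel h1
    · rintro ⟨g, ⟨⟨a, ha⟩, ha1⟩⟩
      have ha1' : a ≠ 1 := fun h => ha1 (Subtype.ext h)
      let x : conjSet A := ⟨g⁻¹ * a * g,
        fun h => ha1' (by simpa [mul_assoc] using congrArg (fun y => g * y * g⁻¹) h),
        g, by simpa [mul_assoc] using ha⟩
      have hn : g * (g₀ x)⁻¹ ∈ N := by
        refine hTI _ _ (hg₀ x) (hne x).symm ?_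
        simpa [x, mul_assoc] using ha
      refine ⟨(x, ⟨_, hn⟩), ?_⟩
      refine Prod.ext (by simp [f]) (Subtype.ext (Subtype.ext ?_))
      simp [f, x, mul_assoc]
  have hcard := Nat.card_congr (Equiv.ofBijective f hf)
  rw [Nat.card_prod, Nat.card_prod] at hcard
  rw [hcard]
  congr 1
  have : Fintype A := Fintype.ofFinite A
  rw [Nat.card_eq_fintype_card, Nat.card_eq_fintype_card, Fintype.card_subtype_compl,
    Fintype.card_subtype_eq]

lemma orderOf_dvd_of_mem_conjSet {A : Subgroup G} {x : G} (hx : x ∈ conjSet A) :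
    orderOf x ∣ Nat.card A := by
  obtain ⟨-, g, hg⟩ := hx
  rw [← (MulAut.conj g).orderOf_eq x]
  exact (Subgroup.orderOf_coe (⟨_, hg⟩ : A)) ▸ orderOf_dvd_natCard _

end CfsgLib.KnownB.TICount
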