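import Cfsg.Agent.Lib.KnownB.SuzukiCentralizer
import Cfsg.Agent.Lib.KnownB.IrredMatrix
import Cfsg.Agent.Lib.KnownB.TICount

set_option autoImplicit false

/-!
The cyclic tori of order `q ± r + 1` of `Cfsg.Lie.Sz F e` and the partition of the group into
Sylow 2-subgroups and cyclic tori, by counting.
-/

namespace CfsgLib.KnownB.Suzuki

open Cfsg.Lie CfsgLib.KnownB.SzElem CfsgLib.KnownB.TICount CfsgLib.KnownB.IrredMatrix

variable {F : Type*} [Field F] [Fintype F] {e : ℕ}

/-- The numerical hypotheses: `q = |F|` with `e ^ 2 = 2 q`. -/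
structure Params (F : Type*) [Field F] [Fintype F] (e : ℕ) : Prop where
  twist : Twist F e
  eight : 8 ≤ Fintype.card F
  sq : e * e = 2 * Fintype.card F
  even : 2 ∣ Fintype.card F
  mod_three : Fintype.card F % 3 = 2

theorem params_of_card {m : ℕ} (hm : 1 ≤ m) (hF : Fintype.card F = 2 ^ (2 * m + 1)) :
    Params F (2 ^ (m + 1)) := by
  refine ⟨twist_of_card hF, eight_le_card hm hF, ?_, ?_, ?_⟩
  · rw [hF, ← pow_add]; ring
  · rw [hF]; exact dvd_pow_self 2 (by omega)
  · rw [hF, pow_succ, pow_mul, Nat.mul_mod, Nat.pow_mod]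
    norm_num

/-- Orders of elements outside the Borel subgroups: divisors of `q² + 1`. -/
local notation "q" => Fintype.card F

lemma card_eq (hp : Params F e) : Nat.card (Sz F e) = q ^ 2 * (q ^ 2 + 1) * (q - 1) := by
  rw [card_Sz hp.twist]; ring

lemma natCast_ne_zero (hp : Params F e) {p : ℕ} (h : ¬ 2 ∣ p) : (p : F) ≠ 0 := by
  obtain ⟨k, hk⟩ : Odd p := Nat.odd_iff.2 (by omega)
  rw [hk]
  push_cast
  rw [hp.twist.two, zero_mul, zero_add]
  exact one_ne_zero

lemma odd_sq_add_one (hp : Params F e) : ¬ 2 ∣ q ^ 2 + 1 := by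
  obtain ⟨k, hk⟩ := hp.even
  rw [hk, mul_pow]
  omega

lemma odd_sub_one (hp : Params F e) : ¬ 2 ∣ q - 1 := by
  have := hp.even
  have := hp.eight
  omega

lemma coprime_sub_one (hp : Params F e) : Nat.Coprime (q ^ 2 + 1) (q - 1) := by
  refine Nat.coprime_of_dvd fun p hpp h1 h2 => ?_
  have h3 : p ∣ q ^ 2 - 1 := by
    rw [show q ^ 2 - 1 = (q + 1) * (q - 1) from by simpa using Nat.sq_sub_sq q 1]
    exact h2.mul_left _
  have h4 : p ∣ (q ^ 2 + 1) - (q ^ 2 - 1) := Nat.dvd_sub h1 h3
  have h5 : 1 ≤ q ^ 2 := Nat.one_le_pow _ _ (by have := hp.eight; omega)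
  rw [show (q ^ 2 + 1) - (q ^ 2 - 1) = 2 by omega] at h4
  have := (Nat.prime_dvd_prime_iff_eq hpp Nat.prime_two).1 h4
  subst this
  exact odd_sub_one hp h2

lemma not_dvd_pow_sub_one (hp : Params F e) {p : ℕ} [Fact p.Prime] (hpq : p ∣ q ^ 2 + 1) {d : ℕ}
    (hd0 : 0 < d) (hd4 : d < 4) : ¬ p ∣ q ^ d - 1 := by
  intro h
  have h1 : ((q : ℕ) : ZMod p) ^ d = 1 := by
    have h' : ((q ^ d - 1 : ℕ) : ZMod p) = 0 := (ZMod.natCast_eq_zero_iff _ _).2 h
    rw [Nat.cast_sub (Nat.one_le_pow _ _ (by have := hp.eight; omega))] at h'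
    simpa [sub_eq_zero] using h'
  have h2 : ((q : ℕ) : ZMod p) ^ 2 + 1 = 0 := by
    have h' : ((q ^ 2 + 1 : ℕ) : ZMod p) = 0 := (ZMod.natCast_eq_zero_iff _ _).2 hpq
    simpa using h'
  have h20 : (2 : ZMod p) = 0 → False := fun h' => by
    have h3 : ((2 : ℕ) : ZMod p) = 0 := by simpa using h'
    have h4 := (ZMod.natCast_eq_zero_iff _ _).1 h3
    rw [(Nat.prime_dvd_prime_iff_eq Fact.out Nat.prime_two).1 h4] at hpq
    exact odd_sq_add_one hp hpq
  generalize ((q : ℕ) : ZMod p) = x at h1 h2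
  interval_cases d
  · rw [pow_one] at h1
    exact h20 (by rw [h1] at h2; linear_combination h2)
  · exact h20 (by linear_combination h2 - h1)
  · have h5 : x = -1 := by linear_combination x * h2 - h1
    exact h20 (by rw [h5] at h2; linear_combination h2)

/-- `mat` as a homomorphism. -/
def matHom (F : Type*) [Field F] (e : ℕ) : Sz F e →* Matrix (Fin 4) (Fin 4) F where
  toFun := mat
  map_one' := rfl
  map_mul' := mat_mul

lemma regularIrred (hp : Params F e) {x : Sz F e} {p : ℕ} [Fact p.Prime] (hpq : p ∣ q ^ 2 + 1)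
    (hx : orderOf x = p) : IsRegularIrred (mat x) := by
  refine isRegularIrred_of_pow _ (p := p) ?_ ?_ (natCast_ne_zero hp fun h =>
    odd_sq_add_one hp (h.trans hpq)) fun d hd0 hd4 => ?_
  · show matHom F e x ^ p = 1
    rw [← map_pow, ← hx, pow_orderOf_eq_one, map_one]
  · intro h
    have h1 : x = 1 := mat_injective (h.trans (map_one (matHom F e)).symm)
    rw [h1, orderOf_one] at hx
    exact (Fact.out : p.Prime).one_lt.ne hx
  · rw [Nat.card_eq_fintype_card]
    exact not_dvd_pow_sub_one hp hpq hd0 hd4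

lemma torus_isCyclic (hp : Params F e) {x : Sz F e} {p : ℕ} [Fact p.Prime] (hpq : p ∣ q ^ 2 + 1)
    (hx : orderOf x = p) : IsCyclic (Subgroup.centralizer {x}) := by
  refine (regularIrred hp hpq hx).isCyclic ((matHom F e).comp (Subgroup.subtype _))
    (mat_injective.comp Subtype.val_injective) fun g => ?_
  show mat (g : Sz F e) * mat x = mat x * mat (g : Sz F e)
  rw [← mat_mul, ← mat_mul, Subgroup.mem_centralizer_singleton_iff.1 g.2]

lemma sq_le (hp : Params F e) : 64 ≤ q ^ 2 :=
  le_trans (by norm_num) (Nat.pow_le_pow_left hp.eight 2)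

/-- An element whose order is a prime dividing `q - 1` is conjugate into the torus. -/
lemma conj_mem_hGroup (hp : Params F e) {x : Sz F e} {p : ℕ} [Fact p.Prime] (hpq : p ∣ q - 1)
    (hx : orderOf x = p) : ∃ g, g * x * g⁻¹ ∈ hGroup hp.twist := by
  classical
  have hP := Fact.out (p := p.Prime)
  have hcop : Nat.Coprime p (q ^ 2 * (q ^ 2 + 1)) := by
    rw [hP.coprime_iff_not_dvd, hP.dvd_mul]
    rintro (h | h)
    · have h1 : p ∣ q := hP.dvd_of_dvd_pow h
      have h2 := Nat.dvd_sub h1 hpq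
      rw [show q - (q - 1) = 1 by have := hp.eight; omega] at h2
      exact hP.one_lt.ne' (Nat.dvd_one.1 h2)
    · exact hP.one_lt.ne' (Nat.dvd_one.1 ((coprime_sub_one hp) ▸ Nat.dvd_gcd h hpq))
  obtain ⟨R⟩ : Nonempty (Sylow p (hGroup hp.twist)) := inferInstance
  have hq1 : q - 1 ≠ 0 := by have := hp.eight; omega
  have hfac : (Nat.card (Sz F e)).factorization p = (q - 1).factorization p := by
    rw [card_eq hp, Nat.factorization_mul (by have := sq_le hp; positivity) hq1,
      Finsupp.add_apply, Nat.factorization_eq_zero_of_not_dvd (hP.coprime_iff_not_dvd.1 hcop),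
      zero_add]
  let Q : Sylow p (Sz F e) := Sylow.ofCard ((R : Subgroup (hGroup hp.twist)).map
    (Subgroup.subtype _)) (by
    rw [Subgroup.card_map_of_injective Subtype.val_injective, R.card_eq_multiplicity, hfac,
      card_hGroup])
  have hz : IsPGroup p (Subgroup.zpowers x) := IsPGroup.of_card (n := 1)
    (by rw [Nat.card_zpowers, hx, pow_one])
  obtain ⟨S, hS⟩ := hz.exists_le_sylow
  obtain ⟨g, hg⟩ := MulAction.exists_smul_eq (Sz F e) S Q
  refine ⟨g, ?_⟩
  have h1 : g * x * g⁻¹ ∈ (Q : Subgroup (Sz F e)) := by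
    rw [← hg, Sylow.coe_subgroup_smul]
    exact Subgroup.smul_mem_pointwise_smul x (MulAut.conj g) _ (hS (Subgroup.mem_zpowers x))
  obtain ⟨y, -, hy⟩ := h1
  rw [← hy]
  exact y.2

/-- A 2-element is conjugate into the unitriangular group. -/
lemma conj_mem_uGroup (hp : Params F e) {x : Sz F e} (hx : IsPGroup 2 (Subgroup.zpowers x)) :
    ∃ g, g * x * g⁻¹ ∈ uGroup hp.twist := by
  have : Fact (Nat.Prime 2) := ⟨Nat.prime_two⟩
  obtain ⟨S, hS⟩ := hx.exists_le_sylow
  obtain ⟨g, hg⟩ := MulAction.exists_smul_eq (Sz F e) S (sylow2 hp.twist)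
  refine ⟨g, ?_⟩
  rw [← coe_sylow2 hp.twist, ← hg, Sylow.coe_subgroup_smul]
  exact Subgroup.smul_mem_pointwise_smul x (MulAut.conj g) _ (hS (Subgroup.mem_zpowers x))

omit [Fintype F] in
lemma commute_conj {g x y : Sz F e} (h : Commute x y) :
    Commute (g * x * g⁻¹) (g * y * g⁻¹) := h.map (MulAut.conj g)

lemma torus_card_dvd (hp : Params F e) {x : Sz F e} {p : ℕ} [Fact p.Prime] (hpq : p ∣ q ^ 2 + 1)
    (hx : orderOf x = p) : Nat.card (Subgroup.centralizer {x}) ∣ q ^ 2 + 1 := by
  classical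
  have h1 := Subgroup.card_subgroup_dvd_card (Subgroup.centralizer {x})
  rw [card_eq hp] at h1
  have hne : x ≠ 1 := fun h => by
    rw [h, orderOf_one] at hx; exact (Fact.out : p.Prime).one_lt.ne hx
  have key : ∀ r, r.Prime → r ∣ Nat.card (Subgroup.centralizer {x}) → ¬ r ∣ q ^ 2 * (q - 1) := by
    intro r hr hrd hrq
    have : Fact r.Prime := ⟨hr⟩
    obtain ⟨y, hy⟩ := exists_prime_orderOf_dvd_card' r hrd
    have hyo : orderOf (y : Sz F e) = r := by rw [Subgroup.orderOf_coe, hy]
    have hcomm : Commute (y : Sz F e) x := Subgroup.mem_centralizer_singleton_iff.1 y.2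
    have hy1 : (y : Sz F e) ≠ 1 := fun h => by
      rw [h, orderOf_one] at hyo; exact hr.one_lt.ne hyo
    rcases hr.dvd_mul.1 hrq with h | h
    · have h2 : r ∣ 2 := by
        have : CharP F 2 := CharTwo.of_one_ne_zero_of_two_eq_zero one_ne_zero hp.twist.two
        obtain ⟨n, -, hn⟩ := FiniteField.card F 2
        rw [hn, ← pow_mul] at h
        exact hr.dvd_of_dvd_pow h
      obtain rfl := (Nat.prime_dvd_prime_iff_eq hr Nat.prime_two).1 h2
      obtain ⟨g, hg⟩ := conj_mem_uGroup hp (x := (y : Sz F e))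
        (IsPGroup.of_card (n := 1) (by rw [Nat.card_zpowers, hyo, pow_one]))
      have h3 : g * x * g⁻¹ ∈ uGroup hp.twist := centralizer_le_uGroup hp.twist hg
        (fun h => hy1 (conj_eq_one_iff.1 h))
        (Subgroup.mem_centralizer_singleton_iff.2 (commute_conj hcomm.symm).eq)
      have h4 : orderOf x ∣ 4 := by
        rw [← (MulAut.conj g).orderOf_eq x]
        exact orderOf_dvd_of_pow_eq_one (pow_four hp.twist h3)
      rw [hx, show 4 = 2 ^ 2 from rfl] at h4
      have := (Nat.prime_dvd_prime_iff_eq Fact.out Nat.prime_two).1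
        ((Fact.out : p.Prime).dvd_of_dvd_pow h4)
      subst this
      exact odd_sq_add_one hp hpq
    · obtain ⟨g, hg⟩ := conj_mem_hGroup hp h hyo
      obtain ⟨t, ht⟩ := hg
      have ht1 : t ≠ 1 := by
        rintro rfl
        rw [map_one] at ht
        exact hy1 (conj_eq_one_iff.1 ht.symm)
      have hmem : g * x * g⁻¹ ∈ Subgroup.centralizer {H e hp.twist t} := by
        rw [Subgroup.mem_centralizer_singleton_iff, show H e hp.twist t = g * y * g⁻¹ from ht]
        exact (commute_conj hcomm.symm).eq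
      rw [centralizer_H hp.twist ht1] at hmem
      have h4 : orderOf x ∣ q - 1 := by
        rw [← (MulAut.conj g).orderOf_eq x, ← card_hGroup hp.twist]
        exact Subgroup.orderOf_dvd_natCard _ hmem
      rw [hx] at h4
      exact (Fact.out : p.Prime).one_lt.ne'
        (Nat.dvd_one.1 ((coprime_sub_one hp) ▸ Nat.dvd_gcd hpq h4))
  refine Nat.Coprime.dvd_of_dvd_mul_right (Nat.coprime_of_dvd fun r hr ha hb => key r hr ha hb) ?_
  rwa [← mul_assoc, mul_comm (q ^ 2 + 1)]

/-- A torus of order dividing `q² + 1`. -/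
def IsTorus (A : Subgroup (Sz F e)) : Prop :=
  ∃ (x : Sz F e) (p : ℕ), p.Prime ∧ p ∣ q ^ 2 + 1 ∧ orderOf x = p ∧ A = Subgroup.centralizer {x}

lemma IsTorus.cyclic (hp : Params F e) {A : Subgroup (Sz F e)} (hA : IsTorus A) : IsCyclic A := by
  obtain ⟨x, p, hP, hpq, hx, rfl⟩ := hA
  have : Fact p.Prime := ⟨hP⟩
  exact torus_isCyclic hp hpq hx

lemma IsTorus.card_dvd (hp : Params F e) {A : Subgroup (Sz F e)} (hA : IsTorus A) :
    Nat.card A ∣ q ^ 2 + 1 := by
  obtain ⟨x, p, hP, hpq, hx, rfl⟩ := hA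
  have : Fact p.Prime := ⟨hP⟩
  exact torus_card_dvd hp hpq hx

lemma IsTorus.two_le_card {A : Subgroup (Sz F e)} (hA : IsTorus A) : 2 ≤ Nat.card A := by
  obtain ⟨x, p, hP, -, hx, rfl⟩ := hA
  have h1 : p ∣ Nat.card (Subgroup.centralizer {x}) :=
    hx ▸ Subgroup.orderOf_dvd_natCard _ (Subgroup.mem_centralizer_singleton_iff.2 rfl)
  exact hP.two_le.trans (Nat.le_of_dvd Nat.card_pos h1)

lemma IsTorus.five_le_card (hp : Params F e) {A : Subgroup (Sz F e)} (hA : IsTorus A) :
    5 ≤ Nat.card A := by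
  obtain ⟨c, hc⟩ := hA.card_dvd hp
  have h2 := odd_sq_add_one hp
  have h2A := hA.two_le_card
  by_contra h
  have h3 : q ^ 2 % 3 = 1 := by
    rw [Nat.pow_mod, hp.mod_three]
  rcases (show Nat.card A = 2 ∨ Nat.card A = 3 ∨ Nat.card A = 4 by omega) with h | h | h <;>
    rw [h] at hc <;> omega

lemma IsTorus.centralizer_eq (hp : Params F e) {A : Subgroup (Sz F e)} (hA : IsTorus A)
    {y : Sz F e} (hy : y ∈ A) (hy1 : y ≠ 1) : Subgroup.centralizer {y} = A := by
  have hd := hA.card_dvd hp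
  have hcyc := hA.cyclic hp
  obtain ⟨x, p, hP, hpq, hx, rfl⟩ := hA
  set n := orderOf y with hn
  obtain ⟨r, hr, hrn⟩ := Nat.exists_prime_and_dvd (n := n)
    (fun h => hy1 (orderOf_eq_one_iff.1 h))
  have : Fact r.Prime := ⟨hr⟩
  have hn0 : n ≠ 0 := (orderOf_pos y).ne'
  set z := y ^ (n / r)
  have hzo : orderOf z = r := by
    rw [show z = y ^ (orderOf y / r) from rfl, orderOf_pow_orderOf_div hn0 hrn]
  have hrq : r ∣ q ^ 2 + 1 := hrn.trans ((Subgroup.orderOf_dvd_natCard _ hy).trans hd)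
  have hC := torus_isCyclic hp hrq hzo
  have hcomm : ∀ {A : Subgroup (Sz F e)}, IsCyclic A → ∀ a ∈ A, ∀ b ∈ A, a * b = b * a := by
    intro A hA a ha b hb
    let _ := @IsCyclic.commGroup _ _ hA
    exact congrArg Subtype.val (mul_comm (⟨a, ha⟩ : A) ⟨b, hb⟩)
  have hxA : x ∈ Subgroup.centralizer {x} := Subgroup.mem_centralizer_singleton_iff.2 rfl
  have hxz : x ∈ Subgroup.centralizer {z} := by
    rw [Subgroup.mem_centralizer_singleton_iff]
    exact hcomm hcyc x hxA z (pow_mem hy _)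
  apply le_antisymm
  · intro g hg
    rw [Subgroup.mem_centralizer_singleton_iff] at hg ⊢
    refine hcomm hC g ?_ x hxz
    rw [Subgroup.mem_centralizer_singleton_iff]
    exact (Commute.pow_right hg (n / r)).eq
  · intro g hg
    rw [Subgroup.mem_centralizer_singleton_iff]
    exact hcomm hcyc g hg y hy

lemma IsTorus.eq_of_mem (hp : Params F e) {A B : Subgroup (Sz F e)} (hA : IsTorus A)
    (hB : IsTorus B) {y : Sz F e} (hy1 : y ≠ 1) (ha : y ∈ A) (hb : y ∈ B) : A = B := by
  rw [← hA.centralizer_eq hp ha hy1, hB.centralizer_eq hp hb hy1]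

omit [Fintype F] in
lemma conj_mem_centralizer {g a x : Sz F e} :
    g * a * g⁻¹ ∈ Subgroup.centralizer {g * x * g⁻¹} ↔ a ∈ Subgroup.centralizer {x} := by
  rw [Subgroup.mem_centralizer_singleton_iff, Subgroup.mem_centralizer_singleton_iff]
  exact ⟨fun h => by simpa [mul_assoc] using congrArg (fun y => g⁻¹ * y * g) h,
    fun h => (commute_conj h).eq⟩

lemma IsTorus.map_conj {A : Subgroup (Sz F e)} (hA : IsTorus A) (g : Sz F e) :
    IsTorus (A.map (MulAut.conj g).toMonoidHom) := by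
  obtain ⟨x, p, hP, hpq, hx, rfl⟩ := hA
  refine ⟨g * x * g⁻¹, p, hP, hpq, ((MulAut.conj g).orderOf_eq x).trans hx, ?_⟩
  ext y
  constructor
  · rintro ⟨a, ha, rfl⟩
    exact conj_mem_centralizer.2 ha
  · intro hy
    refine ⟨g⁻¹ * y * g, (conj_mem_centralizer (g := g)).1 ?_, by simp [mul_assoc]⟩
    rwa [show g * (g⁻¹ * y * g) * g⁻¹ = y by simp [mul_assoc]]

lemma IsTorus.TI (hp : Params F e) {A : Subgroup (Sz F e)} (hA : IsTorus A) (g a : Sz F e)
    (ha : a ∈ A) (ha1 : a ≠ 1) (hg : g * a * g⁻¹ ∈ A) :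
    g ∈ Subgroup.normalizer (A : Set (Sz F e)) := by
  have h1 : A.map (MulAut.conj g).toMonoidHom = A :=
    (hA.map_conj g).eq_of_mem hp hA (fun h => ha1 (conj_eq_one_iff.1 h)) ⟨a, ha, rfl⟩ hg
  rw [Subgroup.mem_normalizer_iff]
  intro b
  constructor
  · intro hb
    rw [← h1]
    exact ⟨b, hb, rfl⟩
  · intro hb
    rw [← h1] at hb
    obtain ⟨c, hc, hce⟩ := hb
    rwa [← (MulAut.conj g).injective hce]

lemma IsTorus.normalizer_card (hp : Params F e) {A : Subgroup (Sz F e)} (hA : IsTorus A) :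
    ∃ k, (k = 1 ∨ k = 2 ∨ k = 4) ∧
      Nat.card (Subgroup.normalizer (A : Set (Sz F e))) = k * Nat.card A := by
  classical
  obtain ⟨x, p, hP, hpq, hx, rfl⟩ := hA
  have : Fact p.Prime := ⟨hP⟩
  set A := Subgroup.centralizer {x}
  set N := Subgroup.normalizer (A : Set (Sz F e))
  have hxA : x ∈ A := Subgroup.mem_centralizer_singleton_iff.2 rfl
  set B := A.subgroupOf N
  have hfix : ∀ n n' : N, (QuotientGroup.mk n : N ⧸ B) = QuotientGroup.mk n' ↔
      (n : Sz F e) * x * (n : Sz F e)⁻¹ = (n' : Sz F e) * x * (n' : Sz F e)⁻¹ := by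
    intro n n'
    rw [QuotientGroup.eq, Subgroup.mem_subgroupOf, Subgroup.coe_mul, Subgroup.coe_inv,
      Subgroup.mem_centralizer_singleton_iff]
    constructor
    · intro h
      have h' := congrArg (fun y => (n : Sz F e) * y * (n' : Sz F e)⁻¹) h
      simpa [mul_assoc] using h'.symm
    · intro h
      have h' := congrArg (fun y => (n : Sz F e)⁻¹ * y * (n' : Sz F e)) h
      simpa [mul_assoc] using h'.symm
  let Y : N ⧸ B → Matrix (Fin 4) (Fin 4) F := fun c =>
    mat ((c.out : Sz F e) * x * (c.out : Sz F e)⁻¹)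
  have hle : B.index ≤ 4 := by
    refine (regularIrred hp hpq hx).card_roots_le Y ?_ ?_ ?_
    · intro c c' h
      rw [← c.out_eq, ← c'.out_eq]
      exact (hfix _ _).2 (mat_injective h)
    · intro c
      show mat _ * mat x = mat x * mat _
      rw [← mat_mul, ← mat_mul]
      exact congrArg mat (Subgroup.mem_centralizer_singleton_iff.1
        ((Subgroup.mem_normalizer_iff.1 c.out.2 x).1 hxA))
    · intro c
      have hu : ∀ n : Sz F e, mat n * mat n⁻¹ = 1 := fun n => by
        rw [← mat_mul, mul_inv_cancel]; exact map_one (matHom F e)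
      let u : (Matrix (Fin 4) (Fin 4) F)ˣ :=
        ⟨mat (c.out : Sz F e), mat (c.out : Sz F e)⁻¹, hu _, mul_eq_one_comm.1 (hu _)⟩
      let σ : Matrix (Fin 4) (Fin 4) F →ₐ[F] Matrix (Fin 4) (Fin 4) F :=
        (AlgEquiv.ofAlgHom
          { toFun := fun M => (u : Matrix (Fin 4) (Fin 4) F) * M * ↑u⁻¹
            map_one' := by simp
            map_mul' := fun a b => by simp [mul_assoc]
            map_zero' := by simp
            map_add' := fun a b => by simp [mul_add, add_mul]
            commutes' := fun r => by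
              rw [← Algebra.commutes r (u : Matrix (Fin 4) (Fin 4) F), mul_assoc, Units.mul_inv,
                mul_one] }
          { toFun := fun M => (↑u⁻¹ : Matrix (Fin 4) (Fin 4) F) * M * (u : Matrix (Fin 4) (Fin 4) F)
            map_one' := by simp
            map_mul' := fun a b => by simp [mul_assoc]
            map_zero' := by simp
            map_add' := fun a b => by simp [mul_add, add_mul]
            commutes' := fun r => by
              rw [← Algebra.commutes r (↑u⁻¹ : Matrix (Fin 4) (Fin 4) F), mul_assoc, Units.inv_mul,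
                mul_one] }
          (AlgHom.ext fun M => by simp [mul_assoc])
          (AlgHom.ext fun M => by simp [mul_assoc])).toAlgHom
      have hY : Y c = σ (mat x) := by
        show mat (_ * x * _) = _
        rw [mat_mul, mat_mul]
        rfl
      rw [hY, Polynomial.aeval_algHom_apply, minpoly.aeval, map_zero]
  have hmul : B.index * Nat.card A = Nat.card N := by
    rw [← B.index_mul_card,
      Nat.card_congr (Subgroup.subgroupOfEquivOfLe (Subgroup.le_normalizer (H := A))).toEquiv]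
  have hdvd : B.index ∣ q ^ 2 * (q ^ 2 + 1) * (q - 1) := by
    rw [← card_eq hp]
    exact (Dvd.intro _ hmul).trans (Subgroup.card_subgroup_dvd_card N)
  have h3 : B.index ≠ 3 := by
    intro h3
    rw [h3] at hdvd
    have hsq : q ^ 2 % 3 = 1 := by rw [Nat.pow_mod, hp.mod_three]
    have := hp.eight
    have hpr : Nat.Prime 3 := Nat.prime_three
    rcases hpr.dvd_mul.1 hdvd with h | h
    · rcases hpr.dvd_mul.1 h with h | h <;> omega
    · have := hp.mod_three
      omega
  have h0 : B.index ≠ 0 := Subgroup.index_ne_zero_of_finite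
  exact ⟨B.index, by omega, hmul.symm⟩

end CfsgLib.KnownB.Suzuki
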