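import Cfsg.Agent.Lib.KnownB.SuzukiTori
import Cfsg.Agent.Lib.KnownB.SuzukiTransfer

set_option autoImplicit false

/-!
The partition of the Suzuki group into Sylow 2-subgroups and cyclic tori of orders `q - 1`,
`q + r + 1`, `q - r + 1`.
-/

namespace CfsgLib.KnownB.Suzuki

open Cfsg.Lie CfsgLib.KnownB.SzElem CfsgLib.KnownB.TICount

variable {F : Type*} [Field F] [Fintype F] {e : ℕ}

local notation "q" => Fintype.card F

/-- The nontrivial elements in tori of order dividing `q² + 1`. -/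
def torusSet (F : Type*) [Field F] [Fintype F] (e : ℕ) : Set (Sz F e) :=
  {x | x ≠ 1 ∧ ∃ A, IsTorus A ∧ x ∈ A}

lemma exists_cases (hp : Params F e) {x : Sz F e} (hx : x ≠ 1) :
    x ∈ conjSet (uGroup hp.twist) ∨ x ∈ conjSet (hGroup hp.twist) ∨ x ∈ torusSet F e := by
  classical
  set n := orderOf x with hn
  have hn0 : n ≠ 0 := (orderOf_pos x).ne'
  have hdvd : n ∣ q ^ 2 * (q ^ 2 + 1) * (q - 1) := card_eq hp ▸ orderOf_dvd_natCard x
  by_cases h1 : ∃ r, r.Prime ∧ r ∣ n ∧ r ∣ q ^ 2 + 1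
  · obtain ⟨r, hr, hrn, hrq⟩ := h1
    refine Or.inr (Or.inr ⟨hx, _, ⟨x ^ (n / r), r, hr, hrq, ?_, rfl⟩, ?_⟩)
    · exact orderOf_pow_orderOf_div hn0 hrn
    · exact Subgroup.mem_centralizer_singleton_iff.2 ((Commute.refl x).pow_right _).eq
  by_cases h2 : ∃ r, r.Prime ∧ r ∣ n ∧ r ∣ q - 1
  · obtain ⟨r, hr, hrn, hrq⟩ := h2
    have : Fact r.Prime := ⟨hr⟩
    obtain ⟨g, hg⟩ := conj_mem_hGroup hp hrq (orderOf_pow_orderOf_div hn0 hrn)
    obtain ⟨t, ht⟩ := hg
    refine Or.inr (Or.inl ⟨hx, g, ?_⟩)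
    have ht1 : t ≠ 1 := by
      rintro rfl
      rw [map_one] at ht
      have h3 := orderOf_pow_orderOf_div (x := x) hn0 hrn
      rw [conj_eq_one_iff.1 ht.symm, orderOf_one] at h3
      exact hr.one_lt.ne h3
    rw [← centralizer_H hp.twist ht1, Subgroup.mem_centralizer_singleton_iff,
      show H e hp.twist t = g * x ^ (n / r) * g⁻¹ from ht]
    exact (commute_conj ((Commute.refl x).pow_right _)).eq
  push Not at h1 h2
  have h3 : ∀ r, r.Prime → r ∣ n → r = 2 := by
    intro r hr hrn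
    rcases hr.dvd_mul.1 (hrn.trans hdvd) with h | h
    · rcases hr.dvd_mul.1 h with h | h
      · obtain ⟨k, hk⟩ : ∃ k, q = 2 ^ k := by
          have : CharP F 2 := CharTwo.of_one_ne_zero_of_two_eq_zero one_ne_zero hp.twist.two
          obtain ⟨k, -, hk⟩ := FiniteField.card F 2
          exact ⟨k, hk⟩
        rw [hk, ← pow_mul] at h
        exact (Nat.prime_dvd_prime_iff_eq hr Nat.prime_two).1 (hr.dvd_of_dvd_pow h)
      · exact absurd h (h1 r hr hrn)
    · exact absurd h (h2 r hr hrn)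
  refine Or.inl ⟨hx, conj_mem_uGroup hp (IsPGroup.of_card (n := n.primeFactorsList.length) ?_)⟩
  rw [Nat.card_zpowers]
  exact Nat.eq_prime_pow_of_unique_prime_dvd hn0 fun {r} hr hrn => h3 r hr hrn

lemma orderOf_dvd_uGroup (hp : Params F e) {x : Sz F e} (hx : x ∈ conjSet (uGroup hp.twist)) :
    orderOf x ∣ q ^ 2 :=
  Nat.card_eq_fintype_card (α := F) ▸ card_uGroup hp.twist ▸ orderOf_dvd_of_mem_conjSet hx

lemma orderOf_dvd_hGroup (hp : Params F e) {x : Sz F e} (hx : x ∈ conjSet (hGroup hp.twist)) :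
    orderOf x ∣ q - 1 :=
  card_hGroup hp.twist ▸ orderOf_dvd_of_mem_conjSet hx

lemma orderOf_dvd_torus (hp : Params F e) {x : Sz F e} (hx : x ∈ torusSet F e) :
    orderOf x ∣ q ^ 2 + 1 := by
  obtain ⟨-, A, hA, hxA⟩ := hx
  exact (Subgroup.orderOf_dvd_natCard _ hxA).trans (hA.card_dvd hp)

lemma eq_one_of_dvd_two {n a b : ℕ} (h : Nat.Coprime a b) (ha : n ∣ a) (hb : n ∣ b) : n = 1 :=
  Nat.dvd_one.1 (h ▸ Nat.dvd_gcd ha hb)

theorem card_torusSet (hp : Params F e) :
    2 * Nat.card (torusSet F e) = q ^ 3 * (q - 1) ^ 2 := by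
  classical
  have hsplit : ({1}ᶜ : Set (Sz F e)) =
      conjSet (uGroup hp.twist) ∪ conjSet (hGroup hp.twist) ∪ torusSet F e := by
    ext x
    constructor
    · intro hx
      simpa [Set.mem_union, or_assoc] using exists_cases hp hx
    · rintro ((hx | hx) | hx) <;> exact hx.1
  have hdisj : ∀ (S T : Set (Sz F e)) (a b : ℕ), Nat.Coprime a b → (∀ x ∈ S, orderOf x ∣ a) →
      (∀ x ∈ T, orderOf x ∣ b) → (∀ x ∈ S, x ≠ 1) → Disjoint S T := by
    intro S T a b hab hS hT hS1
    rw [Set.disjoint_left]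
    intro x hxS hxT
    exact hS1 x hxS (orderOf_eq_one_iff.1 (eq_one_of_dvd_two hab (hS x hxS) (hT x hxT)))
  have hq := hp.eight
  have c1 : Nat.Coprime (q ^ 2) (q - 1) := by
    refine Nat.Coprime.pow_left 2 ?_
    obtain ⟨k, hk⟩ : ∃ k, q = k + 1 := ⟨q - 1, by omega⟩
    rw [hk, Nat.add_sub_cancel]
    exact Nat.coprime_self_add_left.2 (Nat.coprime_one_left k)
  have c2 : Nat.Coprime (q ^ 2) (q ^ 2 + 1) := Nat.coprime_self_add_right.2 (Nat.coprime_one_right _)
  have d1 := hdisj _ _ _ _ c1 (fun x => orderOf_dvd_uGroup hp) (fun x => orderOf_dvd_hGroup hp)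
    fun x hx => hx.1
  have d2 := hdisj _ _ _ _ c2 (fun x => orderOf_dvd_uGroup hp) (fun x => orderOf_dvd_torus hp)
    fun x hx => hx.1
  have d3 := hdisj _ _ _ _ (coprime_sub_one hp).symm (fun x => orderOf_dvd_hGroup hp)
    (fun x => orderOf_dvd_torus hp) fun x hx => hx.1
  have hsum : Nat.card (Sz F e) = 1 + (Nat.card (conjSet (uGroup hp.twist)) +
      Nat.card (conjSet (hGroup hp.twist)) + Nat.card (torusSet F e)) := by
    simp only [Nat.card_coe_set_eq]
    rw [← Set.ncard_union_eq d1, ← Set.ncard_union_eq (Set.disjoint_union_left.2 ⟨d2, d3⟩),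
      ← hsplit, ← Set.ncard_singleton (1 : Sz F e), Set.ncard_add_ncard_compl]
  have hU := card_conjSet (uGroup hp.twist) (fun g a => uGroup_TI hp.twist g a)
  have hH := card_conjSet (hGroup hp.twist) (fun g a => hGroup_TI hp.twist g a)
  rw [normalizer_uGroup, card_borel hp.twist, card_uGroup, Nat.card_eq_fintype_card (α := F)] at hU
  rw [card_normalizer_hGroup hp.twist (Fintype.exists_ne_of_one_lt_card (by
    rw [Fintype.card_units]; omega) 1), card_hGroup] at hH
  rw [card_eq hp] at hsum hU hH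
  generalize Nat.card (conjSet (uGroup hp.twist)) = u at *
  generalize Nat.card (conjSet (hGroup hp.twist)) = h at *
  generalize Nat.card (torusSet F e) = t at *
  obtain ⟨a, ha⟩ : ∃ a, q = a + 2 := ⟨q - 2, by omega⟩
  rw [ha] at hsum hU hH ⊢
  simp only [show a + 2 - 1 = a + 1 from rfl, show (a + 1) - 1 = a from rfl] at hsum hU hH ⊢
  have hU' : u + 1 = (a + 2) ^ 4 := by
    have h1 : 1 ≤ (a + 2) ^ 2 := Nat.one_le_pow _ _ (by omega)
    obtain ⟨b, hb⟩ : ∃ b, (a + 2) ^ 2 = b + 1 := ⟨_, (Nat.sub_add_cancel h1).symm⟩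
    rw [hb, Nat.add_sub_cancel] at hU
    have h2 : u = (b + 2) * b := by
      apply Nat.eq_of_mul_eq_mul_right (show 0 < (b + 1) * (a + 1) by positivity)
      linear_combination hU
    rw [show (a + 2) ^ 4 = ((a + 2) ^ 2) ^ 2 by ring, hb, h2]
    ring
  have hH' : 2 * h = (a + 2) ^ 2 * ((a + 2) ^ 2 + 1) * a := by
    apply Nat.eq_of_mul_eq_mul_right (show 0 < a + 1 by omega)
    linear_combination hH
  linear_combination -(2 * hsum) - (2 * hU') - hH'

/-- The conjugates of a torus. -/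
def orbitSet (A : Subgroup (Sz F e)) : Set (Sz F e) := conjSet A

lemma IsTorus.conjSet_subset {A : Subgroup (Sz F e)} (hA : IsTorus A) :
    conjSet A ⊆ torusSet F e := by
  rintro x ⟨hx, g, hg⟩
  exact ⟨hx, _, hA.map_conj g⁻¹, _, hg, by simp [mul_assoc]⟩

lemma IsTorus.conj_of_inter (hp : Params F e) {A B : Subgroup (Sz F e)} (hA : IsTorus A)
    (hB : IsTorus B) {x : Sz F e} (ha : x ∈ conjSet A) (hb : x ∈ conjSet B) :
    ∃ g, A.map (MulAut.conj g).toMonoidHom = B := by
  obtain ⟨hx, g, hg⟩ := ha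
  obtain ⟨-, h, hh⟩ := hb
  refine ⟨h * g⁻¹, (hA.map_conj _).eq_of_mem hp hB (y := h * x * h⁻¹)
    (fun h' => hx (conj_eq_one_iff.1 h')) ⟨_, hg, ?_⟩ hh⟩
  simp [mul_assoc]

lemma IsTorus.mem_conjSet_of_map {A B : Subgroup (Sz F e)} {g : Sz F e}
    (h : A.map (MulAut.conj g).toMonoidHom = B) {x : Sz F e} (hx : x ≠ 1) (hxB : x ∈ B) :
    x ∈ conjSet A := by
  rw [← h] at hxB
  obtain ⟨a, ha, rfl⟩ := hxB
  exact ⟨hx, g⁻¹, by simpa [mul_assoc] using ha⟩

lemma IsTorus.conjSet_count (hp : Params F e) {A : Subgroup (Sz F e)} (hA : IsTorus A) :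
    ∃ k, (k = 1 ∨ k = 2 ∨ k = 4) ∧
      Nat.card (Subgroup.normalizer (A : Set (Sz F e))) = k * Nat.card A ∧
      Nat.card (conjSet A) * (k * Nat.card A) = Nat.card (Sz F e) * (Nat.card A - 1) := by
  obtain ⟨k, hk, hN⟩ := hA.normalizer_card hp
  exact ⟨k, hk, hN, hN ▸ card_conjSet A (fun g a => hA.TI hp g a)⟩

lemma IsTorus.five_mul (hp : Params F e) {A : Subgroup (Sz F e)} (hA : IsTorus A) :
    Nat.card (Sz F e) ≤ 5 * Nat.card (conjSet A) := by
  obtain ⟨k, hk, -, h⟩ := hA.conjSet_count hp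
  obtain ⟨b, hb⟩ : ∃ b, Nat.card A = b + 5 :=
    ⟨_, (Nat.sub_add_cancel (hA.five_le_card hp)).symm⟩
  rw [hb, show b + 5 - 1 = b + 4 from rfl] at h
  rcases hk with rfl | rfl | rfl <;> nlinarith

/-- There are two classes of tori, of orders `q ± r + 1`, each self-centralising with index `4`
in its normaliser, and every element of order dividing `q² + 1` lies in one of them. -/
theorem exists_tori (hp : Params F e) :
    ∃ A B : Subgroup (Sz F e), IsTorus A ∧ IsTorus B ∧
      Nat.card A = q + e + 1 ∧ Nat.card B = q - e + 1 ∧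
      Nat.card (Subgroup.normalizer (A : Set (Sz F e))) = 4 * Nat.card A ∧
      Nat.card (Subgroup.normalizer (B : Set (Sz F e))) = 4 * Nat.card B ∧
      torusSet F e ⊆ conjSet A ∪ conjSet B := by
  classical
  have hq := hp.eight
  have hodd := odd_sq_add_one hp
  have hex : ∀ p, p.Prime → p ∣ q ^ 2 + 1 → ∃ x : Sz F e, orderOf x = p := by
    intro p hP hpq
    have : Fact p.Prime := ⟨hP⟩
    exact exists_prime_orderOf_dvd_card' p (card_eq hp ▸ (hpq.mul_left _).mul_right _)
  obtain ⟨p, hP, hpq⟩ := Nat.exists_prime_and_dvd (n := q ^ 2 + 1) (by have := sq_le hp; omega)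
  obtain ⟨x, hx⟩ := hex p hP hpq
  have hA : IsTorus (Subgroup.centralizer {x}) := ⟨x, p, hP, hpq, hx, rfl⟩
  generalize Subgroup.centralizer {x} = A at hA
  -- a Sylow subgroup lies in any torus meeting it
  have hsyl : ∀ T : Subgroup (Sz F e), IsTorus T → ∀ r, r.Prime → r ∣ Nat.card T →
      r ^ (q ^ 2 + 1).factorization r ∣ Nat.card T := by
    intro T hT r hr hrT
    have : Fact r.Prime := ⟨hr⟩
    obtain ⟨y, hy⟩ := exists_prime_orderOf_dvd_card' r hrT
    have hyo : orderOf (y : Sz F e) = r := by rw [Subgroup.orderOf_coe, hy]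
    have hy1 : (y : Sz F e) ≠ 1 := fun h => by
      rw [h, orderOf_one] at hyo; exact hr.one_lt.ne hyo
    obtain ⟨S, hS⟩ := (IsPGroup.of_card (n := 1) (by
      rw [Nat.card_zpowers, hyo, pow_one]) :
        IsPGroup r (Subgroup.zpowers (y : Sz F e))).exists_le_sylow
    have hrq : r ∣ q ^ 2 + 1 := hrT.trans (hT.card_dvd hp)
    obtain ⟨z, hz⟩ : ∃ z : Subgroup.center (S : Subgroup (Sz F e)), orderOf z = r := by
      refine exists_prime_orderOf_dvd_card' r ?_
      have hnt : Nontrivial (S : Subgroup (Sz F e)) :=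
        ⟨⟨⟨y, hS (Subgroup.mem_zpowers _)⟩, 1, fun h => hy1 (congrArg Subtype.val h)⟩⟩
      have := S.2.center_nontrivial
      obtain ⟨k, hk⟩ := IsPGroup.iff_card.1 (S.2.to_subgroup (Subgroup.center _))
      rw [hk]
      refine dvd_pow_self r ?_
      rintro rfl
      exact absurd hk (by rw [pow_zero]; exact (Finite.one_lt_card.ne'))
    have hzo : orderOf ((z : (S : Subgroup (Sz F e))) : Sz F e) = r := by
      rw [Subgroup.orderOf_coe, Subgroup.orderOf_coe, hz]
    set w := ((z : (S : Subgroup (Sz F e))) : Sz F e)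
    have hC : IsTorus (Subgroup.centralizer {w}) := ⟨w, r, hr, hrq, hzo, rfl⟩
    have hSC : (S : Subgroup (Sz F e)) ≤ Subgroup.centralizer {w} := by
      intro s hs
      rw [Subgroup.mem_centralizer_singleton_iff]
      exact congrArg Subtype.val (Subgroup.mem_center_iff.1 z.2 ⟨s, hs⟩)
    have hCT : Subgroup.centralizer {w} = T :=
      hC.eq_of_mem hp hT hy1 (hSC (hS (Subgroup.mem_zpowers _))) y.2
    have h1 := Subgroup.card_dvd_of_le (hCT ▸ hSC)
    rw [S.card_eq_multiplicity, card_eq hp] at h1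
    refine (pow_dvd_pow r ?_).trans h1
    rw [Nat.factorization_mul (by positivity) (by omega),
      Nat.factorization_mul (by positivity) (by positivity)]
    simp only [Finsupp.add_apply]
    omega
  have hcop : ∀ T T' : Subgroup (Sz F e), IsTorus T → IsTorus T' →
      (∀ g, T.map (MulAut.conj g).toMonoidHom ≠ T') →
      Nat.Coprime (Nat.card T) (Nat.card T') := by
    intro T T' hT hT' hne
    refine Nat.coprime_of_dvd fun r hr h1 h2 => ?_
    have : Fact r.Prime := ⟨hr⟩
    obtain ⟨y, hy⟩ := exists_prime_orderOf_dvd_card' r h1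
    obtain ⟨y', hy'⟩ := exists_prime_orderOf_dvd_card' r h2
    have hfac : ∀ Q : Subgroup (Sz F e), IsTorus Q → r ∣ Nat.card Q →
        ∃ R : Sylow r (Sz F e), (R : Subgroup (Sz F e)) ≤ Q := by
      intro Q hQ hrQ
      obtain ⟨R⟩ : Nonempty (Sylow r Q) := inferInstance
      refine ⟨Sylow.ofCard ((R : Subgroup Q).map Q.subtype) ?_, Subgroup.map_subtype_le _⟩
      rw [Subgroup.card_map_of_injective Subtype.val_injective, R.card_eq_multiplicity,
        card_eq hp]
      have h3 : (q ^ 2 + 1).factorization r ≤ (Nat.card Q).factorization r :=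
        (hr.pow_dvd_iff_le_factorization Nat.card_pos.ne').1 (hsyl Q hQ r hr hrQ)
      have h4 : (Nat.card Q).factorization r ≤ (q ^ 2 + 1).factorization r :=
        (Nat.factorization_le_iff_dvd Nat.card_pos.ne' (by positivity)).2 (hQ.card_dvd hp) r
      have hrq : r ∣ q ^ 2 + 1 := hrQ.trans (hQ.card_dvd hp)
      have h5 : ¬ r ∣ q ^ 2 := fun h => by
        have := Nat.dvd_one.1 (show r ∣ 1 by simpa using Nat.dvd_sub hrq h)
        exact hr.one_lt.ne' this
      have h6 : ¬ r ∣ q - 1 := fun h => hr.one_lt.ne' (eq_one_of_dvd_two (coprime_sub_one hp) hrq h)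
      rw [Nat.factorization_mul (by positivity) (by omega),
        Nat.factorization_mul (by positivity) (by positivity), Finsupp.add_apply,
        Finsupp.add_apply, Nat.factorization_eq_zero_of_not_dvd h5,
        Nat.factorization_eq_zero_of_not_dvd h6]
      congr 1
      omega
    obtain ⟨R, hR⟩ := hfac T hT h1
    obtain ⟨R', hR'⟩ := hfac T' hT' h2
    obtain ⟨g, hg⟩ := MulAction.exists_smul_eq (Sz F e) R R'
    have hnt : ∃ w ∈ (R : Subgroup (Sz F e)), w ≠ 1 := by
      by_contra hcon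
      push Not at hcon
      have hbot : (R : Subgroup (Sz F e)) = ⊥ := (Subgroup.eq_bot_iff_forall _).2 hcon
      have h3 := R.dvd_card_of_dvd_card (h1.trans (Subgroup.card_subgroup_dvd_card T))
      rw [hbot, Subgroup.card_bot] at h3
      exact hr.one_lt.ne' (Nat.dvd_one.1 h3)
    obtain ⟨w, hw, hw1⟩ := hnt
    refine hne g ((hT.map_conj g).eq_of_mem hp hT' (y := g * w * g⁻¹)
      (fun h => hw1 (conj_eq_one_iff.1 h)) ⟨w, hR hw, rfl⟩ (hR' ?_))
    rw [← hg, Sylow.coe_subgroup_smul]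
    exact Subgroup.smul_mem_pointwise_smul w (MulAut.conj g) _ hw
  have hdisj : ∀ T T' : Subgroup (Sz F e), IsTorus T → IsTorus T' →
      (∀ g, T.map (MulAut.conj g).toMonoidHom ≠ T') → Disjoint (conjSet T) (conjSet T') := by
    intro T T' hT hT' hne
    rw [Set.disjoint_left]
    intro y hy hy'
    obtain ⟨g, hg⟩ := hT.conj_of_inter hp hT' hy hy'
    exact hne g hg
  have hT := card_torusSet hp
  obtain ⟨k, hk, hNA, hcA⟩ := hA.conjSet_count hp
  obtain ⟨a, ha⟩ : ∃ a, q = a + 2 := ⟨q - 2, by omega⟩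
  by_cases hone : torusSet F e ⊆ conjSet A
  · exfalso
    rw [show conjSet A = torusSet F e from le_antisymm hA.conjSet_subset hone] at hcA
    have hall : q ^ 2 + 1 ∣ Nat.card A := by
      rw [← Nat.factorization_le_iff_dvd (by positivity) Nat.card_pos.ne']
      intro r
      by_cases hr : r.Prime ∧ r ∣ q ^ 2 + 1
      · obtain ⟨hr, hrq⟩ := hr
        obtain ⟨y, hy⟩ := hex r hr hrq
        have hmem : y ∈ torusSet F e := ⟨fun h => by
          rw [h, orderOf_one] at hy; exact hr.one_lt.ne hy, _, ⟨y, r, hr, hrq, hy, rfl⟩,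
          Subgroup.mem_centralizer_singleton_iff.2 rfl⟩
        have h1 : r ∣ Nat.card A := hy ▸ orderOf_dvd_of_mem_conjSet (hone hmem)
        exact (hr.pow_dvd_iff_le_factorization Nat.card_pos.ne').1 (hsyl A hA r hr h1)
      · rw [Nat.factorization_eq_zero_iff _ r |>.2 (by tauto)]
        exact Nat.zero_le _
    have hAc := Nat.dvd_antisymm (hA.card_dvd hp) hall
    rw [hAc, card_eq hp, ha] at hcA
    rw [ha, show a + 2 - 1 = a + 1 from rfl] at hT
    simp only [show a + 2 - 1 = a + 1 from rfl, Nat.add_sub_cancel] at hcA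
    have h2 : (a + 1) * k = 2 * (a + 2) := by
      apply Nat.eq_of_mul_eq_mul_left
        (show 0 < (a + 2) ^ 3 * (a + 1) * ((a + 2) ^ 2 + 1) by positivity)
      linear_combination 2 * hcA - (k * ((a + 2) ^ 2 + 1)) * hT
    rcases hk with rfl | rfl | rfl <;> omega
  · obtain ⟨y, hy, hyA⟩ := Set.not_subset.1 hone
    obtain ⟨hy1, B, hB, hyB⟩ := hy
    have hAB : ∀ g, A.map (MulAut.conj g).toMonoidHom ≠ B := fun g hg =>
      hyA (IsTorus.mem_conjSet_of_map hg hy1 hyB)
    obtain ⟨l, hl, hNB, hcB⟩ := hB.conjSet_count hp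
    have hdAB := hdisj A B hA hB hAB
    have hcover : torusSet F e ⊆ conjSet A ∪ conjSet B := by
      intro z hz
      by_contra hzn
      obtain ⟨hz1, C, hC, hzC⟩ := hz
      have hAC : ∀ g, A.map (MulAut.conj g).toMonoidHom ≠ C := fun g hg =>
        hzn (Or.inl (IsTorus.mem_conjSet_of_map hg hz1 hzC))
      have hBC : ∀ g, B.map (MulAut.conj g).toMonoidHom ≠ C := fun g hg =>
        hzn (Or.inr (IsTorus.mem_conjSet_of_map hg hz1 hzC))
      have hsub : conjSet A ∪ conjSet B ∪ conjSet C ⊆ torusSet F e :=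
        Set.union_subset (Set.union_subset hA.conjSet_subset hB.conjSet_subset) hC.conjSet_subset
      have h1 := Set.ncard_le_ncard hsub
      rw [Set.ncard_union_eq (Set.disjoint_union_left.2 ⟨hdisj A C hA hC hAC, hdisj B C hB hC hBC⟩),
        Set.ncard_union_eq hdAB] at h1
      simp only [← Nat.card_coe_set_eq] at h1
      have e1 := hA.five_mul hp
      have e2 := hB.five_mul hp
      have e3 := hC.five_mul hp
      rw [card_eq hp, ha] at e1 e2 e3
      rw [ha] at hT
      simp only [show a + 2 - 1 = a + 1 from rfl] at e1 e2 e3 hT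
      have e4 : (a + 2) * (a + 1) < (a + 2) ^ 2 + 1 := by nlinarith
      have e5 := Nat.mul_lt_mul_of_pos_left e4 (show 0 < (a + 2) ^ 2 * (a + 1) by positivity)
      nlinarith
    have hsum : Nat.card (torusSet F e) = Nat.card (conjSet A) + Nat.card (conjSet B) := by
      simp only [Nat.card_coe_set_eq]
      rw [← Set.ncard_union_eq hdAB]
      exact congrArg Set.ncard (le_antisymm hcover
        (Set.union_subset hA.conjSet_subset hB.conjSet_subset))
    have hab : Nat.card A * Nat.card B = q ^ 2 + 1 := by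
      refine Nat.dvd_antisymm ((hcop A B hA hB hAB).mul_dvd_of_dvd_of_dvd (hA.card_dvd hp)
        (hB.card_dvd hp)) ?_
      rw [← Nat.factorization_le_iff_dvd (by positivity)
        (Nat.mul_ne_zero Nat.card_pos.ne' Nat.card_pos.ne')]
      intro r
      by_cases hr : r.Prime ∧ r ∣ q ^ 2 + 1
      · obtain ⟨hr, hrq⟩ := hr
        obtain ⟨z, hz⟩ := hex r hr hrq
        have hmem : z ∈ torusSet F e := ⟨fun h => by
          rw [h, orderOf_one] at hz; exact hr.one_lt.ne hz, _, ⟨z, r, hr, hrq, hz, rfl⟩,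
          Subgroup.mem_centralizer_singleton_iff.2 rfl⟩
        rw [← hr.pow_dvd_iff_le_factorization (Nat.mul_ne_zero Nat.card_pos.ne' Nat.card_pos.ne')]
        rcases hcover hmem with h1 | h1
        · exact (hsyl A hA r hr (hz ▸ orderOf_dvd_of_mem_conjSet h1)).mul_right _
        · exact (hsyl B hB r hr (hz ▸ orderOf_dvd_of_mem_conjSet h1)).mul_left _
      · rw [Nat.factorization_eq_zero_iff _ r |>.2 (by tauto)]
        exact Nat.zero_le _
    have hA5 := hA.five_le_card hp
    have hB5 := hB.five_le_card hp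
    obtain ⟨c, hc⟩ : ∃ c, Nat.card A = c + 1 := ⟨_, (Nat.sub_add_cancel (by omega)).symm⟩
    obtain ⟨d, hd⟩ : ∃ d, Nat.card B = d + 1 := ⟨_, (Nat.sub_add_cancel (by omega)).symm⟩
    rw [hc, Nat.add_sub_cancel, card_eq hp, ha] at hcA
    rw [hd, Nat.add_sub_cancel, card_eq hp, ha] at hcB
    rw [hsum, ha] at hT
    rw [hc, hd, ha] at hab
    simp only [show a + 2 - 1 = a + 1 from rfl] at hcA hcB hT
    generalize Nat.card (conjSet A) = u at hcA hT
    generalize Nat.card (conjSet B) = v at hcB hT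
    have hmain : (a + 2) * (a + 1) * (k * l) =
        2 * (c * (d + 1) * l + d * (c + 1) * k) := by
      apply Nat.eq_of_mul_eq_mul_left
        (show 0 < (a + 2) ^ 2 * (a + 1) * ((a + 2) ^ 2 + 1) by positivity)
      linear_combination (2 * (d + 1) * l) * hcA + (2 * (c + 1) * k) * hcB
        - (k * l * ((c + 1) * (d + 1))) * hT - ((a + 2) ^ 3 * (a + 1) ^ 2 * k * l) * hab
    have hkl : k = 4 ∧ l = 4 := by
      have h5 : 5 ≤ c + 1 := by omega
      have h6 : 5 ≤ d + 1 := by omega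
      rcases hk with rfl | rfl | rfl <;> rcases hl with rfl | rfl | rfl <;>
        first | exact ⟨rfl, rfl⟩ | (exfalso; nlinarith [Nat.mul_le_mul h5 h6])
    obtain ⟨rfl, rfl⟩ := hkl
    have hsum2 : c + d = 2 * (a + 2) :=
      Nat.eq_of_mul_eq_mul_left (show 0 < 8 by omega) (by linear_combination 16 * hab + hmain)
    have hsq := hp.sq
    rw [ha] at hsq
    have hcd : ((c : ℤ) - d) ^ 2 = (2 * (e : ℤ)) ^ 2 := by
      have hsum2' : (c : ℤ) + d = 2 * (a + 2) := by exact_mod_cast hsum2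
      have hab' : ((c : ℤ) + 1) * (d + 1) = (a + 2) ^ 2 + 1 := by exact_mod_cast hab
      have hsq' : (e : ℤ) * e = 2 * (a + 2) := by exact_mod_cast hsq
      linear_combination (((c : ℤ) + d) + 2 * (a + 2) + 4) * hsum2' - 4 * hab' - 4 * hsq'
    rcases sq_eq_sq_iff_eq_or_eq_neg.1 hcd with h | h
    · exact ⟨A, B, hA, hB, by omega, by omega, hNA, hNB, hcover⟩
    · exact ⟨B, A, hB, hA, by omega, by omega, hNB, hNA, by rwa [Set.union_comm]⟩

end CfsgLib.KnownB.Suzuki
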