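import Cfsg.Agent.Lib.KnownB.WordAlt
import Cfsg.Prelude.Def_Classical

set_option autoImplicit false

/-!
Non-central word values in the classical groups of large rank or over a large field.
-/

namespace CfsgLib.KnownB.WordClassical

open Matrix CfsgLib.KnownB.WordSL2 CfsgLib.KnownB.WordAlt

variable {F : Type*} [Field F]

/-- An equivalence `Fin 2 ⊕ Fin (n - 2) ≃ Fin n`. -/
def splitTwo {n : ℕ} (hn : 2 ≤ n) : Fin 2 ⊕ Fin (n - 2) ≃ Fin n :=
  finSumFinEquiv.trans (finCongr (by omega))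

/-- `A ↦ A ⊕ 1`. -/
def padMat {n : ℕ} (hn : 2 ≤ n) : Matrix (Fin 2) (Fin 2) F →* Matrix (Fin n) (Fin n) F where
  toFun A := reindex (splitTwo hn) (splitTwo hn) (fromBlocks A 0 0 1)
  map_one' := by simp [fromBlocks_one]
  map_mul' A B := by simp [fromBlocks_multiply]

lemma padMat_injective {n : ℕ} (hn : 2 ≤ n) : Function.Injective (padMat (F := F) hn) := by
  intro A B h
  simp only [padMat, MonoidHom.coe_mk, OneHom.coe_mk] at h
  exact (fromBlocks_inj.1 ((reindex (splitTwo hn) (splitTwo hn)).injective h)).1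

lemma det_padMat {n : ℕ} (hn : 2 ≤ n) (A : Matrix (Fin 2) (Fin 2) F) :
    (padMat hn A).det = A.det := by
  simp [padMat, det_fromBlocks_zero₁₂]

lemma padMat_transpose {n : ℕ} (hn : 2 ≤ n) (A : Matrix (Fin 2) (Fin 2) F) :
    (padMat hn A)ᵀ = padMat hn Aᵀ := by
  simp [padMat, fromBlocks_transpose]

lemma padMat_map {n : ℕ} (hn : 2 ≤ n) (A : Matrix (Fin 2) (Fin 2) F) (σ : F →+* F) :
    (padMat hn A).map σ = padMat hn (A.map σ) := by
  simp only [padMat, MonoidHom.coe_mk, OneHom.coe_mk, reindex_apply, ← submatrix_map, fromBlocks_map]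
  simp

/-- `A ↦ A ⊕ 1` on special linear groups. -/
def padSL {n : ℕ} (hn : 2 ≤ n) :
    Matrix.SpecialLinearGroup (Fin 2) F →* Matrix.SpecialLinearGroup (Fin n) F where
  toFun A := ⟨padMat hn A.1, by rw [det_padMat]; exact A.2⟩
  map_one' := Subtype.ext (map_one (padMat hn))
  map_mul' A B := Subtype.ext (map_mul (padMat hn) A.1 B.1)

lemma padSL_injective {n : ℕ} (hn : 2 ≤ n) : Function.Injective (padSL (F := F) hn) := fun A B h =>
  Subtype.ext (padMat_injective hn (congrArg Subtype.val h))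

/-- Even permutations as unimodular matrices. -/
def altSL (n : ℕ) : alternatingGroup (Fin n) →* Matrix.SpecialLinearGroup (Fin n) F where
  toFun s := ⟨permMatrixHom (R := F) (s : Equiv.Perm (Fin n)), by
    have hs : Equiv.Perm.sign (s : Equiv.Perm (Fin n))⁻¹ = 1 := by
      rw [map_inv, Equiv.Perm.mem_alternatingGroup.1 s.2, inv_one]
    rw [permMatrixHom_apply, det_permutation, hs]
    simp⟩
  map_one' := Subtype.ext (map_one (permMatrixHom (R := F)))
  map_mul' a b := Subtype.ext (map_mul (permMatrixHom (R := F)) (a : Equiv.Perm (Fin n)) b)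

lemma altSL_injective (n : ℕ) : Function.Injective (altSL (F := F) n) := by
  intro a b h
  have h2 : permMatrixHom (R := F) (a : Equiv.Perm (Fin n)) = permMatrixHom (b : Equiv.Perm (Fin n)) :=
    congrArg Subtype.val h
  refine Subtype.ext (inv_injective (Equiv.ext fun i => ?_))
  have h3 := congrFun (congrFun h2 i) ((b : Equiv.Perm (Fin n))⁻¹ i)
  simp only [permMatrixHom_apply, Equiv.Perm.permMatrix, PEquiv.toMatrix_apply,
    Equiv.toPEquiv_apply, Option.mem_some_iff] at h3
  simpa using h3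

/-- The unitarity condition in matrix form. -/
lemma mem_SU {n q : ℕ} (σ : F →+* F) (hσ : ∀ x, σ x = x ^ q)
    (X : Matrix.SpecialLinearGroup (Fin n) F)
    (h : (X : Matrix (Fin n) (Fin n) F)ᵀ * (X : Matrix (Fin n) (Fin n) F).map σ = 1) :
    X ∈ Cfsg.SU n F q := by
  intro u v
  have hX : Cfsg.slToMat n F X = (X : Matrix (Fin n) (Fin n) F) := rfl
  rw [hX]
  have e : ∀ a b : Fin n → F, Cfsg.hermForm n F q a b = a ⬝ᵥ (σ ∘ b) := by
    intro a b
    simp [Cfsg.hermForm, dotProduct, hσ]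
  rw [e, e]
  have e2 : σ ∘ ((X : Matrix (Fin n) (Fin n) F) *ᵥ v) =
      (X : Matrix (Fin n) (Fin n) F).map σ *ᵥ (σ ∘ v) := by
    funext i
    exact RingHom.map_mulVec σ _ v i
  rw [e2, dotProduct_mulVec, ← mulVec_transpose, mulVec_mulVec]
  have h2 : ((X : Matrix (Fin n) (Fin n) F).map σ)ᵀ * (X : Matrix (Fin n) (Fin n) F) = 1 := by
    rw [← transpose_inj, transpose_mul, transpose_transpose, h, transpose_one]
  rw [h2, one_mulVec]

/-- `SU` contains the even permutation matrices. -/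
lemma altSL_mem_SU {n q : ℕ} (σ : F →+* F) (hσ : ∀ x, σ x = x ^ q) (s : alternatingGroup (Fin n)) :
    altSL n s ∈ Cfsg.SU n F q := by
  refine mem_SU σ hσ _ ?_
  have hs : ((altSL (F := F) n s : Matrix.SpecialLinearGroup (Fin n) F) : Matrix (Fin n) (Fin n) F) =
      (s : Equiv.Perm (Fin n))⁻¹.permMatrix F := rfl
  have hmap : ((s : Equiv.Perm (Fin n))⁻¹.permMatrix F).map σ =
      (s : Equiv.Perm (Fin n))⁻¹.permMatrix F := by
    ext i j
    simp only [map_apply, Equiv.Perm.permMatrix, PEquiv.toMatrix_apply]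
    split <;> simp
  rw [hs, hmap, transpose_permMatrix, inv_inv, ← permMatrix_mul, inv_mul_cancel, permMatrix_one]

variable [Fintype F]

/-- Field-theoretic data for the subfield of index two. -/
lemma exists_subfield {q : ℕ} (hF : Fintype.card F = q ^ 2) :
    ∃ (σ : F →+* F) (K₀ : Type) (_ : Field K₀) (_ : Fintype K₀) (ι : K₀ →+* F),
      (∀ x, σ x = x ^ q) ∧ Fintype.card K₀ = q ∧ 1 < q ∧ ∀ x, σ (ι x) = ι x := by
  obtain ⟨p, hpc⟩ := CharP.exists F
  obtain ⟨n, hp, hn⟩ := FiniteField.card F p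
  haveI : Fact p.Prime := ⟨hp⟩
  obtain ⟨k, -, hk⟩ := (Nat.dvd_prime_pow hp).1
    (show q ∣ p ^ (n : ℕ) by rw [← hn, hF]; exact dvd_pow_self _ two_ne_zero)
  have hnk : (n : ℕ) = k * 2 := by
    apply Nat.pow_right_injective hp.two_le
    show p ^ (n : ℕ) = p ^ (k * 2)
    rw [← hn, hF, hk, ← pow_mul]
  have hk0 : k ≠ 0 := fun h => n.pos.ne' (by rw [hnk, h, zero_mul])
  letI : Algebra (ZMod p) F := ZMod.algebra F p
  have hfr : Module.finrank (ZMod p) F = k * 2 := by
    apply Nat.pow_right_injective hp.two_le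
    show p ^ Module.finrank (ZMod p) F = p ^ (k * 2)
    have h := Module.card_eq_pow_finrank (K := ZMod p) (V := F)
    rw [ZMod.card, hn, hnk] at h
    exact h.symm
  obtain ⟨ι⟩ : Nonempty (GaloisField p k →ₐ[ZMod p] F) :=
    FiniteField.nonempty_algHom_of_finrank_dvd
      (by rw [GaloisField.finrank p hk0, hfr]; exact dvd_mul_right k 2)
  haveI : Fintype (GaloisField p k) := Fintype.ofFinite _
  have hcard : Fintype.card (GaloisField p k) = q := by
    rw [← Nat.card_eq_fintype_card, GaloisField.card p k hk0, hk]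
  refine ⟨iterateFrobenius F p k, GaloisField p k, inferInstance, inferInstance, ι.toRingHom,
    fun x => by rw [iterateFrobenius_def, hk], hcard, by rw [hk]; exact Nat.one_lt_pow hk0 hp.one_lt,
    fun x => ?_⟩
  rw [iterateFrobenius_def, ← map_pow, ← hk, ← hcard, FiniteField.pow_card]

/-- `SL₂(q)` embeds into `SU_n(q)`. -/
lemma exists_hom_SU {n q : ℕ} (hn : 2 ≤ n) (σ : F →+* F) (hσ : ∀ x, σ x = x ^ q) (hq : 1 < q)
    (hF : Fintype.card F = q ^ 2) {K₀ : Type*} [Field K₀] (ι : K₀ →+* F)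
    (hι : ∀ x, σ (ι x) = ι x) :
    ∃ ψ : Matrix.SpecialLinearGroup (Fin 2) K₀ →* Cfsg.SU n F q, Function.Injective ψ := by
  classical
  obtain ⟨g, hg⟩ := IsCyclic.exists_generator (α := Fˣ)
  have hord : orderOf g = q ^ 2 - 1 := by
    rw [orderOf_eq_card_of_forall_mem_zpowers hg, Nat.card_units, Nat.card_eq_fintype_card, hF]
  have hfac : (q - 1) * (q + 1) = q ^ 2 - 1 := by
    rw [mul_comm, ← Nat.sq_sub_sq, one_pow]
  obtain ⟨a, ha⟩ : ∃ a : Fˣ, (a : F) ^ (q + 1) = -1 := by
    by_cases h2 : (2 : F) = 0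
    · exact ⟨1, by rw [Units.val_one, one_pow]; linear_combination h2⟩
    · have hodd : Odd q := by
        rw [← Nat.not_even_iff_odd]
        intro he
        apply h2
        have h0 : (Fintype.card F : F) = 0 := FiniteField.cast_card_eq_zero F
        obtain ⟨r, hr⟩ := he
        rw [hF, hr] at h0
        have hr0 : ((r + r : ℕ) : F) = 0 := by simpa using h0
        by_contra h
        push_cast at hr0
        have hr1 : (r : F) = 0 := by
          rw [← two_mul] at hr0
          exact (mul_eq_zero.1 hr0).resolve_left h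
        obtain ⟨p, hpc⟩ := CharP.exists F
        obtain ⟨m, hp, hm⟩ := FiniteField.card F p
        have hdvd : 2 ∣ p ^ (m : ℕ) := by
          rw [← hm, hF, hr]; exact dvd_pow (by omega) two_ne_zero
        have hp2 : p = 2 :=
          ((Nat.prime_dvd_prime_iff_eq Nat.prime_two hp).1 (Nat.prime_two.dvd_of_dvd_pow hdvd)).symm
        subst hp2
        exact h (CharP.cast_eq_zero F 2)
      refine ⟨g ^ ((q - 1) / 2), ?_⟩
      have h1 : ((g ^ ((q - 1) / 2)) ^ (q + 1)) ^ 2 = 1 := by
        rw [← pow_mul, ← pow_mul]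
        have : (q - 1) / 2 * (q + 1) * 2 = orderOf g := by
          rw [hord, ← hfac]
          obtain ⟨r, rfl⟩ := hodd
          simp only [add_tsub_cancel_right]
          rw [Nat.mul_div_cancel_left r two_pos]; ring
        rw [show (q - 1) / 2 * ((q + 1) * 2) = orderOf g by rw [← this, mul_assoc],
          pow_orderOf_eq_one]
      have h3 : (g ^ ((q - 1) / 2)) ^ (q + 1) ≠ 1 := by
        rw [← pow_mul]
        apply pow_ne_one_of_lt_orderOf
        · obtain ⟨r, rfl⟩ := hodd
          simp only [add_tsub_cancel_right, Nat.mul_div_cancel_left r two_pos]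
          have : 0 < r := by omega
          positivity
        · rw [hord, ← hfac]
          have : (q - 1) / 2 < q - 1 := Nat.div_lt_self (by omega) one_lt_two
          exact Nat.mul_lt_mul_of_pos_right this (by omega)
      rcases mul_self_eq_one_iff.1 (show ((((g ^ ((q - 1) / 2)) ^ (q + 1) : Fˣ)) : F) *
          (((g ^ ((q - 1) / 2)) ^ (q + 1) : Fˣ) : F) = 1 by
        rw [← Units.val_mul, ← pow_two, h1, Units.val_one]) with h | h
      · exact absurd (Units.val_eq_one.1 h) h3
      · simpa using h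
  let z : Fˣ := g ^ (q - 1)
  have hz1 : z ≠ 1 := pow_ne_one_of_lt_orderOf (by omega) (by
    rw [hord, ← hfac]; exact lt_mul_of_one_lt_right (by omega) (by omega))
  have hzq : z ^ (q + 1) = 1 := by
    rw [← pow_mul, hfac, ← hord, pow_orderOf_eq_one]
  let b : F := (a : F) * (z : F)
  have hab : b ≠ (a : F) := fun h => hz1 (Units.ext (by
    simpa [b, a.ne_zero] using h))
  have hbq : b ^ (q + 1) = -1 := by
    rw [mul_pow, ha, ← Units.val_pow_eq_pow_val, hzq, Units.val_one, mul_one]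
  let c : F := 1 + (a : F) * σ b
  have hc : c ≠ 0 := by
    intro h
    apply hab
    have hb0 : σ b ≠ 0 := by simp [b]
    have h2 : b * σ b = -1 := by rw [hσ, ← pow_succ', hbq]
    exact mul_right_cancel₀ hb0 (by linear_combination h2 - h)
  obtain ⟨x, hx⟩ : ∃ x : F, σ x ≠ x := by
    refine ⟨g, fun h => ?_⟩
    rw [hσ] at h
    have : g ^ (q - 1) = 1 := by
      apply Units.ext
      apply mul_right_cancel₀ (Units.ne_zero g)
      rw [Units.val_pow_eq_pow_val, Units.val_one, one_mul, ← pow_succ,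
        Nat.sub_add_cancel hq.le]
      exact h
    exact hz1 this
  have hσσ : ∀ y, σ (σ y) = y := fun y => by
    rw [hσ, hσ, ← pow_mul, ← pow_two, ← hF, FiniteField.pow_card]
  let δ : F := x - σ x
  have hδ : σ δ = -δ := by simp [δ, hσσ]
  have hδ0 : δ ≠ 0 := sub_ne_zero.2 (Ne.symm hx)
  let μ : F := σ (δ / c)
  have hμ : μ ≠ 0 := by simp [μ, hδ0, hc]
  let B : Matrix (Fin 2) (Fin 2) F := !![1, μ; (a : F), μ * b]
  have hBdet : IsUnit B.det := by
    refine isUnit_iff_ne_zero.2 ?_
    simp only [B, det_fin_two_of]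
    intro h
    exact hab (mul_left_cancel₀ hμ (by linear_combination h))
  have haa : (a : F) * σ a = -1 := by rw [hσ, ← pow_succ', ha]
  have hbb : b * σ b = -1 := by rw [hσ, ← pow_succ', hbq]
  let J : Matrix (Fin 2) (Fin 2) F := !![0, δ; -δ, 0]
  have hG : Bᵀ * B.map σ = J := by
    have hμc : σ μ * c = δ := by
      simp only [μ, hσσ]; field_simp
    ext i j
    fin_cases i <;> fin_cases j <;> simp [B, J, Matrix.mul_apply]
    · linear_combination haa
    · simp only [c] at hμc; linear_combination hμc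
    · simp only [c] at hμc
      have := congrArg σ hμc
      simp only [map_mul, map_add, map_one, hσσ, hδ] at this
      linear_combination this
    · linear_combination μ * σ μ * hbb
  have hJ : ∀ M : Matrix (Fin 2) (Fin 2) F, M.det = 1 → M.map σ = M → Mᵀ * J * M.map σ = J := by
    intro M hM hMσ
    rw [hMσ]
    rw [det_fin_two] at hM
    ext i j
    fin_cases i <;> fin_cases j <;> simp [J, Matrix.mul_apply] <;> grind
  let φ : Matrix.SpecialLinearGroup (Fin 2) K₀ →* Matrix (Fin n) (Fin n) F :=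
    { toFun := fun M => padMat hn (B * M.1.map ι * B⁻¹)
      map_one' := by
        show padMat hn (B * (1 : Matrix (Fin 2) (Fin 2) K₀).map ι * B⁻¹) = 1
        rw [Matrix.map_one _ (map_zero ι) (map_one ι), Matrix.mul_one, mul_nonsing_inv _ hBdet,
          map_one]
      map_mul' := fun M N => by
        show padMat hn (B * (M.1 * N.1).map ι * B⁻¹) = _
        rw [← map_mul]
        congr 1
        rw [Matrix.map_mul]
        simp [Matrix.mul_assoc, nonsing_inv_mul_cancel_left B _ hBdet] }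
  have hdet : ∀ M, (φ M).det = 1 := by
    intro M
    show (padMat hn (B * M.1.map ι * B⁻¹)).det = 1
    rw [det_padMat, det_mul, det_mul, mul_right_comm, ← det_mul,
      mul_nonsing_inv _ hBdet, det_one, one_mul, ← RingHom.mapMatrix_apply, ← RingHom.map_det, M.2,
      map_one]
  have hmem : ∀ M, (⟨φ M, hdet M⟩ : Matrix.SpecialLinearGroup (Fin n) F) ∈ Cfsg.SU n F q := by
    intro M
    refine mem_SU σ hσ _ ?_
    show (padMat hn (B * M.1.map ι * B⁻¹))ᵀ * (padMat hn (B * M.1.map ι * B⁻¹)).map σ = 1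
    rw [padMat_transpose, padMat_map, ← map_mul, ← map_one (padMat (F := F) hn)]
    congr 1
    have hMd : (M.1.map ι).det = 1 := by
      rw [← RingHom.mapMatrix_apply, ← RingHom.map_det, M.2, map_one]
    have hMσ : (M.1.map ι).map σ = M.1.map ι := by ext i j; simp [hι]
    have hBi : B.map σ * B⁻¹.map σ = 1 := by
      rw [← Matrix.map_mul, mul_nonsing_inv _ hBdet, Matrix.map_one _ (map_zero σ) (map_one σ)]
    calc (B * M.1.map ι * B⁻¹)ᵀ * (B * M.1.map ι * B⁻¹).map σ
        = (B⁻¹)ᵀ * ((M.1.map ι)ᵀ * (Bᵀ * B.map σ) * (M.1.map ι).map σ) * B⁻¹.map σ := by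
          simp [Matrix.map_mul, Matrix.mul_assoc]
      _ = (B⁻¹)ᵀ * (Bᵀ * B.map σ) * B⁻¹.map σ := by rw [hG, hJ _ hMd hMσ]
      _ = ((B⁻¹)ᵀ * Bᵀ) * (B.map σ * B⁻¹.map σ) := by simp [Matrix.mul_assoc]
      _ = 1 := by
        rw [hBi, ← transpose_mul, mul_nonsing_inv _ hBdet, transpose_one, Matrix.mul_one]
  refine ⟨{ toFun := fun M => ⟨⟨φ M, hdet M⟩, hmem M⟩,
            map_one' := Subtype.ext (Subtype.ext (map_one φ)),
            map_mul' := fun M N => Subtype.ext (Subtype.ext (map_mul φ M N)) }, fun M N h => ?_⟩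
  have h2 : padMat hn (B * M.1.map ι * B⁻¹) = padMat hn (B * N.1.map ι * B⁻¹) :=
    congrArg (fun x => x.1.1) h
  have h3 := congrArg (fun X => B⁻¹ * X * B) (padMat_injective hn h2)
  simp [Matrix.mul_assoc, nonsing_inv_mul _ hBdet, nonsing_inv_mul_cancel_left B _ hBdet] at h3
  exact Subtype.ext (Matrix.map_injective ι.injective h3)

omit [Fintype F]

/-- `A ↦ A ⊕ A⁻ᵀ`. -/
def doubleHom (m : ℕ) :
    Matrix.SpecialLinearGroup (Fin m) F →* Matrix (Fin m ⊕ Fin m) (Fin m ⊕ Fin m) F where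
  toFun A := fromBlocks A.1 0 0 A.1.adjugateᵀ
  map_one' := by
    show fromBlocks (1 : Matrix (Fin m) (Fin m) F) 0 0 ((1 : Matrix (Fin m) (Fin m) F).adjugate)ᵀ = 1
    simp
  map_mul' A B := by
    show fromBlocks (A.1 * B.1) 0 0 (A.1 * B.1).adjugateᵀ = _
    simp [fromBlocks_multiply, adjugate_mul_distrib]

lemma doubleHom_injective (m : ℕ) : Function.Injective (doubleHom (F := F) m) := fun A B h =>
  Subtype.ext (fromBlocks_inj.1 h).1

/-- `SL_m` inside `Sp_{2m}`. -/
def slToSp (m : ℕ) : Matrix.SpecialLinearGroup (Fin m) F →* Matrix.symplecticGroup (Fin m) F where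
  toFun A := ⟨doubleHom m A, by
    rw [SymplecticGroup.mem_iff]
    show fromBlocks A.1 0 0 A.1.adjugateᵀ * _ * (fromBlocks A.1 0 0 A.1.adjugateᵀ)ᵀ = _
    have h1 : A.1 * A.1.adjugate = 1 := by rw [mul_adjugate, A.2, one_smul]
    have h2 : A.1.adjugateᵀ * A.1ᵀ = 1 := by rw [← transpose_mul, h1, transpose_one]
    simp [Matrix.J, fromBlocks_transpose, fromBlocks_multiply, h1, h2]⟩
  map_one' := Subtype.ext (map_one (doubleHom m))
  map_mul' A B := Subtype.ext (map_mul (doubleHom m) A B)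

lemma doubleHom_preserves (m : ℕ) (A : Matrix.SpecialLinearGroup (Fin m) F)
    (v : Fin m ⊕ Fin m → F) :
    Cfsg.quadFormPlus m F (doubleHom m A *ᵥ v) = Cfsg.quadFormPlus m F v := by
  have e : ∀ u : Fin m ⊕ Fin m → F,
      Cfsg.quadFormPlus m F u = (u ∘ Sum.inl) ⬝ᵥ (u ∘ Sum.inr) := fun u => rfl
  rw [e, e]
  show ((fromBlocks A.1 0 0 A.1.adjugateᵀ *ᵥ v) ∘ Sum.inl) ⬝ᵥ
      ((fromBlocks A.1 0 0 A.1.adjugateᵀ *ᵥ v) ∘ Sum.inr) = _
  simp only [fromBlocks_mulVec, zero_mulVec, add_zero, zero_add, Sum.elim_comp_inl,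
    Sum.elim_comp_inr]
  rw [dotProduct_mulVec, vecMul_transpose, mulVec_mulVec, adjugate_mul, A.2, one_smul, one_mulVec]

/-- `SL_m` inside `O⁺_{2m}`. -/
def slToPlus (m : ℕ) : Matrix.SpecialLinearGroup (Fin m) F →*
    Cfsg.isometryGroup F (Cfsg.quadFormPlus m F) :=
  ((doubleHom m).toHomUnits).codRestrict _ fun A u _ => by
    show Cfsg.quadFormPlus m F (doubleHom m A *ᵥ u) = Cfsg.quadFormPlus m F u
    exact doubleHom_preserves m A u

/-- `SL_m` inside `O_{2m+1}`. -/
def slToOdd (m : ℕ) : Matrix.SpecialLinearGroup (Fin m) F →*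
    Cfsg.isometryGroup F (Cfsg.quadFormOdd m F) :=
  ((({ toFun := fun X => fromBlocks (1 : Matrix Unit Unit F) 0 0 X
       map_one' := fromBlocks_one
       map_mul' := fun X Y => by simp [fromBlocks_multiply] } :
      Matrix (Fin m ⊕ Fin m) (Fin m ⊕ Fin m) F →*
        Matrix (Unit ⊕ (Fin m ⊕ Fin m)) (Unit ⊕ (Fin m ⊕ Fin m)) F).comp
    (doubleHom m)).toHomUnits).codRestrict _ fun A u _ => by
      have h := doubleHom_preserves m A (u ∘ Sum.inr)
      simp only [Cfsg.quadFormPlus, Function.comp_apply] at h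
      show Cfsg.quadFormOdd m F (fromBlocks (1 : Matrix Unit Unit F) 0 0 (doubleHom m A) *ᵥ u) = _
      simp only [Cfsg.quadFormOdd, fromBlocks_mulVec, zero_mulVec, add_zero, zero_add, one_mulVec,
        Sum.elim_inl, Sum.elim_inr, Function.comp_apply]
      rw [h]

/-- `SL_m` inside `O⁻_{2m+2}`. -/
def slToMinus (m : ℕ) (a b : F) : Matrix.SpecialLinearGroup (Fin m) F →*
    Cfsg.isometryGroup F (Cfsg.quadFormMinus m F a b) :=
  ((({ toFun := fun X => fromBlocks X 0 0 (1 : Matrix (Fin 2) (Fin 2) F)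
       map_one' := fromBlocks_one
       map_mul' := fun X Y => by simp [fromBlocks_multiply] } :
      Matrix (Fin m ⊕ Fin m) (Fin m ⊕ Fin m) F →*
        Matrix ((Fin m ⊕ Fin m) ⊕ Fin 2) ((Fin m ⊕ Fin m) ⊕ Fin 2) F).comp
    (doubleHom m)).toHomUnits).codRestrict _ fun A u _ => by
      have h := doubleHom_preserves m A (u ∘ Sum.inl)
      simp only [Cfsg.quadFormPlus, Function.comp_apply] at h
      show Cfsg.quadFormMinus m F a b
        (fromBlocks (doubleHom m A) 0 0 (1 : Matrix (Fin 2) (Fin 2) F) *ᵥ u) = _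
      simp only [Cfsg.quadFormMinus, fromBlocks_mulVec, zero_mulVec, add_zero, zero_add, one_mulVec,
        Sum.elim_inl, Sum.elim_inr, Function.comp_apply]
      rw [h]

lemma slTo_injective (m : ℕ) (a b : F) :
    Function.Injective (slToSp (F := F) m) ∧ Function.Injective (slToPlus (F := F) m) ∧
      Function.Injective (slToOdd (F := F) m) ∧ Function.Injective (slToMinus m a b) := by
  refine ⟨fun A B h => ?_, fun A B h => ?_, fun A B h => ?_, fun A B h => ?_⟩
  · exact doubleHom_injective m (congrArg Subtype.val h)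
  · exact doubleHom_injective m (congrArg (fun x => x.1.1) h)
  · exact doubleHom_injective m (fromBlocks_inj.1 (congrArg (fun x => x.1.1) h)).2.2.2
  · exact doubleHom_injective m (fromBlocks_inj.1 (congrArg (fun x => x.1.1) h)).1

end CfsgLib.KnownB.WordClassical
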