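import Cfsg.Agent.Lib.Chevalley.Twist.G2Points
import Cfsg.Agent.Lib.KnownB.ChevGen.Main

/-!
Two generators of the small Ree groups.
-/

set_option autoImplicit false
set_option maxRecDepth 20000
set_option Elab.async false

namespace CfsgLib.Chevalley.Twist.G2

open Tbl

local notation "T2" => Data.G2.tbl

variable {K : Type*} [Field K] [Finite K] {m : ℕ} (hK : Nat.card K = 3 ^ (2 * m + 1))
include hK

theorem gen_ree_mul (t u v t' u' v' : K) : ∃ w, ree m t u v * ree m t' u' v' =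
    ree m (t + t') (u + u' - t * t' ^ (3 * 3 ^ m)) w := by
  obtain ⟨t'', u'', v'', e⟩ := exists_pos hK (mul_mem (ree_mem_pos hK t u v) (ree_mem_pos hK t' u' v'))
  have e' := e
  rw [ree_eq_quad, ree_eq_quad, ree_eq_quad, quad_mul hK] at e'
  obtain ⟨ht, -, -, -, hC, -⟩ := quad_inj e'
  refine ⟨v'', e.trans ?_⟩
  rw [← ht] at hC ⊢
  congr 1
  have h3 : (t ^ 3 ^ m) ^ 3 = t ^ (3 * 3 ^ m) := by rw [← pow_mul, mul_comm]
  rw [h3, pow_succ t (3 * 3 ^ m), pow_succ t' (3 * 3 ^ m), pow_succ (t + t'), add_pow3' hK] at hC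
  linear_combination -hC

theorem gen_mul_ree0 (t u v u' v' : K) :
    ree m t u v * ree m 0 u' v' = ree m t (u + u') (v + v') := by
  have h1 : 3 * 3 ^ m + 1 ≠ 0 := by positivity
  have h2 : 3 * 3 ^ m + 2 ≠ 0 := by positivity
  have h0 : (3 : ℕ) ^ m ≠ 0 := by positivity
  simp only [ree_eq_quad, quad_mul hK, zero_pow h0, zero_pow h1, zero_pow h2, add_pow3 hK]
  congr 1 <;> ring

theorem gen_ree0_mul (t u v u' v' : K) :
    ree m 0 u' v' * ree m t u v = ree m t (u + u') (v + v' - t * u') := by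
  have h1 : 3 * 3 ^ m + 1 ≠ 0 := by positivity
  have h2 : 3 * 3 ^ m + 2 ≠ 0 := by positivity
  have h0 : (3 : ℕ) ^ m ≠ 0 := by positivity
  have h3 := three_eq_zero hK
  have hB : (v + v' - t * u') ^ 3 ^ m = v ^ 3 ^ m + v' ^ 3 ^ m + 2 * (t ^ 3 ^ m * u' ^ 3 ^ m) := by
    rw [show v + v' - t * u' = v + v' + 2 * (t * u') by linear_combination -(t * u') * h3, add_pow3 hK,
      add_pow3 hK, mul_pow, mul_pow]
    have h22 : (2 : K) ^ 3 ^ m = 2 := by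
      rw [← one_add_one_eq_two, add_pow3 hK, one_pow]
    rw [h22]
  simp only [ree_eq_quad, quad_mul hK, zero_pow h0, zero_pow h1, zero_pow h2, hB, add_pow3 hK]
  congr 1 <;> ring

/-- The multiplier of the first coordinate. -/
theorem fst_mult_eq_one {c : Kˣ} (h : (c : K) ^ 2 * ((c : K) ^ (3 * 3 ^ m))⁻¹ = 1) : c = 1 := by
  have hc0 : (c : K) ≠ 0 := c.ne_zero
  rw [mul_inv_eq_one₀ (pow_ne_zero _ hc0)] at h
  have e1 := congrArg (· ^ 3 ^ m) h
  simp only [pow_theta' hK, ← pow_mul] at e1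
  have h3e : (c : K) ^ (3 * 3 ^ m) = ((c : K) ^ 3 ^ m) ^ 3 := by rw [← pow_mul, mul_comm]
  rw [mul_comm, pow_mul] at e1
  set C := (c : K) ^ 3 ^ m
  have hC : C ^ 3 ≠ 0 := pow_ne_zero _ (pow_ne_zero _ hc0)
  have hC1 : C = 1 := by
    refine mul_left_cancel₀ hC ?_
    linear_combination (C ^ 2 + (c : K)) * e1 + h + h3e
  exact Units.ext (by rw [← e1, hC1, one_pow, Units.val_one])

theorem fst_mult_surj (a : K) (ha : a ≠ 0) :
    ∃ c : Kˣ, (c : K) ^ 2 * ((c : K) ^ (3 * 3 ^ m))⁻¹ = a := by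
  let f : Kˣ →* Kˣ :=
    { toFun := fun c => c ^ 2 * (c ^ (3 * 3 ^ m))⁻¹
      map_one' := by simp
      map_mul' := fun a b => by rw [mul_pow, mul_pow, mul_inv]; exact mul_mul_mul_comm _ _ _ _ }
  have hinj : Function.Injective f := (injective_iff_map_eq_one f).mpr fun c hc => by
    refine fst_mult_eq_one hK ?_
    have := congrArg (fun x : Kˣ => (x : K)) hc
    simpa [f, Units.val_inv_eq_inv_val] using this
  obtain ⟨c, hc⟩ := Finite.surjective_of_injective hinj (Units.mk0 a ha)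
  refine ⟨c, ?_⟩
  have := congrArg (fun x : Kˣ => (x : K)) hc
  simpa [f, Units.val_inv_eq_inv_val] using this

theorem snd_mult_sq (x : Kˣ) :
    ∃ c : Kˣ, (c : K) ^ (3 * 3 ^ m) * (c : K)⁻¹ = (x : K) ^ 2 := by
  refine ⟨x ^ (3 * 3 ^ m) * x, ?_⟩
  have h : ((x : K) ^ (3 * 3 ^ m)) ^ (3 * 3 ^ m) = (x : K) ^ 3 := by
    conv_rhs => rw [← pow_theta hK (x : K)]
    rw [← pow_mul, ← pow_mul, ← pow_mul]
    congr 1
    ring
  have hx := x.ne_zero
  rw [Units.val_mul, Units.val_pow_eq_pow_val, mul_pow, h]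
  field_simp

section
variable {H : Subgroup (GL (T2).I K)}

theorem all_fst (hd' : ∀ c, hd hK c ∈ H) {t0 u0 v0 : K} (ht0 : t0 ≠ 0) (h0 : ree m t0 u0 v0 ∈ H)
    (t : K) : ∃ u v, ree m t u v ∈ H := by
  rcases eq_or_ne t 0 with rfl | ht
  · exact ⟨0, 0, by rw [ree0_one hK]; exact one_mem H⟩
  obtain ⟨c, hc⟩ := fst_mult_surj hK (t / t0) (div_ne_zero ht ht0)
  have := mul_mem (mul_mem (hd' c) h0) (inv_mem (hd' c))
  rw [conj_hd hK, hc, div_mul_cancel₀ t ht0] at this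
  exact ⟨_, _, this⟩

theorem all_snd (hm : 1 ≤ m) (hd' : ∀ c, hd hK c ∈ H) (hall : ∀ t : K, ∃ u v, ree m t u v ∈ H) (u : K) :
    ∃ v, ree m 0 u v ∈ H := by
  obtain ⟨c, -, hcu, -⟩ := exists_gen_unit hK hm
  obtain ⟨u1, v1, h1⟩ := hall 1
  obtain ⟨u2, v2, h2⟩ := hall (c : K)
  obtain ⟨w, hw⟩ := gen_ree_mul hK (1 : K) u1 v1 (c : K) u2 v2
  obtain ⟨w', hw'⟩ := gen_ree_mul hK (c : K) u2 v2 1 u1 v1
  set δ := (c : K) - (c : K) ^ (3 * 3 ^ m) with hδ
  have hδ0 : δ ≠ 0 := sub_ne_zero.mpr hcu.symm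
  have hg : ree m 0 δ (w - w') ∈ H := by
    have := mul_mem (inv_mem (mul_mem h2 h1)) (mul_mem h1 h2)
    rw [hw, hw', show ree m (1 + (c : K)) (u1 + u2 - 1 * (c : K) ^ (3 * 3 ^ m)) w =
      ree m ((c : K) + 1) (u2 + u1 - (c : K) * 1 ^ (3 * 3 ^ m)) w' * ree m 0 δ (w - w') by
        rw [gen_mul_ree0 hK]; congr 1 <;> (try simp only [δ, one_pow]) <;> ring, inv_mul_cancel_left] at this
    exact this
  let S : AddSubgroup K :=
    { carrier := {u | ∃ v, ree m 0 (δ * u) v ∈ H}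
      zero_mem' := ⟨0, by rw [mul_zero, ree0_one hK]; exact one_mem H⟩
      add_mem' := by
        rintro a b ⟨va, ha⟩ ⟨vb, hb⟩
        exact ⟨va + vb, by rw [mul_add, ← ree0_mul hK]; exact mul_mem ha hb⟩
      neg_mem' := by
        rintro a ⟨va, ha⟩
        refine ⟨va + va, ?_⟩
        rw [show δ * -a = δ * a + δ * a by linear_combination -(δ * a) * three_eq_zero hK,
          ← ree0_mul hK]
        exact mul_mem ha ha }
  have hS : ∀ x : K, x ^ 2 ∈ S := by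
    intro x
    rcases eq_or_ne x 0 with rfl | hx
    · rw [zero_pow two_ne_zero]; exact S.zero_mem
    obtain ⟨d, hd2⟩ := snd_mult_sq hK (Units.mk0 x hx)
    have := mul_mem (mul_mem (hd' d) hg) (inv_mem (hd' d))
    rw [conj_hd hK, hd2, mul_zero, Units.val_mk0, mul_comm (x ^ 2)] at this
    exact ⟨_, this⟩
  obtain ⟨v, hv⟩ := CfsgLib.ChevGen.addSubgroup_of_squares S hS (δ⁻¹ * u)
  exact ⟨v, by rwa [mul_inv_cancel_left₀ hδ0] at hv⟩

theorem all_ree (hm : 1 ≤ m) (hd' : ∀ c, hd hK c ∈ H) {t0 u0 v0 : K} (ht0 : t0 ≠ 0)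
    (h0 : ree m t0 u0 v0 ∈ H) (t u v : K) : ree m t u v ∈ H := by
  have hall := all_fst hK hd' ht0 h0
  have hsnd := all_snd hK hm hd' hall
  obtain ⟨u1, v1, h1⟩ := hall 1
  have hthd : ∀ v : K, ree m 0 0 v ∈ H := by
    intro v
    obtain ⟨w, hw⟩ := hsnd (-v)
    have h := mul_mem (inv_mem (mul_mem h1 hw)) (mul_mem hw h1)
    rw [gen_mul_ree0 hK, gen_ree0_mul hK,
      show ree m 1 (u1 + -v) (v1 + w - 1 * -v) = ree m 1 (u1 + -v) (v1 + w) * ree m 0 0 v by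
        rw [gen_mul_ree0 hK]; congr 1 <;> ring, inv_mul_cancel_left] at h
    exact h
  obtain ⟨u2, v2, h2⟩ := hall t
  obtain ⟨w, hw⟩ := hsnd (u - u2)
  have h := mul_mem (mul_mem h2 hw) (hthd (v - (v2 + w)))
  rwa [gen_mul_ree0 hK, gen_mul_ree0 hK, add_zero, add_sub_cancel, add_sub_cancel] at h

end

theorem two_generated (hm : 1 ≤ m) : ∃ a ∈ (S hK).fix, ∃ b ∈ (S hK).fix,
    Subgroup.closure ({a, b} : Set (GL (T2).I K)) = (S hK).fix := by
  obtain ⟨n, hn, hnm⟩ := exists_n0 hK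
  obtain ⟨γ, hγ⟩ := IsCyclic.exists_monoid_generator (α := Kˣ)
  have hu : ree m (1 : K) 0 0 ∈ (S hK).fix := ree_fix hK 1 0 0
  refine ⟨hd hK γ, (hd_mem hK γ).2, ree m 1 0 0 * n, mul_mem hu hn.2, ?_⟩
  set H := Subgroup.closure ({hd hK γ, ree m (1 : K) 0 0 * n} : Set (GL (T2).I K)) with hH
  have haH : hd hK γ ∈ H := Subgroup.subset_closure (Set.mem_insert _ _)
  have hbH : ree m (1 : K) 0 0 * n ∈ H :=
    Subgroup.subset_closure (Set.mem_insert_of_mem _ rfl)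
  refine le_antisymm ((Subgroup.closure_le _).mpr (Set.insert_subset (hd_mem hK γ).2
    (Set.singleton_subset_iff.mpr (mul_mem hu hn.2)))) ?_
  have hd' : ∀ c, hd hK c ∈ H := fun c => by
    obtain ⟨k, hk⟩ := hγ c
    rw [← show γ ^ k = c from hk, map_pow]
    exact pow_mem haH k
  have hγ1 : γ ≠ 1 := by
    rintro rfl
    obtain ⟨c, hc, -⟩ := exists_gen_unit hK hm
    obtain ⟨k, hk⟩ := hγ c
    exact hc (by rw [← show (1 : Kˣ) ^ k = c from hk]; simp)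
  have hX : ree m (1 : K) 0 0 * (hd hK γ⁻¹ * (ree m 1 0 0)⁻¹ * (hd hK γ⁻¹)⁻¹) ∈ H := by
    have h := mul_mem (mul_mem (mul_mem hbH haH) (inv_mem hbH)) haH
    rw [show ree m (1 : K) 0 0 * n * hd hK γ * (ree m (1 : K) 0 0 * n)⁻¹ * hd hK γ =
      ree m (1 : K) 0 0 * (n * hd hK γ * n⁻¹) * (ree m (1 : K) 0 0)⁻¹ * hd hK γ by group,
      mono_inv hK hn.1 hnm] at h
    rwa [map_inv, inv_inv, ← mul_assoc, ← mul_assoc]
  obtain ⟨t1, u1, v1, e1⟩ := exists_pos hK (inv_mem (ree_mem_pos hK (1 : K) 0 0))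
  have ht1 : t1 = -1 := by
    have := ree_mul_fst hK (1 : K) 0 0 t1 u1 v1 0 0 0 (by rw [← e1, mul_inv_cancel, ree0_one hK])
    linear_combination -this
  rw [e1, conj_hd hK] at hX
  obtain ⟨w, hw⟩ := gen_ree_mul hK (1 : K) 0 0 _ _ _
  rw [hw] at hX
  have hne : (1 : K) + ((γ⁻¹ : Kˣ) : K) ^ 2 * (((γ⁻¹ : Kˣ) : K) ^ (3 * 3 ^ m))⁻¹ * t1 ≠ 0 := by
    rw [ht1]
    intro h
    exact hγ1 (inv_eq_one.mp (fst_mult_eq_one hK (by linear_combination -h)))
  have hall := all_ree hK hm hd' hne hX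
  have hnH : n ∈ H := by
    have := mul_mem (inv_mem (hall 1 0 0)) hbH
    rwa [inv_mul_cancel_left] at this
  rw [← grp_eq_fix hK, grp_eq hK, Subgroup.closure_le]
  rintro x (⟨t, u, v, rfl⟩ | ⟨t, u, v, rfl⟩)
  · exact hall t u v
  · have h1 : n * rev m t u v * n⁻¹ ∈ (S hK).Uw ((S hK).wJ (O hK) (0 : Fin 1)) := by
      refine Subgroup.mem_inf.mpr ⟨mul_mem (mul_mem hn.2
        (le_fix hK (gens_mem hK (Or.inr ⟨t, u, v, rfl⟩)))) (inv_mem hn.2), ?_⟩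
      refine conj_mem_rootGen Data.G2.valid hnm (fun r ⟨_, h1, h2⟩ => ?_) (rev_VJ hK t u v)
      refine ⟨Fin.isLt _, h2, ?_⟩
      simp only [Fin.eta]
      exact lt_of_eq_of_lt (congrArg Fin.val ((S hK).wJ_wJ (O hK) (0 : Fin 1) r)) h1
    obtain ⟨t', u', v', e⟩ := exists_ree hK h1
    have := mul_mem (mul_mem (inv_mem hnH) (hall t' u' v')) hnH
    rwa [← e, show n⁻¹ * (n * rev m t u v * n⁻¹) * n = rev m t u v by group] at this

end CfsgLib.Chevalley.Twist.G2
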