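import Mathlib

/-! Adjacency in the prime graph of the alternating groups. -/

namespace CfsgLib.KnownB.AltPrimeGraph

theorem exists_of_parts (n : ℕ) (m : List ℕ) (hm : m.sum ≤ n) (h2 : ∀ a ∈ m, 2 ≤ a)
    (hpar : Even (m.sum + m.length)) :
    ∃ g : alternatingGroup (Fin n), orderOf g = (m : Multiset ℕ).lcm := by
  obtain ⟨σ, hσ⟩ := (Equiv.Perm.exists_with_cycleType_iff (α := Fin n) (m := (m : Multiset ℕ))).mpr
    ⟨by simpa using hm, fun a ha => h2 a (Multiset.mem_coe.mp ha)⟩
  refine ⟨⟨σ, ?_⟩, ?_⟩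
  · rw [Equiv.Perm.mem_alternatingGroup, Equiv.Perm.sign_of_cycleType, hσ]
    exact Even.neg_one_pow (by simpa using hpar)
  · rw [Subgroup.orderOf_mk, ← Equiv.Perm.lcm_cycleType, hσ]

theorem exists_prime_dvd_mem {r : ℕ} (hr : r.Prime) (m : Multiset ℕ) (h : r ∣ m.lcm) :
    ∃ a ∈ m, r ∣ a := by
  induction m using Multiset.induction_on with
  | empty => exact absurd (Nat.dvd_one.1 h) hr.ne_one
  | cons a m ih =>
    rw [Multiset.lcm_cons] at h
    rcases (Nat.Prime.dvd_mul hr).1 (h.trans (Nat.lcm_dvd_mul a m.lcm)) with h1 | h1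
    · exact ⟨a, Multiset.mem_cons_self _ _, h1⟩
    · obtain ⟨b, hb, hrb⟩ := ih h1
      exact ⟨b, Multiset.mem_cons_of_mem hb, hrb⟩

theorem parts (n : ℕ) (g : alternatingGroup (Fin n)) :
    ∃ m : Multiset ℕ, m.lcm = orderOf g ∧ m.sum ≤ n ∧ (∀ a ∈ m, 2 ≤ a) ∧
      Even (m.sum + Multiset.card m) := by
  refine ⟨(g : Equiv.Perm (Fin n)).cycleType, ?_, ?_, fun a ha => Equiv.Perm.two_le_of_mem_cycleType ha, ?_⟩
  · rw [Equiv.Perm.lcm_cycleType, Subgroup.orderOf_coe]
  · rw [Equiv.Perm.sum_cycleType]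
    exact (Finset.card_le_univ _).trans (Fintype.card_fin n).le
  · have h := Equiv.Perm.mem_alternatingGroup.mp g.2
    rwa [Equiv.Perm.sign_of_cycleType, neg_one_pow_eq_one_iff_even (by decide)] at h

theorem two_odd_primes {n r s : ℕ} (hr : r.Prime) (hs : s.Prime) (hr2 : r ≠ 2) (hs2 : s ≠ 2)
    (hrs : r ≠ s) :
    (r * s ∈ Set.range (orderOf : alternatingGroup (Fin n) → ℕ)) ↔ r + s ≤ n := by
  constructor
  · rintro ⟨g, hg⟩
    obtain ⟨m, hl, hsum, h2, -⟩ := parts n g
    rw [hg] at hl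
    obtain ⟨a, ha, hra⟩ := exists_prime_dvd_mem hr m (hl ▸ Dvd.intro s rfl)
    obtain ⟨b, hb, hsb⟩ := exists_prime_dvd_mem hs m (hl ▸ Dvd.intro_left r rfl)
    obtain ⟨m', rfl⟩ := Multiset.exists_cons_of_mem ha
    rw [Multiset.sum_cons] at hsum
    have hapos : 0 < a := Nat.lt_of_lt_of_le two_pos (h2 a ha)
    rcases Multiset.mem_cons.1 hb with rfl | hb'
    · have h1 := Nat.le_of_dvd hapos (((Nat.coprime_primes hr hs).2 hrs).mul_dvd_of_dvd_of_dvd hra hsb)
      have := Nat.add_le_mul hr.two_le hs.two_le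
      omega
    · have h1 := Nat.le_of_dvd hapos hra
      have h3 := Nat.le_of_dvd (Nat.lt_of_lt_of_le two_pos (h2 b hb)) hsb
      have h4 := Multiset.le_sum_of_mem hb'
      omega
  · intro h
    obtain ⟨g, hg⟩ := exists_of_parts n [r, s] (by simpa using h)
      (by simp [hr.two_le, hs.two_le]) (by
        simp only [List.sum_cons, List.sum_nil, add_zero, List.length_cons, List.length_nil]
        exact (Odd.add_odd (hr.odd_of_ne_two hr2) (hs.odd_of_ne_two hs2)).add even_two)
    refine ⟨g, hg.trans ?_⟩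
    simp only [← Multiset.cons_coe, Multiset.coe_nil, Multiset.lcm_cons, Multiset.lcm_zero]
    show Nat.lcm r (Nat.lcm s 1) = r * s
    rw [Nat.lcm_one_right]
    exact ((Nat.coprime_primes hr hs).2 hrs).lcm_eq_mul

theorem two_and_odd_prime {n r : ℕ} (hr : r.Prime) (hr2 : r ≠ 2) :
    (2 * r ∈ Set.range (orderOf : alternatingGroup (Fin n) → ℕ)) ↔ r + 4 ≤ n := by
  constructor
  · rintro ⟨g, hg⟩
    obtain ⟨m, hl, hsum, h2, hpar⟩ := parts n g
    rw [hg] at hl
    obtain ⟨a, ha, hra⟩ := exists_prime_dvd_mem hr m (hl ▸ Dvd.intro_left 2 rfl)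
    obtain ⟨b, hb, h2b⟩ := exists_prime_dvd_mem Nat.prime_two m (hl ▸ Dvd.intro r rfl)
    have hdvd : ∀ c ∈ m, c ∣ 2 * r := fun c hc => hl ▸ Multiset.dvd_lcm hc
    have hcases : ∀ c ∈ m, c = 2 ∨ c = r ∨ c = 2 * r := by
      intro c hc
      obtain ⟨x, y, hx, hy, rfl⟩ := exists_dvd_and_dvd_of_dvd_mul (hdvd c hc)
      have := h2 _ hc
      rcases (Nat.dvd_prime Nat.prime_two).1 hx with rfl | rfl <;>
        rcases (Nat.dvd_prime hr).1 hy with rfl | rfl <;> omega
    obtain ⟨m', rfl⟩ := Multiset.exists_cons_of_mem hb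
    rw [Multiset.sum_cons] at hsum hpar
    rw [Multiset.card_cons] at hpar
    have hrodd := hr.odd_of_ne_two hr2
    have hbodd : ¬ Odd b := fun h => Nat.not_even_iff_odd.2 h (even_iff_two_dvd.2 h2b)
    have hone : ∃ c ∈ m', Even c := by
      by_contra hcon
      push Not at hcon
      have heven : ∀ m₀ : Multiset ℕ, (∀ c ∈ m₀, ¬ Even c) → Even (m₀.sum + Multiset.card m₀) := by
        intro m₀
        induction m₀ using Multiset.induction_on with
        | empty => simp
        | cons c m₀ ih =>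
          intro hall
          have h1 := ih fun d hd => hall d (Multiset.mem_cons_of_mem hd)
          have h3 := hall c (Multiset.mem_cons_self _ _)
          rw [Multiset.sum_cons, Multiset.card_cons]
          rw [Nat.even_iff] at *
          omega
      have h1 := heven m' hcon
      rw [Nat.even_iff] at h1 hpar
      omega
    obtain ⟨c, hc, hce⟩ := hone
    obtain ⟨m'', rfl⟩ := Multiset.exists_cons_of_mem hc
    rw [Multiset.sum_cons] at hsum
    have hbc := hcases b hb
    have hcc := hcases c (Multiset.mem_cons_of_mem hc)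
    have := hr.two_le
    rcases hbc with rfl | rfl | rfl
    · rcases hcc with rfl | rfl | rfl
      · rcases Multiset.mem_cons.1 ha with rfl | ha'
        · exact absurd ((Nat.prime_dvd_prime_iff_eq hr Nat.prime_two).1 hra) hr2
        rcases Multiset.mem_cons.1 ha' with rfl | ha''
        · exact absurd ((Nat.prime_dvd_prime_iff_eq hr Nat.prime_two).1 hra) hr2
        have h1 := Nat.le_of_dvd (Nat.lt_of_lt_of_le two_pos (h2 a ha)) hra
        have h4 := Multiset.le_sum_of_mem ha''
        omega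
      · exact absurd hrodd (Nat.not_odd_iff_even.2 hce)
      · omega
    · exact absurd hrodd hbodd
    · have := h2 c (Multiset.mem_cons_of_mem hc)
      omega
  · intro h
    obtain ⟨g, hg⟩ := exists_of_parts n [r, 2, 2] (by simp; omega)
      (by simp [hr.two_le]) (by
        simp only [List.sum_cons, List.sum_nil, add_zero, List.length_cons, List.length_nil]
        have := Nat.odd_iff.1 (hr.odd_of_ne_two hr2)
        rw [Nat.even_iff]
        omega)
    refine ⟨g, hg.trans ?_⟩
    simp only [← Multiset.cons_coe, Multiset.coe_nil, Multiset.lcm_cons, Multiset.lcm_zero]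
    show Nat.lcm r (Nat.lcm 2 (Nat.lcm 2 1)) = 2 * r
    rw [Nat.lcm_one_right, Nat.lcm_self, ((Nat.coprime_primes hr Nat.prime_two).2 hr2).lcm_eq_mul,
      mul_comm]

end CfsgLib.KnownB.AltPrimeGraph
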