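import Cfsg.Agent.Lib.KnownB.SuzukiCentralizer

set_option autoImplicit false

/-!
The automorphisms of the Suzuki group: inner automorphisms and field automorphisms.
-/

namespace CfsgLib.KnownB.Suzuki

open Cfsg.Lie CfsgLib.KnownB.SzElem
open scoped Pointwise

variable {F : Type*} [Field F] {e : ℕ}

lemma map_mem_Sz (he : Twist F e) (σ : F ≃+* F) {g : GL (Fin 4) F} (hg : g ∈ Sz F e) :
    Units.map (σ.toRingHom.mapMatrix (m := Fin 4)).toMonoidHom g ∈ Sz F e := by
  rw [mem_Sz_iff he] at hg ⊢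
  obtain ⟨h1, h2⟩ := hg
  constructor
  · intro u v
    have key : ∀ w : Fin 4 → F, (Units.coeHom (Matrix (Fin 4) (Fin 4) F)
        (Units.map (σ.toRingHom.mapMatrix (m := Fin 4)).toMonoidHom g)).mulVec w =
        σ ∘ ((g : Matrix (Fin 4) (Fin 4) F).mulVec (σ.symm ∘ w)) := by
      intro w
      ext i
      simp [Matrix.mulVec, dotProduct, map_sum]
    rw [key, key]
    have h3 := congrArg σ (h1 (σ.symm ∘ u) (σ.symm ∘ v))
    simp only [Units.coeHom_apply] at h3
    simpa [altForm4, map_add, map_mul] using h3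
  · have h4 : star4 ((g : Matrix (Fin 4) (Fin 4) F).map σ) =
        (star4 (g : Matrix (Fin 4) (Fin 4) F)).map σ := by
      ext p r
      simp [star4, map_sub, map_mul]
    show star4 ((g : Matrix (Fin 4) (Fin 4) F).map σ) =
      ((g : Matrix (Fin 4) (Fin 4) F).map σ).map _
    rw [h4, h2]
    ext i j
    simp

/-- The automorphism induced by a field automorphism. -/
def fieldHom (he : Twist F e) : (F ≃+* F) →* MulAut (Sz F e) where
  toFun σ :=
    { toFun := fun g => ⟨_, map_mem_Sz he σ g.2⟩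
      invFun := fun g => ⟨_, map_mem_Sz he σ.symm g.2⟩
      left_inv := fun g => by ext i j; simp
      right_inv := fun g => by ext i j; simp
      map_mul' := fun g h => Subtype.ext (map_mul _ _ _) }
  map_one' := by ext g i j; simp
  map_mul' σ τ := by ext g i j; rfl

lemma mat_fieldHom (he : Twist F e) (σ : F ≃+* F) (g : Sz F e) :
    mat (fieldHom he σ g) = (mat g).map σ := rfl

lemma fieldHom_P (he : Twist F e) (σ : F ≃+* F) (a b : F) :
    fieldHom he σ (P he a b) = P he (σ a) (σ b) := by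
  apply mat_injective
  rw [mat_fieldHom, mat_P, mat_P]
  ext i j
  fin_cases i <;> fin_cases j <;> simp [Pmat, nrm]

lemma fieldHom_H (he : Twist F e) (σ : F ≃+* F) (t : Fˣ) :
    fieldHom he σ (H e he t) = H e he (Units.map σ.toRingHom.toMonoidHom t) := by
  apply mat_injective
  rw [mat_fieldHom]
  ext i j
  fin_cases i <;> fin_cases j <;> simp [mat, coe_H, Hmat]

lemma eq_one_of_pow_e1 (he : Twist F e) {r : F} (h6 : r ^ (e + 1) = 1) : r = 1 := by
  refine eq_one_of_pow_e2 he ?_
  rw [pow_succ] at h6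
  have h8 := congrArg (fun x => x ^ e) h6
  simp only [one_pow, mul_pow, he.pow_pow] at h8
  rw [pow_add, mul_comm]
  exact h8

variable [Finite F]

lemma map_mem_uGroup_smul (he : Twist F e) (α : MulAut (Sz F e)) :
    ∃ x : Sz F e, ∀ g ∈ uGroup he, x * α g * x⁻¹ ∈ uGroup he := by
  have : Fact (Nat.Prime 2) := ⟨Nat.prime_two⟩
  have hpg : IsPGroup 2 ((uGroup he).map α.toMonoidHom) := (uGroup_isPGroup he).map _
  obtain ⟨S, hS⟩ := hpg.exists_le_sylow
  obtain ⟨x, hx⟩ := MulAction.exists_smul_eq (Sz F e) S (sylow2 he)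
  refine ⟨x, fun g hg => ?_⟩
  rw [← coe_sylow2 he, ← hx, Sylow.coe_subgroup_smul]
  exact Subgroup.smul_mem_pointwise_smul _ (MulAut.conj x) _ (hS ⟨g, hg, rfl⟩)

/-- An automorphism fixing `T` and `P (1, 0)` suitably is determined: normal form. -/
theorem eq_one_of_fix (he : Twist F e) (hc : ∃ c : F, c ^ e ≠ c) (α : MulAut (Sz F e))
    (hH : ∀ t, α (H e he t) = H e he t) (hZ : ∀ b, α (P he 0 b) = P he 0 b)
    (hU : ∀ a b, ∃ c d, α (P he a b) = P he c d) (hu : ∃ u : Fˣ, u ≠ 1) : α = 1 := by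
  classical
  have h0 : (0 : F) ^ e = 0 := zero_pow (Nat.ne_zero_of_lt he.one_lt)
  have h2 := he.two
  choose cc dd hcd using hU
  have ha : ∀ a, α (P he a 0) = P he a (dd a 0) := by
    intro a
    have h1 := congrArg α (pow_two (P he a 0))
    rw [map_pow, map_mul, hcd, pow_two, P_mul] at h1
    have h3 : P he a 0 * P he a 0 = P he 0 (a ^ e * a) := by
      rw [P_mul]; congr 1 <;> grind
    have h4 : α (P he a 0 * P he a 0) = P he 0 (a ^ e * a) := by rw [h3, hZ]
    rw [map_mul, hcd, P_mul] at h4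
    have h5 := (P_injective he h4).2
    have h6 : cc a 0 ^ (e + 1) = a ^ (e + 1) := by
      rw [pow_succ, pow_succ]; linear_combination h5 - h2 * dd a 0
    rw [hcd]
    congr 1
    rcases eq_or_ne a 0 with rfl | hne
    · simpa using h6
    · have h7 := eq_one_of_pow_e1 he (r := cc a 0 / a)
        (by rw [div_pow, h6, div_self (pow_ne_zero _ hne)])
      exact div_eq_one_iff_eq hne |>.1 h7
  set l : F → F := fun a => dd a 0 with hl
  have hadd : ∀ a b, l (a + b) = l a + l b := by
    intro a b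
    have h1 : α (P he a 0 * P he b 0) = α (P he (a + b) 0 * P he 0 (a ^ e * b)) := by
      congr 1; rw [P_mul, P_mul]; congr 1 <;> simp
    rw [map_mul, map_mul, ha, ha, ha, hZ, P_mul, P_mul] at h1
    have h3 := (P_injective he h1).2
    simp only [hl]
    linear_combination -h3
  have hscal : ∀ (t : Fˣ) (a : F), l ((t : F) ^ e * a) = (t : F) ^ (e + 2) * l a := by
    intro t a
    have h1 := congrArg α (H_conj_P he t a 0)
    rw [map_mul, map_mul, map_inv, hH, ha, H_conj_P, mul_zero, ha] at h1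
    exact ((P_injective he h1).2).symm
  have hl0 : ∀ a, l a = 0 := by
    have hpow : ∀ a, l a = a ^ (e + 1) * l 1 := by
      intro a
      rcases eq_or_ne a 0 with rfl | hne
      · have := hadd 0 0
        rw [add_zero] at this
        rw [zero_pow (Nat.succ_ne_zero e), zero_mul]
        linear_combination -this
      · obtain ⟨t, ht⟩ := (units_pow_e_bijective he).2 (Units.mk0 a hne)
        have ht' : (t : F) ^ e = a := by simpa using congrArg Units.val ht
        rw [← ht', ← mul_one ((t : F) ^ e), hscal, mul_one]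
        congr 1
        rw [pow_succ ((t : F) ^ e), he.pow_pow, pow_add, mul_comm]
    obtain ⟨c, hc⟩ := hc
    have h1 := hadd 1 c
    rw [hpow (1 + c), hpow c, pow_succ, he.add_pow, one_pow, pow_succ] at h1
    have hl1 : l 1 = 0 := by
      rcases mul_eq_zero.1 (show (c ^ e - c) * l 1 = 0 by grind) with h | h
      · exact absurd (sub_eq_zero.1 h) hc
      · exact h
    intro a
    rw [hpow a, hl1, mul_zero]
  have hP : ∀ a b, α (P he a b) = P he a b := by
    intro a b
    have h1 : P he a b = P he a 0 * P he 0 b := by rw [P_mul]; simp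
    rw [h1, map_mul, ha, hZ]
    have := hl0 a
    simp only [hl] at this
    rw [this]
  -- the Weyl element
  obtain ⟨u, hu⟩ := hu
  have hconj : α (W he) * H e he u * (α (W he))⁻¹ = H e he u⁻¹ := by
    conv_lhs => rw [← hH u, ← map_inv, ← map_mul, ← map_mul, W_inv, W_conj_H, hH]
  obtain ⟨r, hr⟩ : ∃ r, α (W he) = W he * H e he r := by
    rcases H_conj_cases he (inv_ne_one.2 hu) hconj with ⟨-, h⟩ | ⟨h, -⟩
    · exact absurd (Units.ext (sq_inj he (show (u : F) ^ 2 = (1 : F) ^ 2 by
        rw [one_pow, pow_two]; nth_rewrite 2 [h]; exact Units.mul_inv u))) hu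
    · exact h
  have hnB : W he * P he 0 1 * W he ∉ borel F e := by
    intro h
    have h1 : (P he 0 0 * W he)⁻¹ * (P he 0 1 * W he) ∈ borel F e := by
      rwa [P_zero, one_mul, W_inv, ← mul_assoc]
    exact zero_ne_one ((P_W_P_mem_borel_iff he h1).2)
  obtain ⟨x, y, x', y', s, hd⟩ := exists_bruhat' he _ hnB
  have hR : r = 1 := by
    have h1 := congrArg α hd
    simp only [map_mul, hr, hP, hH] at h1
    have e1 : W he * H e he r * P he 0 1 * (W he * H e he r) =
        H e he r⁻¹ * (W he * P he 0 1 * W he) * H e he r := by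
      calc W he * H e he r * P he 0 1 * (W he * H e he r)
          = (H e he r⁻¹ * W he) * P he 0 1 * (W he * H e he r) := by rw [H_conj_W, inv_inv]
        _ = _ := by simp only [mul_assoc]
    rw [e1, hd] at h1
    have e2 : H e he r⁻¹ * (P he x y * W he * P he x' y' * H e he s) * H e he r =
        H e he r⁻¹ * (P he x y * W he * (P he x' y' * H e he (s * r))) := by
      rw [← H_mul]; simp only [mul_assoc]
    have e3 : P he x y * (W he * H e he r) * P he x' y' * H e he s =
        P he x y * W he * (P he ((r : F) ^ e * x') ((r : F) ^ (e + 2) * y') * H e he (r * s)) := by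
      rw [← H_mul, ← mul_assoc (P he ((r : F) ^ e * x') _), ← H_mul_P]
      simp only [mul_assoc]
    rw [e2, e3, H_mul_bruhat] at h1
    obtain ⟨h3, h4, -⟩ := bruhat_inj he h1
    by_contra hr1
    have hx : x = 0 := by
      rcases mul_eq_zero.1 (show (((r⁻¹ : Fˣ) : F) ^ e - 1) * x = 0 by linear_combination h3)
        with h | h
      · exact absurd (inv_eq_one.1 (Units.ext (eq_one_of_pow_e he (sub_eq_zero.1 h)))) hr1
      · exact h
    have hy : y = 0 := by
      rcases mul_eq_zero.1 (show (((r⁻¹ : Fˣ) : F) ^ (e + 2) - 1) * y = 0 by linear_combination h4)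
        with h | h
      · exact absurd (inv_eq_one.1 (Units.ext (eq_one_of_pow_e2 he (sub_eq_zero.1 h)))) hr1
      · exact h
    rw [hx, hy, P_zero, one_mul, mul_assoc, mul_assoc, mul_right_inj] at hd
    apply W_notMem_borel he
    have h5 : P he 0 1 * W he ∈ borel F e := by
      rw [hd]; exact mul_mem (P_mem_borel he _ _) (H_mem_borel he _)
    exact (Subgroup.mul_mem_cancel_left _ (P_mem_borel he 0 1)).1 h5
  let K : Subgroup (Sz F e) := MonoidHom.eqLocus α.toMonoidHom (MonoidHom.id _)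
  have hK : K = ⊤ := closure_gen he K hP hH (show α (W he) = W he by rw [hr, hR, H_one, mul_one])
  apply MulEquiv.ext
  intro g
  exact (show g ∈ K from hK ▸ Subgroup.mem_top g)

/-- Every automorphism is inner times field. -/
theorem exists_conj_fieldHom (he : Twist F e) (hc : ∃ c : F, c ^ e ≠ c) (hu : ∃ u : Fˣ, u ≠ 1)
    (α : MulAut (Sz F e)) :
    ∃ (x : Sz F e) (σ : F ≃+* F), α = MulAut.conj x * fieldHom he σ := by
  classical
  cases nonempty_fintype F
  have h0 : (0 : F) ^ e = 0 := zero_pow (Nat.ne_zero_of_lt he.one_lt)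
  have h2 := he.two
  -- a generator of the torus
  obtain ⟨u, hugen⟩ := IsCyclic.exists_generator (α := Fˣ)
  have hu1 : u ≠ 1 := by
    rintro rfl
    obtain ⟨v, hv⟩ := hu
    exact hv (by simpa using hugen v)
  -- stage one: the Sylow subgroup and the torus
  obtain ⟨x₁, hx₁⟩ := map_mem_uGroup_smul he α
  set β := MulAut.conj x₁ * α with hβ
  have hβU : ∀ g ∈ uGroup he, β g ∈ uGroup he := hx₁
  have hmapU : (uGroup he).map β.toMonoidHom = uGroup he := by
    refine Subgroup.eq_of_le_of_card_ge ?_ (le_of_eq ?_)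
    · rintro _ ⟨g, hg, rfl⟩; exact hβU g hg
    · rw [Subgroup.card_map_of_injective β.injective]
  have hβB : β (H e he u) ∈ borel F e := by
    rw [← normalizer_uGroup he, ← hmapU,
      ← Subgroup.map_normalizer_eq_of_bijective _ (f := β.toMonoidHom) β.bijective]
    exact ⟨_, borel_le_normalizer he (H_mem_borel he u), rfl⟩
  obtain ⟨a, b, s, hs⟩ := exists_borel_eq he _ hβB
  have hs1 : s ≠ 1 := by
    rintro rfl
    rw [H_one, mul_one] at hs
    have h3 : β (H e he u) ∈ (uGroup he).map β.toMonoidHom := by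
      rw [hmapU, hs]; exact P_mem_uGroup he a b
    obtain ⟨g, hg, hge⟩ := h3
    obtain ⟨⟨c, d⟩, rfl⟩ := hg
    have h4 : P he c d * H e he 1 = P he 0 0 * H e he u := by
      rw [H_one, mul_one, P_zero, one_mul]; exact β.injective hge
    exact hu1 (borel_inj he h4).2.2.symm
  obtain ⟨c, d, hcd⟩ : ∃ c d, P he c d * H e he s * (P he c d)⁻¹ = P he a b * H e he s := by
    have hse : (s : F) ^ e - 1 ≠ 0 := fun h =>
      hs1 (Units.ext (eq_one_of_pow_e he (sub_eq_zero.1 h)))
    have hse2 : (s : F) ^ (e + 2) - 1 ≠ 0 := fun h =>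
      hs1 (Units.ext (eq_one_of_pow_e2 he (sub_eq_zero.1 h)))
    refine ⟨a / ((s : F) ^ e - 1),
      (b - ((s : F) ^ (e + 2) * ((a / ((s : F) ^ e - 1)) ^ e * (a / ((s : F) ^ e - 1)))) -
        (a / ((s : F) ^ e - 1)) ^ e * ((s : F) ^ e * (a / ((s : F) ^ e - 1)))) /
        ((s : F) ^ (e + 2) - 1), ?_⟩
    rw [P_inv, mul_assoc, H_mul_P, ← mul_assoc, P_mul]
    congr 2
    · field_simp
      grind
    · field_simp
      grind
  set γ := MulAut.conj (P he c d)⁻¹ * β with hγ
  have hγU : ∀ g ∈ uGroup he, γ g ∈ uGroup he := fun g hg => by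
    show (P he c d)⁻¹ * β g * ((P he c d)⁻¹)⁻¹ ∈ uGroup he
    exact mul_mem (mul_mem (inv_mem (P_mem_uGroup he c d)) (hβU g hg))
      (inv_mem (inv_mem (P_mem_uGroup he c d)))
  have hγu : γ (H e he u) = H e he s := by
    show (P he c d)⁻¹ * β (H e he u) * ((P he c d)⁻¹)⁻¹ = _
    rw [hs, ← hcd]; simp [mul_assoc]
  have hγH : ∀ t, ∃ t', γ (H e he t) = H e he t' := by
    intro t
    obtain ⟨k, hk⟩ := hugen t
    refine ⟨s ^ k, ?_⟩
    rw [← hk, show H e he (u ^ k) = (H e he u) ^ k from map_zpow (hHom he) u k, map_zpow, hγu]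
    exact (map_zpow (hHom he) s k).symm
  choose τ hτ using hγH
  have hγZ : ∀ b, ∃ b', γ (P he 0 b) = P he 0 b' := by
    intro b
    obtain ⟨⟨a', b'⟩, hab⟩ := hγU _ (P_mem_uGroup he 0 b)
    have hsq : γ (P he 0 b) * γ (P he 0 b) = P he 0 0 := by
      rw [← map_mul, P_mul, h0, show P he (0 + 0) (b + b + 0 * 0) = 1 by
        rw [← P_zero he]; congr 1 <;> grind, map_one, P_zero]
    rw [← hab] at hsq ⊢
    rw [P_mul] at hsq
    have h3 := (P_injective he hsq).2
    refine ⟨b', ?_⟩
    show P he a' b' = P he 0 b'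
    congr 1
    rcases mul_eq_zero.1 (show a' ^ e * a' = 0 by grind) with h | h
    · exact pow_eq_zero_iff (Nat.ne_zero_of_lt he.one_lt) |>.1 h
    · exact h
  choose f₀ hf₀ using hγZ
  -- stage two: normalise `f 1 = 1`
  have hf01 : f₀ 1 ≠ 0 := by
    intro h
    have h3 := hf₀ 1
    rw [h, P_zero, ← map_one γ] at h3
    exact one_ne_zero (P_injective he ((γ.injective h3).trans (P_zero he).symm)).2
  obtain ⟨v, hv⟩ := (units_pow_e2_bijective he).2 (Units.mk0 (f₀ 1) hf01)⁻¹
  have hv' : (v : F) ^ (e + 2) = (f₀ 1)⁻¹ := by simpa using congrArg Units.val hv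
  set δ := MulAut.conj (H e he v) * γ with hδ
  have hδH : ∀ t, δ (H e he t) = H e he (τ t) := fun t => by
    show H e he v * γ (H e he t) * (H e he v)⁻¹ = _
    rw [hτ, H_inv, H_mul, H_mul, mul_comm v, mul_inv_cancel_right]
  set f : F → F := fun b => (v : F) ^ (e + 2) * f₀ b with hf
  have hδZ : ∀ b, δ (P he 0 b) = P he 0 (f b) := fun b => by
    show H e he v * γ (P he 0 b) * (H e he v)⁻¹ = _
    rw [hf₀, H_conj_P, mul_zero]
  have hfadd : ∀ a b, f (a + b) = f a + f b := by
    intro a b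
    have h3 := congrArg δ (P_mul he 0 a 0 b)
    rw [map_mul, hδZ, hδZ, P_mul, add_zero, h0, zero_mul, add_zero, add_zero, hδZ] at h3
    exact (P_injective he h3).2.symm
  have hfmul : ∀ (t : Fˣ) (b : F), f ((t : F) ^ (e + 2) * b) = (τ t : F) ^ (e + 2) * f b := by
    intro t b
    have h3 := congrArg δ (H_conj_P he t 0 b)
    rw [map_mul, map_mul, map_inv, hδH, hδZ, H_conj_P, mul_zero, mul_zero, hδZ] at h3
    exact (P_injective he h3).2.symm
  have hf1 : f 1 = 1 := by rw [hf]; simp only; rw [hv', inv_mul_cancel₀ hf01]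
  have hf0 : f 0 = 0 := by
    have := hfadd 0 0; rw [add_zero] at this; linear_combination -this
  have hfm : ∀ a b, f (a * b) = f a * f b := by
    intro a b
    rcases eq_or_ne a 0 with rfl | ha
    · rw [zero_mul, hf0, zero_mul]
    obtain ⟨t, ht⟩ := (units_pow_e2_bijective he).2 (Units.mk0 a ha)
    have ht' : (t : F) ^ (e + 2) = a := by simpa using congrArg Units.val ht
    have h5 := hfmul t 1
    rw [mul_one, hf1, mul_one] at h5
    rw [← ht', hfmul, h5]
  let σ₀ : F →+* F := ⟨⟨⟨f, hf1⟩, hfm⟩, hf0, hfadd⟩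
  let σ : F ≃+* F := RingEquiv.ofBijective σ₀ (Finite.injective_iff_bijective.1 σ₀.injective)
  have hστ : ∀ t : Fˣ, (τ t : F) = σ (t : F) := by
    intro t
    have h5 := hfmul t 1
    rw [mul_one, hf1, mul_one] at h5
    have h6 : σ (t : F) ^ (e + 2) = (τ t : F) ^ (e + 2) := by rw [← map_pow]; exact h5
    have h7 := eq_one_of_pow_e2 he (s := σ (t : F) / (τ t : F))
      (by rw [div_pow, h6, div_self (pow_ne_zero _ (τ t).ne_zero)])
    exact ((div_eq_one_iff_eq (τ t).ne_zero).1 h7).symm
  have hfin : (fieldHom he σ)⁻¹ * δ = 1 := by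
    refine eq_one_of_fix he hc _ (fun t => ?_) (fun b => ?_) (fun a b => ?_) hu
    · show (fieldHom he σ).symm (δ (H e he t)) = _
      rw [MulEquiv.symm_apply_eq, hδH, fieldHom_H]
      congr 1
      exact Units.ext (hστ t)
    · show (fieldHom he σ).symm (δ (P he 0 b)) = _
      rw [MulEquiv.symm_apply_eq, hδZ, fieldHom_P, map_zero]
      rfl
    · obtain ⟨⟨a', b'⟩, hab⟩ := hγU _ (P_mem_uGroup he a b)
      refine ⟨σ.symm ((v : F) ^ e * a'), σ.symm ((v : F) ^ (e + 2) * b'), ?_⟩
      show (fieldHom he σ).symm (H e he v * γ (P he a b) * (H e he v)⁻¹) = _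
      rw [← hab]
      show (fieldHom he σ).symm (H e he v * P he a' b' * (H e he v)⁻¹) = _
      rw [MulEquiv.symm_apply_eq, H_conj_P, fieldHom_P, σ.apply_symm_apply, σ.apply_symm_apply]
  refine ⟨(H e he v * (P he c d)⁻¹ * x₁)⁻¹, σ, ?_⟩
  rw [inv_mul_eq_one] at hfin
  rw [hfin, hδ, hγ, hβ, map_inv, map_mul, map_mul]
  group

theorem fieldHom_eq_one_of_inner (he : Twist F e) (σ : F ≃+* F) (g : Sz F e)
    (h : fieldHom he σ = MulAut.conj g) : σ = 1 := by
  have hg : g ∈ borel F e := by
    have h1 : fieldHom he σ (P he 1 0) = g * P he 1 0 * g⁻¹ := by rw [h]; rfl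
    rw [fieldHom_P] at h1
    refine inv_mem_iff.1 (mem_borel_of_conj_fix he (a := 1) (b := 0) (fun h' => ?_) h1.symm
      (P_mem_borel he _ _))
    exact one_ne_zero (P_injective he (h'.trans (P_zero he).symm)).1
  refine RingEquiv.ext fun x => ?_
  rcases eq_or_ne x 0 with rfl | hx
  · simp
  set t := Units.mk0 x hx
  have h1 : fieldHom he σ (H e he t) = g * H e he t * g⁻¹ := by rw [h]; rfl
  rw [fieldHom_H] at h1
  set t' := Units.map σ.toRingHom.toMonoidHom t
  have h2 : torusHom he ⟨_, H_mem_borel he t'⟩ =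
      torusHom he (⟨g, hg⟩ * ⟨_, H_mem_borel he t⟩ * ⟨g, hg⟩⁻¹) :=
    congrArg _ (Subtype.ext h1)
  have hT : ∀ s, torusHom he ⟨_, H_mem_borel he s⟩ = s := fun s => by
    have h3 := torusHom_apply he 0 0 s (mul_mem (P_mem_borel he 0 0) (H_mem_borel he s))
    simp only [P_zero, one_mul] at h3
    exact h3
  rw [map_mul, map_mul, map_inv, hT, hT, mul_comm, inv_mul_cancel_left] at h2
  exact congrArg Units.val h2

end CfsgLib.KnownB.Suzuki
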