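import Cfsg.Agent.Lib.KnownB.SuzukiFacts

set_option autoImplicit false

/-!
Centralisers of torus elements and of 2-elements in `Cfsg.Lie.Sz F e`.
-/

namespace CfsgLib.KnownB.Suzuki

open Cfsg.Lie CfsgLib.KnownB.SzElem

variable {F : Type*} [Field F] {e : ℕ}

/-- The torus as a homomorphism. -/
def hHom (he : Twist F e) : Fˣ →* Sz F e :=
  MonoidHom.mk' (H e he) fun s t => (H_mul he s t).symm

/-- The torus. -/
def hGroup (he : Twist F e) : Subgroup (Sz F e) := (hHom he).range

lemma H_mem_hGroup (he : Twist F e) (t : Fˣ) : H e he t ∈ hGroup he := ⟨t, rfl⟩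

lemma hGroup_le_borel (he : Twist F e) : hGroup he ≤ borel F e := by
  rintro _ ⟨t, rfl⟩
  exact H_mem_borel he t

instance hGroup_isCyclic [Finite F] (he : Twist F e) : IsCyclic (hGroup he) :=
  isCyclic_of_surjective (hHom he).rangeRestrict (hHom he).rangeRestrict_surjective

lemma card_hGroup [Fintype F] (he : Twist F e) : Nat.card (hGroup he) = Fintype.card F - 1 := by
  classical
  rw [hGroup, ← Nat.card_congr (MonoidHom.ofInjective (f := hHom he) (H_injective he)).toEquiv,
    Nat.card_eq_fintype_card, Fintype.card_units]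

lemma borel_inj (he : Twist F e) {a b c d : F} {s t : Fˣ}
    (h : P he a b * H e he s = P he c d * H e he t) : a = c ∧ b = d ∧ s = t := by
  have := (borel_equiv_bijective he).1 (a₁ := (a, b, s)) (a₂ := (c, d, t)) (Subtype.ext h)
  simpa using this

lemma bruhat_inj (he : Twist F e) {a b c d a' b' c' d' : F} {s t : Fˣ}
    (h : P he a b * W he * (P he c d * H e he s) = P he a' b' * W he * (P he c' d' * H e he t)) :
    a = a' ∧ b = b' ∧ c = c' ∧ d = d' ∧ s = t := by
  have hm : (P he a b * W he)⁻¹ * (P he a' b' * W he) ∈ borel F e := by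
    have h1 : (P he a b * W he)⁻¹ * (P he a' b' * W he) =
        P he c d * H e he s * (P he c' d' * H e he t)⁻¹ := by
      rw [eq_mul_inv_iff_mul_eq, mul_assoc, ← h, inv_mul_cancel_left]
    rw [h1]
    exact mul_mem (mul_mem (P_mem_borel he _ _) (H_mem_borel he _))
      (inv_mem (mul_mem (P_mem_borel he _ _) (H_mem_borel he _)))
  obtain ⟨rfl, rfl⟩ := P_W_P_mem_borel_iff he hm
  exact ⟨rfl, rfl, borel_inj he (mul_left_cancel h)⟩

lemma H_mul_P (he : Twist F e) (t : Fˣ) (a b : F) :
    H e he t * P he a b = P he ((t : F) ^ e * a) ((t : F) ^ (e + 2) * b) * H e he t := by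
  rw [← H_conj_P, inv_mul_cancel_right]

lemma H_mul_bruhat (he : Twist F e) (t r : Fˣ) (a b c d : F) :
    H e he t * (P he a b * W he * (P he c d * H e he r)) =
      P he ((t : F) ^ e * a) ((t : F) ^ (e + 2) * b) * W he *
        (P he ((t⁻¹ : Fˣ) ^ e * c) ((t⁻¹ : Fˣ) ^ (e + 2) * d) * H e he (t⁻¹ * r)) := by
  calc H e he t * (P he a b * W he * (P he c d * H e he r))
      = H e he t * P he a b * W he * (P he c d * H e he r) := by simp only [mul_assoc]
    _ = P he ((t : F) ^ e * a) ((t : F) ^ (e + 2) * b) * (H e he t * W he) *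
        (P he c d * H e he r) := by rw [H_mul_P he t a b]; simp only [mul_assoc]
    _ = P he ((t : F) ^ e * a) ((t : F) ^ (e + 2) * b) * W he *
        (H e he t⁻¹ * P he c d * H e he r) := by rw [H_conj_W]; simp only [mul_assoc]
    _ = _ := by rw [H_mul_P he t⁻¹ c d, mul_assoc _ (H e he t⁻¹), H_mul]

/-- Elements conjugating a nontrivial torus element into the torus. -/
theorem H_conj_cases (he : Twist F e) {s t : Fˣ} (ht : t ≠ 1) {g : Sz F e}
    (hg : g * H e he s * g⁻¹ = H e he t) :
    (g ∈ hGroup he ∧ s = t) ∨ ((∃ r, g = W he * H e he r) ∧ s = t⁻¹) := by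
  have hte : (t : F) ^ e ≠ 1 := fun h => ht (Units.ext (eq_one_of_pow_e he h))
  have hte2 : (t : F) ^ (e + 2) ≠ 1 := fun h => ht (Units.ext (eq_one_of_pow_e2 he h))
  have hcomm : H e he t * g = g * H e he s := by rw [← hg, inv_mul_cancel_right]
  by_cases hgB : g ∈ borel F e
  · obtain ⟨a, b, r, rfl⟩ := exists_borel_eq he g hgB
    rw [← mul_assoc, H_mul_P, mul_assoc, H_mul, mul_assoc, H_mul] at hcomm
    obtain ⟨h1, h2, h3⟩ := borel_inj he hcomm
    have ha : a = 0 := by
      rcases mul_eq_zero.1 (show ((t : F) ^ e - 1) * a = 0 by linear_combination h1) with h | h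
      · exact absurd (sub_eq_zero.1 h) hte
      · exact h
    have hb : b = 0 := by
      rcases mul_eq_zero.1 (show ((t : F) ^ (e + 2) - 1) * b = 0 by linear_combination h2) with h | h
      · exact absurd (sub_eq_zero.1 h) hte2
      · exact h
    left
    refine ⟨by rw [ha, hb, P_zero, one_mul]; exact H_mem_hGroup he r, ?_⟩
    rw [mul_comm t r] at h3
    exact (mul_left_cancel h3).symm
  · obtain ⟨a, b, c, d, r, rfl⟩ := exists_bruhat' he g hgB
    rw [show P he a b * W he * P he c d * H e he r = P he a b * W he * (P he c d * H e he r) from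
      mul_assoc _ _ _, H_mul_bruhat, mul_assoc (P he a b * W he), mul_assoc (P he c d), H_mul]
      at hcomm
    obtain ⟨h1, h2, h3, h4, h5⟩ := bruhat_inj he hcomm
    have hte' : ((t⁻¹ : Fˣ) : F) ^ e ≠ 1 := fun h =>
      ht (inv_eq_one.1 (Units.ext (eq_one_of_pow_e he h)))
    have hte2' : ((t⁻¹ : Fˣ) : F) ^ (e + 2) ≠ 1 := fun h =>
      ht (inv_eq_one.1 (Units.ext (eq_one_of_pow_e2 he h)))
    have ha : a = 0 := by
      rcases mul_eq_zero.1 (show ((t : F) ^ e - 1) * a = 0 by linear_combination h1) with h | h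
      · exact absurd (sub_eq_zero.1 h) hte
      · exact h
    have hb : b = 0 := by
      rcases mul_eq_zero.1 (show ((t : F) ^ (e + 2) - 1) * b = 0 by linear_combination h2) with h | h
      · exact absurd (sub_eq_zero.1 h) hte2
      · exact h
    have hc : c = 0 := by
      rcases mul_eq_zero.1 (show (((t⁻¹ : Fˣ) : F) ^ e - 1) * c = 0 by linear_combination h3)
        with h | h
      · exact absurd (sub_eq_zero.1 h) hte'
      · exact h
    have hd : d = 0 := by
      rcases mul_eq_zero.1 (show (((t⁻¹ : Fˣ) : F) ^ (e + 2) - 1) * d = 0 by linear_combination h4)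
        with h | h
      · exact absurd (sub_eq_zero.1 h) hte2'
      · exact h
    right
    refine ⟨⟨r, by rw [ha, hb, hc, hd, P_zero, one_mul, mul_one]⟩, ?_⟩
    rw [mul_comm] at h5
    exact (mul_left_cancel h5).symm

lemma centralizer_H (he : Twist F e) {t : Fˣ} (ht : t ≠ 1) :
    Subgroup.centralizer {H e he t} = hGroup he := by
  ext g
  rw [Subgroup.mem_centralizer_singleton_iff]
  constructor
  · intro h
    rcases H_conj_cases he ht (s := t) (g := g) (by rw [h, mul_inv_cancel_right]) with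
      ⟨hg, -⟩ | ⟨-, hs⟩
    · exact hg
    · exfalso
      have h2 : (t : F) ^ 2 = 1 ^ 2 := by
        rw [one_pow, pow_two]
        nth_rewrite 2 [hs]
        exact Units.mul_inv t
      exact ht (Units.ext (sq_inj he h2))
  · rintro ⟨s, rfl⟩
    show H e he s * H e he t = H e he t * H e he s
    rw [H_mul, H_mul, mul_comm]

lemma W_mem_normalizer_hGroup (he : Twist F e) :
    W he ∈ Subgroup.normalizer (hGroup he : Set (Sz F e)) := by
  have key : ∀ h ∈ hGroup he, W he * h * (W he)⁻¹ ∈ hGroup he := by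
    rintro _ ⟨s, rfl⟩
    rw [W_inv]
    show W he * H e he s * W he ∈ _
    rw [W_conj_H]
    exact H_mem_hGroup he _
  rw [Subgroup.mem_normalizer_iff]
  refine fun h => ⟨key h, fun hh => ?_⟩
  have := key _ hh
  rw [W_inv] at this
  simpa [mul_assoc, W_mul_W, ← mul_assoc (W he) (W he)] using this

lemma hGroup_TI (he : Twist F e) (g : Sz F e) (a : Sz F e) (ha : a ∈ hGroup he) (ha1 : a ≠ 1)
    (hg : g * a * g⁻¹ ∈ hGroup he) : g ∈ Subgroup.normalizer (hGroup he : Set (Sz F e)) := by
  obtain ⟨s, rfl⟩ := ha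
  obtain ⟨t, ht⟩ := hg
  have ht1 : t ≠ 1 := by
    rintro rfl
    rw [map_one] at ht
    exact ha1 (conj_eq_one_iff.1 ht.symm)
  rcases H_conj_cases he ht1 (s := s) (g := g) ht.symm with ⟨h, -⟩ | ⟨⟨r, rfl⟩, -⟩
  · exact Subgroup.le_normalizer h
  · exact mul_mem (W_mem_normalizer_hGroup he) (Subgroup.le_normalizer (H_mem_hGroup he r))

lemma W_H_notMem_hGroup (he : Twist F e) (r : Fˣ) : W he * H e he r ∉ hGroup he := fun h =>
  W_notMem_borel he ((Subgroup.mul_mem_cancel_right _ (H_mem_borel he r)).1 (hGroup_le_borel he h))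

lemma card_normalizer_hGroup [Fintype F] (he : Twist F e) (hu : ∃ u : Fˣ, u ≠ 1) :
    Nat.card (Subgroup.normalizer (hGroup he : Set (Sz F e))) = 2 * (Fintype.card F - 1) := by
  classical
  obtain ⟨u, hu⟩ := hu
  let f : Fˣ ⊕ Fˣ → Subgroup.normalizer (hGroup he : Set (Sz F e)) := fun x => match x with
    | .inl r => ⟨H e he r, Subgroup.le_normalizer (H_mem_hGroup he r)⟩
    | .inr r => ⟨W he * H e he r,
        mul_mem (W_mem_normalizer_hGroup he) (Subgroup.le_normalizer (H_mem_hGroup he r))⟩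
  have hf : Function.Bijective f := by
    constructor
    · rintro (r | r) (r' | r') h <;> have h' := congrArg Subtype.val h <;> simp only [f] at h'
      · exact congrArg _ (H_injective he h')
      · exact absurd (h' ▸ H_mem_hGroup he r) (W_H_notMem_hGroup he r')
      · exact absurd (h'.symm ▸ H_mem_hGroup he r') (W_H_notMem_hGroup he r)
      · exact congrArg _ (H_injective he (mul_left_cancel h'))
    · rintro ⟨g, hg⟩
      have h1 := (Subgroup.mem_normalizer_iff.1 hg _).1 (H_mem_hGroup he u)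
      obtain ⟨t, ht⟩ := h1
      have ht1 : t ≠ 1 := by
        rintro rfl
        rw [map_one] at ht
        exact hu (H_injective he ((conj_eq_one_iff.1 ht.symm).trans (H_one he).symm))
      rcases H_conj_cases he ht1 (s := u) (g := g) ht.symm with ⟨⟨r, hr⟩, -⟩ | ⟨⟨r, hr⟩, -⟩
      · exact ⟨.inl r, Subtype.ext hr⟩
      · exact ⟨.inr r, Subtype.ext hr.symm⟩
  rw [← Nat.card_congr (Equiv.ofBijective f hf), Nat.card_sum, Nat.card_eq_fintype_card,
    Fintype.card_units]
  omega

lemma centralizer_le_uGroup (he : Twist F e) {x : Sz F e} (hx : x ∈ uGroup he) (hx1 : x ≠ 1) :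
    Subgroup.centralizer {x} ≤ uGroup he := by
  obtain ⟨⟨a, b⟩, rfl⟩ := hx
  intro g hg
  rw [Subgroup.mem_centralizer_singleton_iff] at hg
  have hfix : g * P he a b * g⁻¹ = P he a b := by rw [hg, mul_inv_cancel_right]
  have hgB : g ∈ borel F e :=
    inv_mem_iff.1 (mem_borel_of_conj_fix he hx1 hfix (P_mem_borel he a b))
  obtain ⟨c, d, r, rfl⟩ := exists_borel_eq he g hgB
  suffices hr : r = 1 by rw [hr, H_one, mul_one]; exact P_mem_uGroup he c d
  by_contra hr
  have hre : (r : F) ^ e ≠ 1 := fun h => hr (Units.ext (eq_one_of_pow_e he h))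
  have hre2 : (r : F) ^ (e + 2) ≠ 1 := fun h => hr (Units.ext (eq_one_of_pow_e2 he h))
  simp only at hg
  rw [mul_assoc, H_mul_P, ← mul_assoc, P_mul, ← mul_assoc (P he a b), P_mul] at hg
  obtain ⟨h1, h2, -⟩ := borel_inj he hg
  have ha : a = 0 := by
    rcases mul_eq_zero.1 (show ((r : F) ^ e - 1) * a = 0 by linear_combination h1) with h | h
    · exact absurd (sub_eq_zero.1 h) hre
    · exact h
  subst ha
  rw [zero_pow (Nat.ne_zero_of_lt he.one_lt), mul_zero, mul_zero, zero_mul] at h2
  have hb : b = 0 := by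
    rcases mul_eq_zero.1 (show ((r : F) ^ (e + 2) - 1) * b = 0 by linear_combination h2) with h | h
    · exact absurd (sub_eq_zero.1 h) hre2
    · exact h
  subst hb
  exact hx1 (P_zero he)

lemma uGroup_TI [Finite F] (he : Twist F e) (g a : Sz F e) (ha : a ∈ uGroup he) (ha1 : a ≠ 1)
    (hg : g * a * g⁻¹ ∈ uGroup he) : g ∈ Subgroup.normalizer (uGroup he : Set (Sz F e)) := by
  obtain ⟨⟨x, y⟩, rfl⟩ := ha
  rw [normalizer_uGroup]
  exact inv_mem_iff.1 (mem_borel_of_conj_fix he ha1 rfl (uGroup_le_borel he hg))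

end CfsgLib.KnownB.Suzuki
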