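import Cfsg.Agent.Lib.KnownB.SuzukiSubgroupsTransfer

set_option autoImplicit false

/-!
Point stabilisers of transitive actions of the Suzuki group in which nontrivial elements fix at
most two points.
-/

namespace CfsgLib.KnownB.Suzuki

open Cfsg.Lie CfsgLib.KnownB.SzElem CfsgLib.KnownB.TICount

/-- The number of elements conjugating `g` into `M`. -/
noncomputable def cnt {G : Type*} [Group G] (M : Subgroup G) (g : G) : ℕ :=
  Nat.card {x : G | x⁻¹ * g * x ∈ M}

lemma card_fixedBy_mul {G Ω : Type*} [Group G] [Finite G] [MulAction G Ω]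
    [MulAction.IsPretransitive G Ω] (α : Ω) (g : G) :
    Nat.card (MulAction.fixedBy Ω g) * Nat.card (MulAction.stabilizer G α) =
      cnt (MulAction.stabilizer G α) g := by
  classical
  choose r hr using fun ω : Ω => MulAction.exists_smul_eq G α ω
  rw [cnt, ← Nat.card_prod]
  refine Nat.card_congr
    { toFun := fun p => ⟨r p.1.1 * p.2.1, ?_⟩
      invFun := fun x => (⟨x.1 • α, ?_⟩, ⟨(r (x.1 • α))⁻¹ * x.1, ?_⟩)
      left_inv := fun p => ?_
      right_inv := fun x => Subtype.ext (mul_inv_cancel_left _ _) }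
  · obtain ⟨⟨ω, hω⟩, ⟨s, hs⟩⟩ := p
    show (r ω * s)⁻¹ * g * (r ω * s) ∈ MulAction.stabilizer G α
    rw [MulAction.mem_stabilizer_iff, mul_smul, mul_smul, mul_smul, MulAction.mem_stabilizer_iff.1 hs,
      hr, show g • ω = ω from hω, inv_smul_eq_iff, mul_smul, MulAction.mem_stabilizer_iff.1 hs, hr]
  · have h := x.2
    rw [Set.mem_ofPred_eq, MulAction.mem_stabilizer_iff, mul_smul, mul_smul, inv_smul_eq_iff] at h
    exact h
  · rw [MulAction.mem_stabilizer_iff, mul_smul, inv_smul_eq_iff, hr]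
  · obtain ⟨⟨ω, hω⟩, ⟨s, hs⟩⟩ := p
    have h1 : (r ω * s) • α = ω := by rw [mul_smul, MulAction.mem_stabilizer_iff.1 hs, hr]
    refine Prod.ext (Subtype.ext h1) (Subtype.ext ?_)
    show (r ((r ω * s) • α))⁻¹ * (r ω * s) = s
    rw [h1, inv_mul_cancel_left]

lemma cnt_map {G H : Type*} [Group G] [Group H] (φ : G ≃* H) (M : Subgroup G) (g : G) :
    cnt (M.map φ.toMonoidHom) (φ g) = cnt M g := by
  refine Nat.card_congr (φ.symm.toEquiv.subtypeEquiv fun x => ?_)
  show x⁻¹ * φ g * x ∈ M.map φ.toMonoidHom ↔ (φ.symm x)⁻¹ * g * φ.symm x ∈ M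
  rw [show x⁻¹ * φ g * x = φ.toMonoidHom ((φ.symm x)⁻¹ * g * φ.symm x) by simp,
    Subgroup.mem_map_iff_mem φ.injective]

variable {F : Type*} [Field F] {e : ℕ} [Fintype F]

local notation "q" => Fintype.card F

lemma torus_card_cases (hp : Params F e) {x : Sz F e} (hx : x ≠ 1)
    (h2 : ¬ IsPGroup 2 (Subgroup.centralizer {x})) :
    Nat.card (Subgroup.centralizer {x}) = q - 1 ∨
      Nat.card (Subgroup.normalizer (Subgroup.centralizer {x} : Set (Sz F e))) =
        4 * Nat.card (Subgroup.centralizer {x}) := by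
  classical
  have he := hp.twist
  rcases exists_cases hp hx with h | h | h
  · obtain ⟨-, g, hg⟩ := h
    have h1 := (uGroup_isPGroup he).to_le
      (centralizer_le_uGroup he hg (fun h => hx (conj_eq_one_iff.1 h)))
    rw [show g * x * g⁻¹ = MulAut.conj g x from rfl, ← map_centralizer_singleton] at h1
    exact absurd (h1.of_equiv ((Subgroup.centralizer {x}).equivMapOfInjective _
      (MulAut.conj g).injective).symm) h2
  · left
    obtain ⟨g, hg⟩ := mem_conjSet_centralizer (A := hGroup he) (by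
      rintro _ ⟨t, rfl⟩ ht
      exact centralizer_H he fun h => ht (by rw [h, map_one])) h
    rw [hg, Subgroup.card_map_of_injective (MulAut.conj g).injective, card_hGroup]
  · right
    obtain ⟨A, B, hA, hB, -, -, hnA, hnB, hcover⟩ := exists_tori hp
    have key : ∀ T : Subgroup (Sz F e), IsTorus T → x ∈ conjSet T →
        Nat.card (Subgroup.normalizer (T : Set (Sz F e))) = 4 * Nat.card T →
        Nat.card (Subgroup.normalizer (Subgroup.centralizer {x} : Set (Sz F e))) =
          4 * Nat.card (Subgroup.centralizer {x}) := by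
      intro T hT hxT hnT
      obtain ⟨g, hg⟩ := mem_conjSet_centralizer (A := T) (fun a => hT.centralizer_eq hp) hxT
      rw [hg, ← Subgroup.map_normalizer_eq_of_bijective _ (f := (MulAut.conj g).toMonoidHom)
        (MulAut.conj g).bijective, Subgroup.card_map_of_injective (MulAut.conj g).injective,
        Subgroup.card_map_of_injective (MulAut.conj g).injective, hnT]
    rcases hcover h with h | h
    · exact key A hA h hnA
    · exact key B hB h hnB

lemma cnt_involution_ge (hp : Params F e) (M : Subgroup (Sz F e)) (T : Set (Sz F e))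
    (hT : ∀ z ∈ T, z ∈ M ∧ z ≠ 1 ∧ z * z = 1) :
    q ^ 2 * Nat.card T ≤ cnt M (P hp.twist 0 1) := by
  have he := hp.twist
  have hex : ∀ z : T, ∃ y, y⁻¹ * P he 0 1 * y = z := by
    rintro ⟨z, hz⟩
    have : Fact (Nat.Prime 2) := ⟨Nat.prime_two⟩
    obtain ⟨g, hg⟩ := conj_mem_uGroup hp (x := z) (IsPGroup.of_card (n := 1) (by
      rw [Nat.card_zpowers, orderOf_eq_prime (by rw [pow_two]; exact (hT z hz).2.2) (hT z hz).2.1,
        pow_one]))
    obtain ⟨b, hb⟩ := exists_central_of_sq he hg (by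
      rw [pow_two, show g * z * g⁻¹ * (g * z * g⁻¹) = g * (z * z) * g⁻¹ by simp [mul_assoc],
        (hT z hz).2.2]
      simp)
    have hb0 : b ≠ 0 := fun h => (hT z hz).2.1 (conj_eq_one_iff.1 (by rw [hb, h, P_zero]))
    obtain ⟨t, ht⟩ := (units_pow_e2_bijective he).2 (Units.mk0 b hb0)
    have ht' : (t : F) ^ (e + 2) = b := by simpa using congrArg Units.val ht
    refine ⟨(H e he t)⁻¹ * g, ?_⟩
    have h1 : H e he t * P he 0 1 * (H e he t)⁻¹ = g * z * g⁻¹ := by
      rw [H_conj_P, hb, ht', mul_zero, mul_one]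
    show _ = z
    rw [show ((H e he t)⁻¹ * g)⁻¹ * P he 0 1 * ((H e he t)⁻¹ * g) =
      g⁻¹ * (H e he t * P he 0 1 * (H e he t)⁻¹) * g by simp [mul_assoc], h1]
    simp [mul_assoc]
  choose y hy using hex
  rw [← Nat.card_eq_fintype_card, ← card_uGroup he, ← Nat.card_prod]
  have hcomm : ∀ u ∈ uGroup he, u⁻¹ * P he 0 1 * u = P he 0 1 := by
    rintro _ ⟨⟨a, b⟩, rfl⟩
    rw [mul_assoc, inv_mul_eq_iff_eq_mul]
    show P he 0 1 * P he a b = P he a b * P he 0 1
    rw [P_mul, P_mul]
    congr 1 <;> simp [zero_pow (Nat.ne_zero_of_lt he.one_lt)] <;> ring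
  refine Nat.card_le_card_of_injective
    (fun p : uGroup he × T => (⟨(p.1 : Sz F e) * y p.2, ?_⟩ :
      {x : Sz F e | x⁻¹ * P hp.twist 0 1 * x ∈ M})) ?_
  · show ((p.1 : Sz F e) * y p.2)⁻¹ * P he 0 1 * ((p.1 : Sz F e) * y p.2) ∈ M
    rw [show ((p.1 : Sz F e) * y p.2)⁻¹ * P he 0 1 * ((p.1 : Sz F e) * y p.2) =
      (y p.2)⁻¹ * ((p.1 : Sz F e)⁻¹ * P he 0 1 * p.1) * y p.2 by simp [mul_assoc],
      hcomm _ p.1.2, hy]
    exact (hT p.2 p.2.2).1
  · rintro ⟨u, z⟩ ⟨u', z'⟩ h
    have h' : (u : Sz F e) * y z = (u' : Sz F e) * y z' := congrArg Subtype.val h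
    have hz : z = z' := by
      apply Subtype.ext
      rw [← hy z, ← hy z']
      conv_lhs => rw [← hcomm _ u.2]
      conv_rhs => rw [← hcomm _ u'.2]
      rw [show (y z)⁻¹ * ((u : Sz F e)⁻¹ * P he 0 1 * u) * y z =
        ((u : Sz F e) * y z)⁻¹ * P he 0 1 * ((u : Sz F e) * y z) by simp [mul_assoc], h']
      simp [mul_assoc]
    subst hz
    exact Prod.ext (Subtype.ext (mul_right_cancel h')) rfl

lemma borel_case (hp : Params F e) (M : Subgroup (Sz F e)) (hM : M ≤ borel F e)
    (hle : ∀ g : Sz F e, g ≠ 1 → cnt M g ≤ 2 * Nat.card M) (hM1 : M ≠ ⊥) :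
    Nat.card M = q - 1 ∨ ∃ g, conjSub g M = borel F e := by
  classical
  have he := hp.twist
  have h2 := he.two
  have hq := hp.eight
  have hne : P he 0 1 ≠ 1 := fun h =>
    one_ne_zero (P_injective he (h.trans (P_zero he).symm)).2
  have hinvol : ∀ (N : Subgroup (Sz F e)), ∀ z ∈ (fun b => P he 0 b) '' ((bSet he N : Set F) \ {0}),
      z ∈ N ∧ z ≠ 1 ∧ z * z = 1 := by
    rintro N _ ⟨b, ⟨hb, hb0⟩, rfl⟩
    refine ⟨hb, fun h => hb0 (P_injective he (h.trans (P_zero he).symm)).2, ?_⟩
    show P he 0 b * P he 0 b = 1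
    rw [P_mul, ← P_zero he]
    congr 1
    · ring
    · rw [zero_pow (Nat.ne_zero_of_lt he.one_lt)]; linear_combination b * h2
  have hTcard : ∀ (N : Subgroup (Sz F e)),
      Nat.card ((fun b => P he 0 b) '' ((bSet he N : Set F) \ {0})) =
        Nat.card (bSet he N) - 1 := by
    intro N
    rw [Nat.card_image_of_injective (fun a b h => (P_injective he h).2), Nat.card_coe_set_eq,
      Set.ncard_sdiff_singleton_of_mem (zero_mem _), ← Nat.card_coe_set_eq]
    rfl
  by_cases hMU : M ≤ uGroup he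
  · exfalso
    have hcard : Nat.card M = Nat.card (aSet he M) * Nat.card (bSet he M) := by
      rw [← card_S hp]
      exact (Nat.card_congr (Subgroup.subgroupOfEquivOfLe (le_refl M)).toEquiv).symm.trans
        (congrArg (fun S : Subgroup M => Nat.card S) (by
          ext x; exact ⟨fun _ => hMU x.2, fun _ => x.2⟩))
    have hs : 2 ≤ Nat.card (bSet he M) := by
      by_contra hlt
      have hb1 : Nat.card (bSet he M) = 1 := by
        have : 0 < Nat.card (bSet he M) := Nat.card_pos
        omega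
      have hA : Nat.card (aSet he M) ≤ Nat.card (bSet he M) := card_aSet_le hp M
      have : 0 < Nat.card M := Nat.card_pos
      exact hM1 (Subgroup.eq_bot_of_card_eq _ (by rw [hcard, hb1] at this ⊢; omega))
    have h1 := cnt_involution_ge hp M _ (hinvol M)
    rw [hTcard] at h1
    have h3 := h1.trans (hle _ hne)
    have hA : Nat.card (aSet he M) ≤ q :=
      (Nat.card_le_card_of_injective _ Subtype.val_injective).trans_eq Nat.card_eq_fintype_card
    rw [hcard] at h3
    obtain ⟨s, hs'⟩ : ∃ s, Nat.card (bSet he M) = s + 2 := ⟨_, (Nat.sub_add_cancel hs).symm⟩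
    rw [hs', show s + 2 - 1 = s + 1 from rfl] at h3
    have h4 : q ^ 2 * (s + 1) ≤ 2 * (q * (s + 2)) :=
      h3.trans (Nat.mul_le_mul_left 2 (Nat.mul_le_mul_right _ hA))
    have h5 := Nat.mul_le_mul_right (q * (s + 1)) hq
    have h6 : 0 < q * (s + 1) := Nat.mul_pos (by omega) (by omega)
    nlinarith
  obtain ⟨y, hyM, hyU⟩ := Set.not_subset.1 hMU
  obtain ⟨a, b, u, hy⟩ := exists_borel_eq he y (hM hyM)
  have hu : u ≠ 1 := by
    rintro rfl
    exact hyU (by rw [hy, H_one, mul_one]; exact P_mem_uGroup he a b)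
  obtain ⟨c, d, hcd⟩ := exists_conj_H he a b hu
  set p := P he c d
  set N := conjSub p⁻¹ M with hN
  have hpB : p ∈ borel F e := P_mem_borel he c d
  have hNB : N ≤ borel F e := by
    rintro x hx
    rw [hN, mem_conjSub', inv_inv] at hx
    have := mul_mem (mul_mem (inv_mem hpB) (hM hx)) hpB
    simpa [mul_assoc] using this
  have hNcard : Nat.card N = Nat.card M :=
    Subgroup.card_map_of_injective (MulAut.conj p⁻¹).injective
  have hHu : H e he u ∈ N := by
    rw [hN, mem_conjSub', inv_inv, hcd, ← hy]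
    exact hyM
  have hleN : ∀ g : Sz F e, g ≠ 1 → cnt N g ≤ 2 * Nat.card N := by
    intro g hg
    obtain ⟨g, rfl⟩ := (MulAut.conj p⁻¹).surjective g
    rw [hN, cnt_map, Subgroup.card_map_of_injective (MulAut.conj p⁻¹).injective]
    exact hle g fun h => hg (by rw [h, map_one])
  -- the torus lies in `N`
  have hHN : hGroup he ≤ N := by
    let A : Set (Sz F e) := {x | ∃ h ∈ hGroup he, ∃ n ∈ N, x = h * n}
    have hsub : A ∪ (fun x => W he * x) '' A ⊆ {x | x⁻¹ * H e he u * x ∈ N} := by
      rintro x (⟨h, hh, n, hn, rfl⟩ | ⟨-, ⟨h, hh, n, hn, rfl⟩, rfl⟩)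
      · obtain ⟨r, rfl⟩ := hh
        show (H e he r * n)⁻¹ * H e he u * (H e he r * n) ∈ N
        rw [show (H e he r * n)⁻¹ * H e he u * (H e he r * n) =
          n⁻¹ * ((H e he r)⁻¹ * H e he u * H e he r) * n by simp [mul_assoc], H_inv, H_mul, H_mul,
          show r⁻¹ * u * r = u by rw [mul_comm r⁻¹, inv_mul_cancel_right]]
        exact mul_mem (mul_mem (inv_mem hn) hHu) hn
      · obtain ⟨r, rfl⟩ := hh
        show (W he * (H e he r * n))⁻¹ * H e he u * (W he * (H e he r * n)) ∈ N
        rw [show (W he * (H e he r * n))⁻¹ * H e he u * (W he * (H e he r * n)) =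
          n⁻¹ * ((H e he r)⁻¹ * ((W he)⁻¹ * H e he u * W he) * H e he r) * n by simp [mul_assoc],
          W_inv, W_conj_H, H_inv, H_mul, H_mul,
          show r⁻¹ * u⁻¹ * r = u⁻¹ by rw [mul_comm r⁻¹, inv_mul_cancel_right], ← H_inv]
        exact mul_mem (mul_mem (inv_mem hn) (inv_mem hHu)) hn
    have hAB : ∀ x ∈ A, x ∈ borel F e := by
      rintro _ ⟨h, hh, n, hn, rfl⟩
      exact mul_mem (hGroup_le_borel he hh) (hNB hn)
    have hd : Disjoint A ((fun x => W he * x) '' A) := by
      rw [Set.disjoint_left]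
      rintro x hx ⟨x', hx', rfl⟩
      exact W_notMem_borel he ((Subgroup.mul_mem_cancel_right _ (hAB x' hx')).1 (hAB _ hx))
    have h1 : 2 * A.ncard ≤ 2 * Nat.card N := by
      refine le_trans ?_ (hleN (H e he u) fun h =>
        hu (H_injective he (h.trans (H_one he).symm)))
      rw [cnt, Nat.card_coe_set_eq]
      refine le_trans ?_ (Set.ncard_le_ncard hsub)
      rw [Set.ncard_union_eq hd, Set.ncard_image_of_injective _ (mul_right_injective _)]
      omega
    have h3 : (N : Set (Sz F e)) = A :=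
      Set.eq_of_subset_of_ncard_le (fun n hn => ⟨1, one_mem _, n, hn, (one_mul n).symm⟩)
        (by rw [← Nat.card_coe_set_eq (N : Set (Sz F e))]; exact Nat.le_of_mul_le_mul_left h1 two_pos)
        (Set.toFinite _)
    intro h hh
    show h ∈ (N : Set (Sz F e))
    rw [h3]
    exact ⟨h, hh, 1, one_mem _, (mul_one h).symm⟩
  have hconj : ∀ (t : Fˣ) a b, P he a b ∈ N →
      P he ((t : F) ^ e * a) ((t : F) ^ (e + 2) * b) ∈ N := fun t a b h => by
    rw [← H_conj_P]
    exact mul_mem (mul_mem (hHN (H_mem_hGroup he t)) h) (inv_mem (hHN (H_mem_hGroup he t)))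
  by_cases hZ : ∀ b, P he 0 b ∈ N → b = 0
  · left
    rw [← hNcard, ← card_hGroup he]
    congr 1
    rw [show N = hGroup he from ?_]
    refine le_antisymm (fun x hx => ?_) hHN
    obtain ⟨a, b, t, rfl⟩ := exists_borel_eq he x (hNB hx)
    have hP : P he a b ∈ N :=
      (Subgroup.mul_mem_cancel_right _ (hHN (H_mem_hGroup he t))).1 hx
    have hsq := mul_mem hP hP
    rw [P_mul, show a + a = 0 by linear_combination a * h2,
      show b + b + a ^ e * a = a ^ e * a by linear_combination b * h2] at hsq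
    have ha : a = 0 := by
      rcases mul_eq_zero.1 (hZ _ hsq) with h | h
      · exact pow_eq_zero_iff (Nat.ne_zero_of_lt he.one_lt) |>.1 h
      · exact h
    subst ha
    rw [hZ b hP, P_zero, one_mul]
    exact H_mem_hGroup he t
  push Not at hZ
  obtain ⟨b₀, hb₀, hb₀0⟩ := hZ
  have hZall : ∀ b, P he 0 b ∈ N := by
    intro b
    rcases eq_or_ne b 0 with rfl | hb
    · rw [P_zero]; exact one_mem _
    obtain ⟨t, ht⟩ := (units_pow_e2_bijective he).2 (Units.mk0 (b / b₀) (div_ne_zero hb hb₀0))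
    have ht' : (t : F) ^ (e + 2) = b / b₀ := by simpa using congrArg Units.val ht
    have := hconj t 0 b₀ hb₀
    rwa [mul_zero, ht', div_mul_cancel₀ _ hb₀0] at this
  by_cases hA : ∀ a b, P he a b ∈ N → a = 0
  · exfalso
    have h1 := cnt_involution_ge hp N _ (hinvol N)
    rw [hTcard, show Nat.card (bSet he N) = q by
      rw [← Nat.card_eq_fintype_card]
      exact Nat.card_congr (Equiv.subtypeUnivEquiv hZall)] at h1
    have h3 := h1.trans (hleN _ hne)
    have h4 : Nat.card N ≤ q * (q - 1) := by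
      rw [show q * (q - 1) = Nat.card (F × Fˣ) by
        rw [Nat.card_prod, Nat.card_eq_fintype_card, Nat.card_eq_fintype_card, Fintype.card_units]]
      refine Nat.card_le_card_of_surjective (fun x : F × Fˣ =>
        (⟨P he 0 x.1 * H e he x.2, mul_mem (hZall _) (hHN (H_mem_hGroup he _))⟩ : N)) fun x => ?_
      obtain ⟨a, b, t, hx⟩ := exists_borel_eq he x.1 (hNB x.2)
      have hP : P he a b ∈ N :=
        (Subgroup.mul_mem_cancel_right _ (hHN (H_mem_hGroup he t))).1 (hx ▸ x.2)
      exact ⟨(b, t), Subtype.ext (by rw [hx, hA a b hP])⟩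
    have h5 : q ^ 2 * (q - 1) ≤ 2 * (q * (q - 1)) := h3.trans (Nat.mul_le_mul_left 2 h4)
    obtain ⟨k, hk⟩ : ∃ k, q = k + 8 := ⟨_, (Nat.sub_add_cancel hq).symm⟩
    rw [hk, show k + 8 - 1 = k + 7 from rfl] at h5
    nlinarith
  · push Not at hA
    obtain ⟨a₀, b₁, hab, ha₀⟩ := hA
    refine Or.inr ⟨p⁻¹, le_antisymm hNB fun x hx => ?_⟩
    obtain ⟨a, b, t, rfl⟩ := exists_borel_eq he x hx
    refine mul_mem ?_ (hHN (H_mem_hGroup he t))
    rcases eq_or_ne a 0 with rfl | ha
    · exact hZall b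
    obtain ⟨s, hs⟩ := (units_pow_e_bijective he).2 (Units.mk0 (a / a₀) (div_ne_zero ha ha₀))
    have hs' : (s : F) ^ e = a / a₀ := by simpa using congrArg Units.val hs
    have h3 := mul_mem (hconj s a₀ b₁ hab) (hZall (b - (s : F) ^ (e + 2) * b₁))
    rw [hs', div_mul_cancel₀ _ ha₀, P_mul] at h3
    simp only [add_zero, mul_zero, add_sub_cancel] at h3
    exact h3

theorem stabilizer_cases {m : ℕ} (hm : 1 ≤ m) (hF : Fintype.card F = 2 ^ (2 * m + 1))
    (M : Subgroup (Sz F (2 ^ (m + 1))))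
    (hle : ∀ g : Sz F (2 ^ (m + 1)), g ≠ 1 → cnt M g ≤ 2 * Nat.card M)
    (hex : ∃ g : Sz F (2 ^ (m + 1)), g ≠ 1 ∧ cnt M g = 2 * Nat.card M) :
    Nat.card M = q - 1 ∨ ∃ g, conjSub g M = borel F (2 ^ (m + 1)) := by
  classical
  have hp := params_of_card hm hF
  have he := hp.twist
  have hq := hp.eight
  have hne : P he 0 1 ≠ 1 := fun h =>
    one_ne_zero (P_injective he (h.trans (P_zero he).symm)).2
  have hM1 : M ≠ ⊥ := by
    rintro rfl
    obtain ⟨g, hg, hc⟩ := hex
    have h0 : cnt (⊥ : Subgroup (Sz F (2 ^ (m + 1)))) g = 0 := by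
      rw [cnt, Nat.card_eq_zero]
      left
      rw [isEmpty_subtype]
      intro x hx
      rw [Set.mem_ofPred_eq, Subgroup.mem_bot] at hx
      exact hg (by simpa [mul_assoc] using congrArg (fun y => x * y * x⁻¹) hx)
    rw [h0, Subgroup.card_bot] at hc
    omega
  rcases subgroup_shape hp M with ⟨g, hg⟩ | ⟨x, hx1, hx2, hx3⟩ | ⟨K, hK8, g, hg⟩
  · have hc : Nat.card (conjSub g M) = Nat.card M :=
      Subgroup.card_map_of_injective (MulAut.conj g).injective
    have h1 : ∀ z : Sz F (2 ^ (m + 1)), z ≠ 1 →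
        cnt (conjSub g M) z ≤ 2 * Nat.card (conjSub g M) := by
      intro z hz
      obtain ⟨z, rfl⟩ := (MulAut.conj g).surjective z
      rw [cnt_map, hc]
      exact hle z fun h => hz (by rw [h, map_one])
    have h2 : conjSub g M ≠ ⊥ := fun h =>
      hM1 ((Subgroup.map_eq_bot_iff_of_injective _ (MulAut.conj g).injective).1 h)
    rcases borel_case hp (conjSub g M) hg h1 h2 with h | ⟨c, h⟩
    · exact Or.inl (hc ▸ h)
    · exact Or.inr ⟨c * g, by rw [← conjSub_conjSub, h]⟩
  · set U := Subgroup.centralizer {x} with hUdef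
    obtain ⟨-, hcU, hU⟩ := ((szPartition hp).cases x hx1).resolve_left hx2
    change ∀ y ∈ U, y ≠ 1 → Subgroup.centralizer {y} = U at hU
    obtain ⟨j, hj, hjN⟩ := centralizer_normalizer_card hp hx1 hx2
    have hoddU : ¬ 2 ∣ Nat.card U := (torus_orders hm (hF ▸ hcU)).2.1
    set N := Subgroup.normalizer (U : Set (Sz F (2 ^ (m + 1))))
    have : (U.subgroupOf N).Normal :=
      ⟨fun u hu g => (Subgroup.mem_normalizer_iff.1 g.2 u).1 hu⟩
    have hcardM : ∃ i, i ∣ j ∧ Nat.card M = i * Nat.card (U.subgroupOf M) := by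
      refine ⟨U.relIndex M, ?_, (U.subgroupOf M).index_mul_card.symm⟩
      rw [← Subgroup.relIndex_subgroupOf hx3]
      refine (Subgroup.relIndex_dvd_index_of_normal _ _).trans (dvd_of_eq ?_)
      have h1 := (U.subgroupOf N).index_mul_card
      rw [Nat.card_congr (Subgroup.subgroupOfEquivOfLe (Subgroup.le_normalizer (H := U))).toEquiv,
        hjN] at h1
      exact Nat.eq_of_mul_eq_mul_right Nat.card_pos h1
    obtain ⟨i, hi, hiM⟩ := hcardM
    have : Fact (Nat.Prime 2) := ⟨Nat.prime_two⟩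
    by_cases hev : 2 ∣ Nat.card M
    · exfalso
      obtain ⟨t, ht⟩ := exists_prime_orderOf_dvd_card' 2 hev
      have hto : orderOf (t : Sz F (2 ^ (m + 1))) = 2 := by rw [Subgroup.orderOf_coe, ht]
      have ht1 : (t : Sz F (2 ^ (m + 1))) ≠ 1 := fun h => by
        rw [h, orderOf_one] at hto; omega
      have ht2 : (t : Sz F (2 ^ (m + 1))) * t = 1 := by
        have h := pow_orderOf_eq_one (t : Sz F (2 ^ (m + 1)))
        rwa [hto, pow_two] at h
      have hti : (t : Sz F (2 ^ (m + 1)))⁻¹ = t := inv_eq_of_mul_eq_one_right ht2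
      have htU : (t : Sz F (2 ^ (m + 1))) ∉ U := fun h =>
        hoddU (by have h' := Subgroup.orderOf_dvd_natCard _ h; rwa [hto] at h')
      have hinv : ∀ v ∈ U, (t : Sz F (2 ^ (m + 1))) * v * (t : Sz F (2 ^ (m + 1))) = v⁻¹ := by
        intro v hv
        rcases eq_or_ne v 1 with rfl | hv1
        · rw [mul_one, ht2, inv_one]
        have hv' : (t : Sz F (2 ^ (m + 1))) * v * (t : Sz F (2 ^ (m + 1))) ∈ U := by
          have := (Subgroup.mem_normalizer_iff.1 (hx3 t.2) v).1 hv
          rwa [hti] at this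
        set w := v * ((t : Sz F (2 ^ (m + 1))) * v * t) with hw
        by_contra hne'
        have hw1 : w ≠ 1 := fun h => hne' (inv_eq_of_mul_eq_one_right h).symm
        have hwU : w ∈ U := mul_mem hv hv'
        refine htU ?_
        rw [← hU w hwU hw1, Subgroup.mem_centralizer_singleton_iff]
        have hcomm : v * ((t : Sz F (2 ^ (m + 1))) * v * t) = (t : Sz F (2 ^ (m + 1))) * v * t * v :=
          (Subgroup.mem_centralizer_singleton_iff.1 ((hU v hv hv1).symm ▸ hv')).symm
        conv_rhs => rw [hw, hcomm]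
        rw [hw]
        simp only [mul_assoc]
      have hTT := cnt_involution_ge hp M
        ((fun v => (t : Sz F (2 ^ (m + 1))) * v) '' ((U ⊓ M : Subgroup _) : Set _)) ?_
      · rw [Nat.card_image_of_injective (mul_right_injective _)] at hTT
        have hv : Nat.card (((U ⊓ M : Subgroup (Sz F (2 ^ (m + 1)))) :
            Set (Sz F (2 ^ (m + 1))))) =
            Nat.card (U.subgroupOf M) :=
          (Nat.card_congr (Subgroup.subgroupOfEquivOfLe
            (inf_le_right : U ⊓ M ≤ M)).toEquiv).symm.trans (by rw [Subgroup.inf_subgroupOf_right])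
        rw [hv] at hTT
        have h3 := hTT.trans (hle _ hne)
        rw [hiM, ← mul_assoc] at h3
        have h4 := Nat.le_of_mul_le_mul_right h3 Nat.card_pos
        have h5 : i ≤ 4 := (Nat.le_of_dvd (by omega) hi).trans (by omega)
        have h6 : 64 ≤ q ^ 2 := sq_le hp
        omega
      · rintro _ ⟨v, ⟨hvU, hvM⟩, rfl⟩
        refine ⟨mul_mem t.2 hvM, fun h => htU ?_, ?_⟩
        · rw [eq_inv_of_mul_eq_one_left h]; exact inv_mem hvU
        · show (t : Sz F (2 ^ (m + 1))) * v * (t * v) = 1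
          rw [← mul_assoc, hinv v hvU, inv_mul_cancel]
    · have hi1 : i = 1 := by
        have hio : ¬ 2 ∣ i := fun h => hev (hiM ▸ h.mul_right _)
        have hi4 : i ∣ 2 ^ 2 := hi.trans (by rcases hj with rfl | rfl | rfl <;> norm_num)
        obtain ⟨k, -, rfl⟩ := (Nat.dvd_prime_pow Nat.prime_two).1 hi4
        rcases Nat.eq_zero_or_pos k with rfl | hk
        · rfl
        · exact absurd (dvd_pow_self 2 hk.ne') hio
      have hMU : M ≤ U := by
        have h1 : U.subgroupOf M = ⊤ := Subgroup.eq_top_of_card_eq _ (by rw [hiM, hi1, one_mul])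
        exact Subgroup.subgroupOf_eq_top.1 h1
      obtain ⟨⟨t, htM⟩, ht1'⟩ := Subgroup.ne_bot_iff_exists_ne_one.1 hM1
      have ht1 : t ≠ 1 := fun h => ht1' (Subtype.ext h)
      have hUt := hU t (hMU htM) ht1
      have hsub : (U : Set (Sz F (2 ^ (m + 1)))) ⊆ {y | y⁻¹ * t * y ∈ M} := by
        intro y hy
        rw [Set.mem_ofPred_eq]
        rw [SetLike.mem_coe, ← hUt, Subgroup.mem_centralizer_singleton_iff] at hy
        rwa [mul_assoc, ← hy, inv_mul_cancel_left]
      have hUM : Nat.card U ≤ 2 * Nat.card M := by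
        refine le_trans ?_ (hle t ht1)
        exact Nat.card_mono (Set.toFinite _) hsub
      have hMUeq : M = U := by
        obtain ⟨c, hc⟩ := Subgroup.card_dvd_of_le hMU
        refine Subgroup.eq_of_le_of_card_ge hMU ?_
        have hM0 : 0 < Nat.card M := Nat.card_pos
        have hc2 : c ≤ 2 := Nat.le_of_mul_le_mul_left (by rw [← hc, mul_comm (Nat.card M) 2]; exact hUM) hM0
        have hU0 : 0 < Nat.card U := Nat.card_pos
        rcases (show c = 0 ∨ c = 1 ∨ c = 2 by omega) with rfl | rfl | rfl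
        · omega
        · omega
        · exact absurd (hc ▸ dvd_mul_left 2 _) hoddU
      rcases torus_card_cases hp hx1 hx2 with h | h
      · exact Or.inl (hMUeq ▸ h)
      · exfalso
        have hsub4 : (N : Set (Sz F (2 ^ (m + 1)))) ⊆ {y | y⁻¹ * t * y ∈ M} := by
          intro y hy
          rw [Set.mem_ofPred_eq, hMUeq]
          exact (Subgroup.mem_normalizer_iff''.1 hy t).1 (hMU htM)
        have h4 : Nat.card N ≤ 2 * Nat.card M :=
          le_trans (Nat.card_mono (Set.toFinite _) hsub4) (hle t ht1)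
        have h' : Nat.card N = 4 * Nat.card U := h
        rw [h', hMUeq] at h4
        have : 0 < Nat.card U := Nat.card_pos
        omega
  · exfalso
    obtain ⟨k, hk, hdvd⟩ := subfield_odd_power hF K
    have : Fintype K := Fintype.ofFinite K
    have hMc : Nat.card M =
        Nat.card K ^ 2 * (Nat.card K ^ 2 + 1) * (Nat.card K - 1) := by
      have hc : Nat.card (conjSub g M) = Nat.card M :=
        Subgroup.card_map_of_injective (MulAut.conj g).injective
      rw [← hc, hg, card_subHom_range, Nat.card_eq_fintype_card]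
    rcases Nat.lt_or_ge k m with hkm | hkm
    · have hdvd' := hdvd
      obtain ⟨j, hj⟩ := exists_eq_mul_of_dvd hdvd'
      have hj1 : 1 ≤ j := by
        rcases Nat.eq_zero_or_pos j with rfl | h
        · omega
        · exact h
      have hs3 : Nat.card K ^ 3 ≤ q := by
        rw [hk, hF, ← pow_mul]
        refine Nat.pow_le_pow_right two_pos ?_
        have := Nat.mul_le_mul_left (2 * k + 1) hj1
        omega
      obtain ⟨z, hz, hz1, hz2⟩ : ∃ z ∈ M, z ≠ 1 ∧ z * z = 1 := by
        have : Fact (Nat.Prime 2) := ⟨Nat.prime_two⟩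
        obtain ⟨z, hz⟩ := exists_prime_orderOf_dvd_card' (G := M) 2
          (by
            have h2K : 2 ∣ Nat.card K := by rw [hk]; exact dvd_pow_self 2 (by omega)
            rw [hMc]
            exact ((h2K.trans (dvd_pow_self _ two_ne_zero)).mul_right _).mul_right _)
        have hzo : orderOf (z : Sz F (2 ^ (m + 1))) = 2 := by rw [Subgroup.orderOf_coe, hz]
        exact ⟨z, z.2, fun h => by rw [h, orderOf_one] at hzo; omega,
          by
            have h := pow_orderOf_eq_one (z : Sz F (2 ^ (m + 1)))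
            rwa [hzo, pow_two] at h⟩
      have h1 := cnt_involution_ge hp M {z} (fun y hy => hy.symm ▸ ⟨hz, hz1, hz2⟩)
      rw [Nat.card_coe_set_eq, Set.ncard_singleton, mul_one] at h1
      have h3 := h1.trans (hle _ hne)
      rw [hMc] at h3
      obtain ⟨s, hs⟩ : ∃ s, Nat.card K = s + 8 := ⟨_, (Nat.sub_add_cancel hK8).symm⟩
      rw [hs] at h3 hs3
      rw [show s + 8 - 1 = s + 7 from rfl] at h3
      have h4 := Nat.pow_le_pow_left hs3 2
      have h5 : (s + 8) ^ 2 * ((s + 8) ^ 2 + 1) * (s + 7) ≤ (s + 8) ^ 5 + (s + 8) ^ 3 := by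
        have := Nat.mul_le_mul_left ((s + 8) ^ 2 * ((s + 8) ^ 2 + 1)) (show s + 7 ≤ s + 8 by omega)
        linarith
      have h6 : (s + 8) ^ 3 ≤ (s + 8) ^ 5 := Nat.pow_le_pow_right (by omega) (by omega)
      have h7 := Nat.mul_le_mul_right ((s + 8) ^ 5) (show 8 ≤ s + 8 by omega)
      have h8 : 0 < (s + 8) ^ 5 := by positivity
      linarith
    · obtain rfl : k = m := le_antisymm
        (by have := Nat.le_of_dvd (by omega) hdvd; omega) hkm
      have htop : M = ⊤ := Subgroup.eq_top_of_card_eq _ (by rw [hMc, card_eq hp, hk, hF])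
      obtain ⟨z, -, hz⟩ := hex
      rw [htop, Subgroup.card_top] at hz
      have h1 : cnt (⊤ : Subgroup (Sz F (2 ^ (k + 1)))) z ≤ Nat.card (Sz F (2 ^ (k + 1))) :=
        Nat.card_le_card_of_injective _ Subtype.val_injective
      have : 0 < Nat.card (Sz F (2 ^ (k + 1))) := Nat.card_pos
      omega

end CfsgLib.KnownB.Suzuki
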