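import Cfsg.Agent.Lib.KnownB.SuzukiGroup
import Cfsg.Prelude.Def_LieExceptional

set_option autoImplicit false

/-!
`Cfsg.Lie.Sz F (2 ^ (m+1))` is isomorphic to the stabiliser `Cfsg.Sz F m` of the Suzuki-Tits ovoid.
-/

namespace CfsgLib.KnownB.Suzuki

open Matrix Cfsg.Lie CfsgLib.KnownB.SzElem Polynomial
open scoped Pointwise

variable {F : Type*} [Field F] {e : ℕ}

/-- The first column. -/
def col0 (g : Sz F e) : Fin 4 → F := mat g *ᵥ Pi.single 0 1

lemma col0_apply (g : Sz F e) (i : Fin 4) : col0 g i = mat g i 0 := by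
  simp [col0, mulVec_single_one]

lemma col0_mul (g h : Sz F e) : col0 (g * h) = mat g *ᵥ col0 h := by
  rw [col0, col0, mat_mul, mulVec_mulVec]

lemma col0_ne_zero (g : Sz F e) : col0 g ≠ 0 := by
  intro h
  have h1 : mat g⁻¹ *ᵥ col0 g = 0 := by rw [h, mulVec_zero]
  rw [← col0_mul, inv_mul_cancel] at h1
  simpa [col0_apply, mat] using congrFun h1 0

/-- The point of an element. -/
def pt (g : Sz F e) : Projectivization F (Fin 4 → F) :=
  Projectivization.mk F (col0 g) (col0_ne_zero g)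

lemma pt_eq_iff (g h : Sz F e) : pt g = pt h ↔ g⁻¹ * h ∈ borel F e := by
  rw [pt, pt, Projectivization.mk_eq_mk_iff', mem_borel, ← col0_apply, ← col0_apply, ← col0_apply,
    col0_mul]
  constructor
  · rintro ⟨c, hc⟩
    have hc0 : c ≠ 0 := by
      rintro rfl
      exact col0_ne_zero g (by rw [← hc, zero_smul])
    have h2 : mat g⁻¹ *ᵥ col0 h = c⁻¹ • col0 (1 : Sz F e) := by
      rw [show col0 h = c⁻¹ • col0 g by rw [← hc, inv_smul_smul₀ hc0], mulVec_smul, ← col0_mul,
        inv_mul_cancel]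
    rw [h2]
    simp [col0_apply, mat]
  · rintro ⟨h1, h2, h3⟩
    have h4 : mat g⁻¹ *ᵥ col0 h = (mat g⁻¹ *ᵥ col0 h) 0 • col0 (1 : Sz F e) := by
      funext i
      fin_cases i <;> simp_all [col0_apply, mat]
    set c := (mat g⁻¹ *ᵥ col0 h) 0
    have h5 := congrArg (fun v => mat g *ᵥ v) h4
    simp only [mulVec_smul, ← col0_mul, mul_one, mul_inv_cancel_left] at h5
    have hc0 : c ≠ 0 := by
      intro hc
      exact col0_ne_zero h (by rw [h5, hc, zero_smul])
    exact ⟨c⁻¹, by rw [h5, inv_smul_smul₀ hc0]⟩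

/-- The point of a coset. -/
def ptQ (F : Type*) [Field F] (e : ℕ) : Sz F e ⧸ borel F e → Projectivization F (Fin 4 → F) :=
  Quotient.lift pt fun g h hgh => (pt_eq_iff g h).2 (QuotientGroup.leftRel_apply.1 hgh)

lemma ptQ_mk (g : Sz F e) : ptQ F e (QuotientGroup.mk g) = pt g := rfl

lemma ptQ_injective : Function.Injective (ptQ F e) := by
  intro a b
  induction a using QuotientGroup.induction_on with | _ g =>
  induction b using QuotientGroup.induction_on with | _ h =>
  intro hgh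
  exact QuotientGroup.eq.2 ((pt_eq_iff g h).1 hgh)

lemma col0_P_W (he : Twist F e) (x y : F) : col0 (P he x y * W he) = ![nrm e x y, y, x, 1] := by
  funext i
  rw [col0_apply, mat_mul, mat_P, mat_W]
  fin_cases i <;> simp [Pmat, Jmat, Matrix.mul_apply, Fin.sum_univ_four]

lemma col0_one : col0 (1 : Sz F e) = ![1, 0, 0, 0] := by
  funext i
  rw [col0_apply]
  fin_cases i <;> simp [mat]

lemma det_eq_one (he : Twist F e) (g : Sz F e) : (mat g).det = 1 := by
  let φ : Sz F e →* Fˣ := Matrix.GeneralLinearGroup.det.comp (Sz F e).subtype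
  have key : ∀ x : Sz F e, (mat x).det = 1 → x ∈ φ.ker := fun x hx =>
    MonoidHom.mem_ker.2 (Units.ext hx)
  have htop : φ.ker = ⊤ := by
    refine closure_gen he _ (fun a b => key _ ?_) (fun t => key _ ?_) (key _ ?_)
    · simp [mat_P, Pmat, Matrix.det_succ_row_zero, Fin.sum_univ_succ, Fin.succAbove]
    · have ht := t.ne_zero
      simp [mat, coe_H, Hmat, Matrix.det_diagonal, Fin.prod_univ_four]
    · have h2 := he.two
      simp [mat_W, Jmat, Matrix.det_succ_row_zero, Fin.sum_univ_succ, Fin.succAbove]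
      try grind
  have h : g ∈ φ.ker := htop ▸ Subgroup.mem_top g
  exact congrArg Units.val (MonoidHom.mem_ker.1 h)

/-- The inclusion in the special linear group. -/
def toSL (he : Twist F e) : Sz F e →* Matrix.SpecialLinearGroup (Fin 4) F where
  toFun g := ⟨mat g, det_eq_one he g⟩
  map_one' := Subtype.ext rfl
  map_mul' _ _ := Subtype.ext rfl

lemma toSL_injective (he : Twist F e) : Function.Injective (toSL he) := fun _ _ h =>
  mat_injective (congrArg Subtype.val h)

lemma toSL_smul_ptQ (he : Twist F e) (g : Sz F e) (x : Sz F e ⧸ borel F e) :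
    toSL he g • ptQ F e x = ptQ F e (g • x) := by
  induction x using QuotientGroup.induction_on with | _ h =>
  rw [MulAction.Quotient.smul_mk, ptQ_mk, ptQ_mk, pt, pt, Projectivization.smul_mk]
  simp only [smul_eq_mul, col0_mul]
  rfl

lemma range_ptQ {m : ℕ} (he : Twist F (2 ^ (m + 1))) :
    Set.range (ptQ F (2 ^ (m + 1))) = Cfsg.suzukiOvoid F m := by
  ext p
  constructor
  · rintro ⟨x, rfl⟩
    obtain ⟨o, rfl⟩ := (cosetRep_bijective he).2 x
    refine ⟨col0 (cosetRep he o), col0_ne_zero _, rfl, ?_⟩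
    match o with
    | none => exact Or.inl col0_one
    | some (x, y) =>
      right
      exact ⟨x, y, by simp only [cosetRep, col0_P_W, nrm]; congr 1 <;> ring⟩
  · rintro ⟨v, hv, rfl, h | ⟨x, y, h⟩⟩
    · refine ⟨QuotientGroup.mk 1, ?_⟩
      rw [ptQ_mk, pt]
      congr 1
      rw [col0_one, h]
    · refine ⟨QuotientGroup.mk (P he x y * W he), ?_⟩
      rw [ptQ_mk, pt]
      congr 1
      rw [col0_P_W, h, nrm]
      congr 1 <;> ring

variable [Finite F]

omit [Finite F] in
lemma mem_stabilizer {m : ℕ} (he : Twist F (2 ^ (m + 1))) (g : Sz F (2 ^ (m + 1))) :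
    toSL he g ∈ Cfsg.Sz F m := by
  rw [MulAction.mem_stabilizer_iff, ← range_ptQ he]
  ext p
  constructor
  · rintro ⟨_, ⟨x, rfl⟩, rfl⟩
    exact ⟨g • x, (toSL_smul_ptQ he g x).symm⟩
  · rintro ⟨x, rfl⟩
    refine ⟨ptQ F _ (g⁻¹ • x), ⟨_, rfl⟩, ?_⟩
    simp only
    rw [toSL_smul_ptQ, smul_inv_smul]

/-- A polynomial identity on a large field. -/
lemma coeffs_eq_zero (he4 : 4 ≤ e) (hq : e + 2 < Nat.card F) (a b c d : F)
    (h : ∀ y : F, a * y ^ (e + 2) + b * y ^ e + c * y ^ 2 + d * y = 0) :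
    a = 0 ∧ b = 0 ∧ c = 0 ∧ d = 0 := by
  cases nonempty_fintype F
  set p : F[X] := C a * X ^ (e + 2) + C b * X ^ e + C c * X ^ 2 + C d * X ^ 1 with hp
  have hdeg : p.natDegree ≤ e + 2 := by
    rw [hp]
    refine natDegree_add_le_of_degree_le (natDegree_add_le_of_degree_le
      (natDegree_add_le_of_degree_le ?_ ?_) ?_) ?_ <;>
      refine (natDegree_C_mul_X_pow_le _ _).trans ?_ <;> omega
  have h0 : p = 0 := eq_zero_of_natDegree_lt_card_of_eval_eq_zero' p Finset.univ
    (fun y _ => by simpa [hp] using h y)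
    (by rw [Finset.card_univ, ← Nat.card_eq_fintype_card]; omega)
  refine ⟨?_, ?_, ?_, ?_⟩
  · have := congrArg (fun q => q.coeff (e + 2)) h0
    simpa [hp, coeff_C_mul_X_pow, show e + 2 ≠ e by omega, show e + 2 ≠ 2 by omega,
      show e + 2 ≠ 1 by omega, coeff_X, coeff_C, show 1 ≠ e + 2 by omega, show e ≠ 0 by omega] using this
  · have := congrArg (fun q => q.coeff e) h0
    simpa [hp, coeff_C_mul_X_pow, show e ≠ e + 2 by omega, show e ≠ 2 by omega,
      show e ≠ 1 by omega, coeff_X, coeff_C, show e ≠ 0 by omega, show 1 ≠ e by omega] using this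
  · have := congrArg (fun q => q.coeff 2) h0
    simpa [hp, coeff_C_mul_X_pow, show 2 ≠ e + 2 by omega, show 2 ≠ e by omega, coeff_X,
      show e ≠ 0 by omega, show e ≠ 2 by omega] using this
  · have := congrArg (fun q => q.coeff 1) h0
    simpa [hp, coeff_C_mul_X_pow, show 1 ≠ e + 2 by omega, show 1 ≠ e by omega, coeff_X] using this

theorem eq_toSL_of_fix {m : ℕ} (he : Twist F (2 ^ (m + 1))) (hm : 1 ≤ m)
    (hq : 2 ^ (m + 1) + 2 < Nat.card F) (g : Matrix.SpecialLinearGroup (Fin 4) F)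
    (hg : g ∈ Cfsg.Sz F m) (h1 : g • pt (1 : Sz F (2 ^ (m + 1))) = pt (1 : Sz F (2 ^ (m + 1))))
    (h2 : g • pt (W he) = pt (W he)) : ∃ t, g = toSL he (H _ he t) := by
  set e := 2 ^ (m + 1) with he0
  have he4 : 4 ≤ e := (Nat.pow_le_pow_right two_pos (by omega : 2 ≤ m + 1)).trans' (by norm_num)
  have htwo := he.two
  have h0e : (0 : F) ^ e = 0 := zero_pow (by omega)
  set A : Matrix (Fin 4) (Fin 4) F := g.1 with hA
  have hsm : ∀ v : Fin 4 → F, g • v = A *ᵥ v := fun v => rfl
  rw [pt, Projectivization.smul_mk, Projectivization.mk_eq_mk_iff'] at h1 h2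
  obtain ⟨l, hl⟩ := h1
  obtain ⟨μ, hμ⟩ := h2
  rw [hsm, col0_one] at hl
  rw [hsm, show W he = P he 0 0 * W he by rw [P_zero, one_mul], col0_P_W] at hμ
  have a00 : A 0 0 = l := by simpa [Matrix.mulVec, dotProduct, Fin.sum_univ_four] using (congrFun hl 0).symm
  have a10 : A 1 0 = 0 := by simpa [Matrix.mulVec, dotProduct, Fin.sum_univ_four] using (congrFun hl 1).symm
  have a20 : A 2 0 = 0 := by simpa [Matrix.mulVec, dotProduct, Fin.sum_univ_four] using (congrFun hl 2).symm
  have a30 : A 3 0 = 0 := by simpa [Matrix.mulVec, dotProduct, Fin.sum_univ_four] using (congrFun hl 3).symm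
  have a03 : A 0 3 = 0 := by
    simpa [Matrix.mulVec, dotProduct, Fin.sum_univ_four, nrm, h0e] using (congrFun hμ 0).symm
  have a13 : A 1 3 = 0 := by
    simpa [Matrix.mulVec, dotProduct, Fin.sum_univ_four, nrm, h0e] using (congrFun hμ 1).symm
  have a23 : A 2 3 = 0 := by
    simpa [Matrix.mulVec, dotProduct, Fin.sum_univ_four, nrm, h0e] using (congrFun hμ 2).symm
  have a33 : A 3 3 = μ := by
    simpa [Matrix.mulVec, dotProduct, Fin.sum_univ_four, nrm, h0e] using (congrFun hμ 3).symm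
  have hdet : A.det = 1 := g.2
  have hl0 : l ≠ 0 := by
    intro h
    rw [det_eq_zero_of_column_eq_zero 0 (fun i => by fin_cases i <;> simp [a00, a10, a20, a30, h])] at hdet
    exact zero_ne_one hdet
  have hμ0 : μ ≠ 0 := by
    intro h
    rw [det_eq_zero_of_column_eq_zero 3 (fun i => by fin_cases i <;> simp [a03, a13, a23, a33, h])] at hdet
    exact zero_ne_one hdet
  -- images of the affine points
  have himg : ∀ x y : F, ∃ (c X Y : F), c ≠ 0 ∧
      A *ᵥ ![nrm e x y, y, x, 1] = c • ![nrm e X Y, Y, X, 1] := by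
    intro x y
    have hmem : g • pt (P he x y * W he) ∈ Cfsg.suzukiOvoid F m := by
      rw [← MulAction.mem_stabilizer_iff.1 hg]
      refine Set.smul_mem_smul_set ?_
      rw [← range_ptQ he]
      exact ⟨QuotientGroup.mk _, rfl⟩
    rw [← range_ptQ he] at hmem
    obtain ⟨z, hz⟩ := hmem
    obtain ⟨o, rfl⟩ := (cosetRep_bijective he).2 z
    rw [ptQ_mk, pt, pt, Projectivization.smul_mk, Projectivization.mk_eq_mk_iff'] at hz
    obtain ⟨c, hc⟩ := hz
    rw [hsm, col0_P_W] at hc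
    match o with
    | none =>
      exfalso
      simp only [cosetRep, col0_one] at hc
      have hcl : A *ᵥ (c • ![nrm e x y, y, x, 1]) = A *ᵥ (l⁻¹ • ![1, 0, 0, 0]) := by
        rw [mulVec_smul, hc, mulVec_smul, ← hl, inv_smul_smul₀ hl0]
      have hinj : Function.Injective A.mulVec :=
        Matrix.mulVec_injective_iff_isUnit.2 ((Matrix.isUnit_iff_isUnit_det A).2 (by rw [hdet]; exact isUnit_one))
      have h3 := congrFun (hinj hcl) 3
      simp at h3
      rw [h3, zero_smul] at hc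
      simpa using congrFun hc 0
    | some (X, Y) =>
      simp only [cosetRep, col0_P_W] at hc
      have hc0 : c ≠ 0 := by
        rintro rfl
        rw [zero_smul] at hc
        simpa using congrFun hc 3
      refine ⟨c⁻¹, X, Y, inv_ne_zero hc0, ?_⟩
      rw [← hc, inv_smul_smul₀ hc0]
  -- the last row
  have hrow : ∀ x y : F, μ + A 3 1 * y + A 3 2 * x ≠ 0 := by
    intro x y h
    obtain ⟨c, X, Y, hc, heq⟩ := himg x y
    have h3 := congrFun heq 3
    simp [Matrix.mulVec, dotProduct, Fin.sum_univ_four, a30, a33] at h3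
    exact hc (by linear_combination h - h3)
  have a31 : A 3 1 = 0 := by
    by_contra h
    exact hrow 0 (-μ / A 3 1) (by field_simp; ring)
  have a32 : A 3 2 = 0 := by
    by_contra h
    exact hrow (-μ / A 3 2) 0 (by field_simp; ring)
  -- the norm identity
  have hid : ∀ x y : F, l * nrm e x y + A 0 1 * y + A 0 2 * x =
      μ * nrm e ((A 2 1 * y + A 2 2 * x) / μ) ((A 1 1 * y + A 1 2 * x) / μ) := by
    intro x y
    obtain ⟨c, X, Y, hc, heq⟩ := himg x y
    have e0 := congrFun heq 0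
    have e1 := congrFun heq 1
    have e2 := congrFun heq 2
    have e3 := congrFun heq 3
    simp [Matrix.mulVec, dotProduct, Fin.sum_univ_four, a00, a10, a20, a30, a03, a13, a23, a33, a31,
      a32] at e0 e1 e2 e3
    subst e3
    have hX : X = (A 2 1 * y + A 2 2 * x) / μ := by rw [e2]; field_simp
    have hY : Y = (A 1 1 * y + A 1 2 * x) / μ := by rw [e1]; field_simp
    rw [← hX, ← hY]
    linear_combination e0
  set a := A 2 1 / μ with ha
  set b := A 1 1 / μ with hb
  set a' := A 2 2 / μ with ha'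
  set b' := A 1 2 / μ with hb'
  have hid' : ∀ x y : F, l / μ * nrm e x y + A 0 1 / μ * y + A 0 2 / μ * x =
      nrm e (a * y + a' * x) (b * y + b' * x) := by
    intro x y
    have h := hid x y
    rw [show a * y + a' * x = (A 2 1 * y + A 2 2 * x) / μ by simp only [ha, ha']; ring,
      show b * y + b' * x = (A 1 1 * y + A 1 2 * x) / μ by simp only [hb, hb']; ring]
    apply mul_left_cancel₀ hμ0
    rw [← h]
    field_simp
  obtain ⟨c1, c2, c3, c4⟩ := coeffs_eq_zero he4 hq (a ^ (e + 2)) (b ^ e - l / μ) (a * b)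
    (-(A 0 1 / μ)) (fun y => by
      have h := hid' 0 y
      simp [nrm, mul_pow, zero_pow (show e ≠ 0 by omega), zero_pow (show e + 2 ≠ 0 by omega)] at h
      linear_combination -h)
  obtain ⟨d1, d2, d3, d4⟩ := coeffs_eq_zero he4 hq (a' ^ (e + 2) - l / μ) (b' ^ e) (a' * b')
    (-(A 0 2 / μ)) (fun x => by
      have h := hid' x 0
      simp [nrm, mul_pow, zero_pow (show e ≠ 0 by omega), zero_pow (show e + 2 ≠ 0 by omega)] at h
      linear_combination -h)
  have a0 : a = 0 := (pow_eq_zero_iff (by omega)).1 c1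
  have b0 : b' = 0 := (pow_eq_zero_iff (by omega)).1 d2
  have hb1 : b ^ e = l / μ := sub_eq_zero.1 c2
  have ha1 : a' ^ (e + 2) = l / μ := sub_eq_zero.1 d1
  have a21 : A 2 1 = 0 := by simpa [ha, hμ0] using a0
  have a12 : A 1 2 = 0 := by simpa [hb', hμ0] using b0
  have a01 : A 0 1 = 0 := by simpa [hμ0] using c4
  have a02 : A 0 2 = 0 := by simpa [hμ0] using d4
  have hab : a' * b = l / μ := by
    have h := hid' 1 1
    rw [a01, a02, a0, b0] at h
    simp [nrm] at h
    linear_combination -h - ha1 - hb1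
  have ha'0 : a' ≠ 0 := fun h => div_ne_zero hl0 hμ0 (by rw [← hab, h, zero_mul])
  obtain ⟨t, ht⟩ := (units_pow_e_bijective he).2 (Units.mk0 a' ha'0)
  have ht' : (t : F) ^ e = a' := by simpa using congrArg Units.val ht
  have htn := t.ne_zero
  have hpp := he.pow_pow (t : F)
  have hlμ : l / μ = (t : F) ^ (e + 1) * (t : F) ^ (e + 1) := by
    rw [← ha1, ← ht', pow_add _ e 2, hpp]; ring
  have hbt : b = (t : F) ^ (e + 1) * t := by
    apply mul_left_cancel₀ ha'0
    rw [hab, hlμ, ← ht']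
    ring
  have hμt : μ = ((t : F) ^ (e + 1))⁻¹ := by
    have hdiag : A = diagonal ![l, A 1 1, A 2 2, μ] := by
      ext i j
      fin_cases i <;> fin_cases j <;>
        simp [a00, a10, a20, a30, a03, a13, a23, a33, a31, a32, a21, a12, a01, a02]
    rw [hdiag, det_diagonal] at hdet
    simp [Fin.prod_univ_four] at hdet
    have e1 : A 1 1 = μ * ((t : F) ^ (e + 1) * t) := by rw [← hbt, hb]; field_simp
    have e2 : A 2 2 = μ * (t : F) ^ e := by rw [ht', ha']; field_simp
    have e3 : l = μ * ((t : F) ^ (e + 1) * (t : F) ^ (e + 1)) := by rw [← hlμ]; field_simp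
    rw [e1, e2, e3] at hdet
    have h4 : ((μ * (t : F) ^ (e + 1)) ^ 2) ^ 2 = 1 ^ 2 := by
      rw [one_pow]
      linear_combination hdet
    have h5 : (μ * (t : F) ^ (e + 1)) ^ 2 = 1 ^ 2 := by rw [sq_inj he h4, one_pow]
    exact eq_inv_of_mul_eq_one_left (sq_inj he h5)
  refine ⟨t, Subtype.ext ?_⟩
  show A = Hmat e (t : F)
  have e11 : A 1 1 = (t : F) := by
    have : A 1 1 = μ * b := by rw [hb]; field_simp
    rw [this, hbt, hμt]; field_simp
  have e22 : A 2 2 = (t : F)⁻¹ := by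
    have : A 2 2 = μ * a' := by rw [ha']; field_simp
    rw [this, ← ht', hμt]; field_simp; ring
  have e00 : A 0 0 = (t : F) ^ (e + 1) := by
    rw [a00, show l = μ * (l / μ) by field_simp, hlμ, hμt]; field_simp
  ext i j
  fin_cases i <;> fin_cases j <;>
    simp [Hmat, e00, e11, e22, hμt, a10, a20, a30, a03, a13, a23, a33, a31, a32, a21, a12, a01, a02]

/-- The isomorphism with the stabiliser of the ovoid. -/
theorem exists_equiv {m : ℕ} (he : Twist F (2 ^ (m + 1))) (hm : 1 ≤ m)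
    (hq : 2 ^ (m + 1) + 2 < Nat.card F) :
    ∃ φ : Sz F (2 ^ (m + 1)) ≃* Cfsg.Sz F m, ∀ g, (φ g : Matrix.SpecialLinearGroup (Fin 4) F) = toSL he g := by
  let ψ : Sz F (2 ^ (m + 1)) →* Cfsg.Sz F m := (toSL he).codRestrict _ (mem_stabilizer he)
  refine ⟨MulEquiv.ofBijective ψ ⟨fun a b h => toSL_injective he (congrArg Subtype.val h), ?_⟩,
    fun g => rfl⟩
  rintro ⟨g, hg⟩
  have hpt : ∀ x, ∃ y, g • ptQ F (2 ^ (m + 1)) x = ptQ F (2 ^ (m + 1)) y := by
    intro x
    have hx : g • ptQ F (2 ^ (m + 1)) x ∈ Cfsg.suzukiOvoid F m := by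
      rw [← MulAction.mem_stabilizer_iff.1 hg]
      exact Set.smul_mem_smul_set (by rw [← range_ptQ he]; exact ⟨x, rfl⟩)
    rw [← range_ptQ he] at hx
    obtain ⟨y, hy⟩ := hx
    exact ⟨y, hy.symm⟩
  obtain ⟨y1, hy1⟩ := hpt (QuotientGroup.mk 1)
  obtain ⟨y2, hy2⟩ := hpt (QuotientGroup.mk (W he))
  have hne : (QuotientGroup.mk 1 : Sz F (2 ^ (m + 1)) ⧸ borel F _) ≠ QuotientGroup.mk (W he) := by
    intro h
    exact W_notMem_borel he (by simpa using QuotientGroup.eq.1 h)
  have hy : y1 ≠ y2 := fun h => hne (ptQ_injective (MulAction.injective g (show g • _ = g • _ by rw [hy1, hy2, h])))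
  have h2t := two_pretransitive (F := F) he
  rw [MulAction.is_two_pretransitive_iff] at h2t
  obtain ⟨h, hh1, hh2⟩ := h2t hy hne
  obtain ⟨t, ht⟩ := eq_toSL_of_fix he hm hq (toSL he h * g)
    (mul_mem (mem_stabilizer he h) hg)
    (by rw [mul_smul, ← ptQ_mk, hy1, toSL_smul_ptQ, hh1])
    (by rw [mul_smul, ← ptQ_mk, hy2, toSL_smul_ptQ, hh2])
  refine ⟨h⁻¹ * H _ he t, Subtype.ext ?_⟩
  show toSL he (h⁻¹ * H _ he t) = g
  rw [map_mul, map_inv, ← ht, inv_mul_cancel_left]

theorem exists_equiv_of_card [Fintype F] {m : ℕ} (hm : 1 ≤ m)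
    (hF : Fintype.card F = 2 ^ (2 * m + 1)) :
    ∃ (he : Twist F (2 ^ (m + 1))) (φ : Sz F (2 ^ (m + 1)) ≃* Cfsg.Sz F m),
      ∀ g, (φ g : Matrix.SpecialLinearGroup (Fin 4) F) = toSL he g := by
  refine ⟨twist_of_card hF, exists_equiv _ hm ?_⟩
  rw [Nat.card_eq_fintype_card, hF]
  have h1 : 2 ^ (m + 2) ≤ 2 ^ (2 * m + 1) := Nat.pow_le_pow_right two_pos (by omega)
  have h2 : 2 ^ (m + 2) = 2 ^ (m + 1) * 2 := pow_succ 2 (m + 1)
  have h3 : 2 ^ 2 ≤ 2 ^ (m + 1) := Nat.pow_le_pow_right two_pos (by omega)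
  omega

end CfsgLib.KnownB.Suzuki
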