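import Cfsg.Agent.Lib.KnownB.SzSubgroupCount
import Cfsg.Agent.Lib.KnownB.SuzukiStructure
import Cfsg.Agent.Lib.KnownB.SuzukiCentreTI

set_option autoImplicit false

/-!
The subgroups of the Suzuki group: each is in a conjugate of the Borel subgroup, in the
normaliser of a cyclic torus, or is conjugate to a subfield Suzuki group.
-/

namespace CfsgLib.KnownB.Suzuki

open Cfsg.Lie CfsgLib.KnownB.SzElem CfsgLib.KnownB.TICount
open scoped Pointwise

variable {F : Type*} [Field F] {e : ℕ}

section Subfield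

variable {K : Type*} [Field K]

lemma twist_comap (ι : K →+* F) (he : Twist F e) : Twist K e where
  two := ι.injective (by rw [map_ofNat, map_zero]; exact he.two)
  add_pow x y := ι.injective (by simp [he.add_pow])
  pow_pow x := ι.injective (by simp [he.pow_pow])
  one_lt := he.one_lt

/-- The homomorphism of general linear groups induced by a field embedding. -/
noncomputable def glHom (ι : K →+* F) : GL (Fin 4) K →* GL (Fin 4) F :=
  Units.map (ι.mapMatrix (m := Fin 4)).toMonoidHom

lemma coe_glHom (ι : K →+* F) (g : GL (Fin 4) K) :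
    (glHom ι g : Matrix (Fin 4) (Fin 4) F) = (g : Matrix (Fin 4) (Fin 4) K).map ι := rfl

lemma glHom_mem (ι : K →+* F) (he : Twist F e) (g : Sz K e) :
    glHom ι (g : GL (Fin 4) K) ∈ Sz F e := by
  suffices h : (Sz F e).comap ((glHom ι).comp (Sz K e).subtype) = ⊤ from
    (h ▸ Subgroup.mem_top g : g ∈ (Sz F e).comap ((glHom ι).comp (Sz K e).subtype))
  have hk := twist_comap ι he
  refine closure_gen hk _ (fun a b => ?_) (fun t => ?_) ?_
  · have : glHom ι (P hk a b : GL (Fin 4) K) = (P he (ι a) (ι b) : GL (Fin 4) F) := by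
      refine Units.ext ?_
      rw [coe_glHom]
      show (Pmat e a b).map ι = Pmat e (ι a) (ι b)
      ext i j
      fin_cases i <;> fin_cases j <;> simp [Pmat, nrm]
    exact (show glHom ι (P hk a b : GL (Fin 4) K) ∈ Sz F e from this ▸ (P he _ _).2)
  · have : glHom ι (H e hk t : GL (Fin 4) K) =
        (H e he (Units.map ι.toMonoidHom t) : GL (Fin 4) F) := by
      refine Units.ext ?_
      rw [coe_glHom, coe_H, coe_H]
      ext i j
      fin_cases i <;> fin_cases j <;> simp [Hmat]
    exact (show glHom ι (H e hk t : GL (Fin 4) K) ∈ Sz F e from this ▸ (H e he _).2)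
  · have : glHom ι (W hk : GL (Fin 4) K) = (W he : GL (Fin 4) F) := by
      refine Units.ext ?_
      rw [coe_glHom]
      show (Jmat : Matrix (Fin 4) (Fin 4) K).map ι = Jmat
      ext i j
      fin_cases i <;> fin_cases j <;> simp [Jmat]
    exact (show glHom ι (W hk : GL (Fin 4) K) ∈ Sz F e from this ▸ (W he).2)

/-- The embedding of the Suzuki group over a subfield. -/
noncomputable def subHom (ι : K →+* F) (he : Twist F e) : Sz K e →* Sz F e :=
  ((glHom ι).comp (Sz K e).subtype).codRestrict (Sz F e) (glHom_mem ι he)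

lemma mat_subHom (ι : K →+* F) (he : Twist F e) (g : Sz K e) :
    mat (subHom ι he g) = (mat g).map ι := rfl

lemma subHom_injective (ι : K →+* F) (he : Twist F e) : Function.Injective (subHom ι he) := by
  intro g h hgh
  refine mat_injective ?_
  have := congrArg mat hgh
  rw [mat_subHom, mat_subHom] at this
  ext i j
  exact ι.injective (congrFun (congrFun this i) j)

lemma subHom_P (ι : K →+* F) (he : Twist F e) (a b : K) :
    subHom ι he (P (twist_comap ι he) a b) = P he (ι a) (ι b) := by
  refine mat_injective ?_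
  rw [mat_subHom, mat_P, mat_P]
  ext i j
  fin_cases i <;> fin_cases j <;> simp [Pmat, nrm]

lemma subHom_H (ι : K →+* F) (he : Twist F e) (t : Kˣ) :
    subHom ι he (H e (twist_comap ι he) t) = H e he (Units.map ι.toMonoidHom t) := by
  refine mat_injective ?_
  rw [mat_subHom]
  ext i j
  fin_cases i <;> fin_cases j <;> simp [mat, coe_H, Hmat]

lemma subHom_W (ι : K →+* F) (he : Twist F e) :
    subHom ι he (W (twist_comap ι he)) = W he := by
  refine mat_injective ?_
  rw [mat_subHom, mat_W, mat_W]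
  ext i j
  fin_cases i <;> fin_cases j <;> simp [Jmat]

end Subfield

variable [Fintype F]

local notation "q" => Fintype.card F

/-- Conjugation of subgroups. -/
abbrev conjSub (g : Sz F e) (M : Subgroup (Sz F e)) : Subgroup (Sz F e) :=
  M.map (MulAut.conj g).toMonoidHom

lemma mem_conjSub {g x : Sz F e} {M : Subgroup (Sz F e)} :
    g * x * g⁻¹ ∈ conjSub g M ↔ x ∈ M :=
  Subgroup.mem_map_iff_mem (MulAut.conj g).injective

lemma mem_conjSub' {g x : Sz F e} {M : Subgroup (Sz F e)} :
    x ∈ conjSub g M ↔ g⁻¹ * x * g ∈ M := by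
  rw [← mem_conjSub (g := g) (M := M)]
  simp [mul_assoc]

lemma conjSub_conjSub (g h : Sz F e) (M : Subgroup (Sz F e)) :
    conjSub g (conjSub h M) = conjSub (g * h) M := by
  ext x
  rw [mem_conjSub', mem_conjSub', mem_conjSub', _root_.mul_inv_rev]
  simp [mul_assoc]

/-- `M ∩ T` is a Sylow 2-subgroup of `M`. -/
def Good (hp : Params F e) (M : Subgroup (Sz F e)) : Prop :=
  ¬ 2 ∣ (uGroup hp.twist).relIndex M

lemma exists_good (hp : Params F e) (M : Subgroup (Sz F e)) : ∃ g, Good hp (conjSub g M) := by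
  classical
  have : Fact (Nat.Prime 2) := ⟨Nat.prime_two⟩
  obtain ⟨T⟩ : Nonempty (Sylow 2 M) := inferInstance
  obtain ⟨S, hS⟩ := (T.2.map M.subtype).exists_le_sylow
  obtain ⟨g, hg⟩ := MulAction.exists_smul_eq (Sz F e) S (sylow2 hp.twist)
  refine ⟨g, ?_⟩
  have h1 : (uGroup hp.twist).relIndex (conjSub g M) = (S : Subgroup (Sz F e)).relIndex M := by
    rw [← coe_sylow2 hp.twist, ← hg, Sylow.coe_subgroup_smul]
    exact Subgroup.relIndex_map_map_of_injective _ _ (MulAut.conj g).injective
  show ¬ 2 ∣ (uGroup hp.twist).relIndex (conjSub g M)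
  rw [h1]
  have hle : (T : Subgroup M) ≤ (S : Subgroup (Sz F e)).subgroupOf M := fun x hx =>
    hS ⟨x, hx, rfl⟩
  exact fun h => T.not_dvd_index (h.trans (Subgroup.index_dvd_of_le hle))

lemma Good.conj_borel (hp : Params F e) {M : Subgroup (Sz F e)} (h : Good hp M) {g : Sz F e}
    (hg : g ∈ borel F e) : Good hp (conjSub g M) := by
  have h1 : (uGroup hp.twist).map (MulAut.conj g).toMonoidHom = uGroup hp.twist := by
    refine Subgroup.eq_of_le_of_card_ge ?_
      (le_of_eq (Subgroup.card_map_of_injective (MulAut.conj g).injective).symm)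
    rintro _ ⟨x, hx, rfl⟩
    exact (Subgroup.mem_normalizer_iff.1 (borel_le_normalizer hp.twist hg) x).1 hx
  show ¬ 2 ∣ (uGroup hp.twist).relIndex (conjSub g M)
  rw [← h1]
  rwa [Subgroup.relIndex_map_map_of_injective _ _ (MulAut.conj g).injective]

lemma not_three_dvd_card (hp : Params F e) : ¬ 3 ∣ Nat.card (Sz F e) := by
  rw [card_eq hp]
  intro h
  have hsq : q ^ 2 % 3 = 1 := by rw [Nat.pow_mod, hp.mod_three]
  have := hp.mod_three
  rcases Nat.prime_three.dvd_mul.1 h with h | h
  · rcases Nat.prime_three.dvd_mul.1 h with h | h <;> omega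
  · omega

lemma centralizer_normalizer_card (hp : Params F e) {x : Sz F e} (hx : x ≠ 1)
    (h2 : ¬ IsPGroup 2 (Subgroup.centralizer {x})) :
    ∃ k, (k = 1 ∨ k = 2 ∨ k = 4) ∧
      Nat.card (Subgroup.normalizer (Subgroup.centralizer {x} : Set (Sz F e))) =
        k * Nat.card (Subgroup.centralizer {x}) := by
  classical
  have he := hp.twist
  have key : ∀ A : Subgroup (Sz F e), (∀ a ∈ A, a ≠ 1 → Subgroup.centralizer {a} = A) →
      x ∈ conjSet A → ∀ k, Nat.card (Subgroup.normalizer (A : Set (Sz F e))) = k * Nat.card A →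
        Nat.card (Subgroup.normalizer (Subgroup.centralizer {x} : Set (Sz F e))) =
          k * Nat.card (Subgroup.centralizer {x}) := by
    intro A hA hxA k hk
    obtain ⟨g, hg⟩ := mem_conjSet_centralizer hA hxA
    rw [hg, ← Subgroup.map_normalizer_eq_of_bijective _ (f := (MulAut.conj g).toMonoidHom)
      (MulAut.conj g).bijective, Subgroup.card_map_of_injective (MulAut.conj g).injective,
      Subgroup.card_map_of_injective (MulAut.conj g).injective, hk]
  rcases exists_cases hp hx with h | h | ⟨-, A, hA, hxA⟩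
  · obtain ⟨-, g, hg⟩ := h
    have h1 := (uGroup_isPGroup he).to_le
      (centralizer_le_uGroup he hg (fun h => hx (conj_eq_one_iff.1 h)))
    rw [show g * x * g⁻¹ = MulAut.conj g x from rfl, ← map_centralizer_singleton] at h1
    exact absurd (h1.of_equiv ((Subgroup.centralizer {x}).equivMapOfInjective _
      (MulAut.conj g).injective).symm) h2
  · refine ⟨2, Or.inr (Or.inl rfl), key (hGroup he) ?_ h 2 ?_⟩
    · rintro _ ⟨t, rfl⟩ ht
      exact centralizer_H he fun h => ht (by rw [h, map_one])
    · rw [card_normalizer_hGroup he (Fintype.exists_ne_of_one_lt_card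
        (by rw [Fintype.card_units]; have := hp.eight; omega) 1), card_hGroup]
  · obtain ⟨k, hk, hN⟩ := hA.normalizer_card hp
    rw [hA.centralizer_eq hp hxA hx]
    exact ⟨k, hk, hN⟩

lemma cen_eq_subgroupOf (M : Subgroup (Sz F e)) (x : M) :
    SzCount.cen x = (Subgroup.centralizer {(x : Sz F e)}).subgroupOf M := by
  ext y
  rw [Subgroup.mem_subgroupOf, Subgroup.mem_centralizer_singleton_iff,
    Subgroup.mem_centralizer_singleton_iff]
  exact ⟨fun h => congrArg Subtype.val h, fun h => Subtype.ext h⟩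

lemma normalizer_card_sub (M U : Subgroup (Sz F e)) (x : M) (hx : (x : Sz F e) ≠ 1)
    (hxU : (x : Sz F e) ∈ U) (hU : ∀ a ∈ U, a ≠ 1 → Subgroup.centralizer {a} = U) {k : ℕ}
    (hk : Nat.card (Subgroup.normalizer (U : Set (Sz F e))) = k * Nat.card U) :
    ∃ j, j ∣ k ∧ Nat.card (Subgroup.normalizer (U.subgroupOf M : Set M)) =
      j * Nat.card (U.subgroupOf M) := by
  classical
  set N := Subgroup.normalizer (U : Set (Sz F e)) with hN
  have hnM : Subgroup.normalizer (U.subgroupOf M : Set M) = N.subgroupOf M := by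
    ext g
    rw [Subgroup.mem_subgroupOf]
    constructor
    · intro hg
      have h1 : (g : Sz F e) * x * (g : Sz F e)⁻¹ ∈ U :=
        (Subgroup.mem_normalizer_iff.1 hg x).1 hxU
      have h2 := hU _ h1 (fun h => hx (conj_eq_one_iff.1 h))
      rw [show (g : Sz F e) * x * (g : Sz F e)⁻¹ = MulAut.conj (g : Sz F e) x from rfl,
        ← map_centralizer_singleton, hU _ hxU hx] at h2
      rw [hN, Subgroup.mem_normalizer_iff]
      intro b
      constructor
      · intro hb
        rw [← h2]
        exact ⟨b, hb, rfl⟩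
      · intro hb
        rw [← h2] at hb
        obtain ⟨c, hc, hce⟩ := hb
        rwa [← (MulAut.conj (g : Sz F e)).injective hce]
    · intro hg
      rw [Subgroup.mem_normalizer_iff]
      intro b
      exact Subgroup.mem_normalizer_iff.1 hg b
  rw [hnM]
  have hle : U ≤ N := Subgroup.le_normalizer
  have : (U.subgroupOf N).Normal :=
    ⟨fun u hu g => (Subgroup.mem_normalizer_iff.1 g.2 u).1 hu⟩
  refine ⟨(U.subgroupOf M).relIndex (N.subgroupOf M), ?_, ?_⟩
  · have hrel : ∀ A B C : Subgroup (Sz F e),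
        (A.subgroupOf C).relIndex (B.subgroupOf C) = A.relIndex (B ⊓ C) := fun A B C => by
      show (A.comap C.subtype).relIndex _ = _
      rw [Subgroup.relIndex_comap, Subgroup.subgroupOf_map_subtype]
    rw [hrel, inf_comm, ← hrel]
    refine (Subgroup.relIndex_dvd_index_of_normal (U.subgroupOf N) (M.subgroupOf N)).trans ?_
    have h1 := (U.subgroupOf N).index_mul_card
    rw [Nat.card_congr (Subgroup.subgroupOfEquivOfLe hle).toEquiv, hk] at h1
    exact dvd_of_eq (Nat.eq_of_mul_eq_mul_right Nat.card_pos h1)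
  · have hsub : U.subgroupOf M ≤ N.subgroupOf M := fun y hy => hle hy
    rw [← ((U.subgroupOf M).subgroupOf (N.subgroupOf M)).index_mul_card,
      Nat.card_congr (Subgroup.subgroupOfEquivOfLe hsub).toEquiv]
    rfl

/-- The hypotheses of the count hold in a subgroup with a good Sylow intersection. -/
theorem hyp_of_good (hp : Params F e) {M : Subgroup (Sz F e)} (hM : Good hp M) :
    SzCount.Hyp ((uGroup hp.twist).subgroupOf M) := by
  classical
  have he := hp.twist
  have : Fact (Nat.Prime 2) := ⟨Nat.prime_two⟩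
  set S := (uGroup hp.twist).subgroupOf M with hS
  have hSp : IsPGroup 2 S := fun x => ⟨2, Subtype.ext (Subtype.ext (by
    simpa using pow_four he x.2))⟩
  have hSyl : ∀ x : M, (∃ n, orderOf x = 2 ^ n) → x ≠ 1 → x ∈ conjSet S := by
    rintro x ⟨n, hn⟩ hx1
    let P : Sylow 2 M := hSp.toSylow hM
    obtain ⟨R, hR⟩ := (IsPGroup.of_card (p := 2) (n := n) (by rw [Nat.card_zpowers, hn]) :
      IsPGroup 2 (Subgroup.zpowers x)).exists_le_sylow
    obtain ⟨g, hg⟩ := MulAction.exists_smul_eq M R P
    refine ⟨hx1, g, ?_⟩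
    have : g * x * g⁻¹ ∈ (P : Subgroup M) := by
      rw [← hg, Sylow.coe_subgroup_smul]
      exact Subgroup.smul_mem_pointwise_smul _ (MulAut.conj g) _ (hR (Subgroup.mem_zpowers x))
    exact this
  refine ⟨hSp, ?_, ?_, ?_, ?_, ?_, ?_⟩
  · intro t ht ht2 u hu
    obtain ⟨b, hb⟩ := exists_central_of_sq he ht (by
      rw [pow_two]; exact congrArg Subtype.val ht2)
    obtain ⟨⟨c, d⟩, hcd⟩ := hu
    apply Subtype.ext
    have hb' : (t : Sz F e) = P he 0 b := hb
    have hcd' : P he c d = (u : Sz F e) := hcd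
    simp only [Subgroup.coe_mul]
    rw [hb', ← hcd', P_mul, P_mul]
    congr 1 <;> simp [zero_pow (Nat.ne_zero_of_lt he.one_lt)] <;> ring
  · intro t ht ht1 y hy
    exact centralizer_le_uGroup he ht (fun h => ht1 (Subtype.ext h))
      (Subgroup.mem_centralizer_singleton_iff.2
        (congrArg Subtype.val (Subgroup.mem_centralizer_singleton_iff.1 hy)))
  · intro g t ht ht1 hg
    have h1 := uGroup_TI he (g : Sz F e) t ht (fun h => ht1 (Subtype.ext h)) hg
    rw [Subgroup.mem_normalizer_iff]
    intro b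
    exact Subgroup.mem_normalizer_iff.1 h1 b
  · intro u hu huc
    obtain ⟨n, hn⟩ : ∃ n, orderOf (u : Sz F e) = 2 ^ n := by
      obtain ⟨-, g, hg⟩ := huc
      obtain ⟨n, hn⟩ := IsPGroup.iff_orderOf.1 hSp ⟨_, hg⟩
      refine ⟨n, ?_⟩
      rw [Subgroup.orderOf_coe, ← (MulAut.conj g).orderOf_eq u]
      simpa [Subgroup.orderOf_mk] using hn
    obtain ⟨hu1, g, hg⟩ := huc
    have ht1 : g * u * g⁻¹ ≠ 1 := fun h => hu1 (conj_eq_one_iff.1 h)
    have h2 := (Subgroup.mem_normalizer_iff.1 hu _).1 hg
    have hub : (u : Sz F e) ∈ borel F e := by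
      rw [← normalizer_uGroup he]
      exact uGroup_TI he _ _ hg (fun h => ht1 (Subtype.ext h)) h2
    obtain ⟨a, b, t, hu'⟩ := exists_borel_eq he _ hub
    have ht : t = 1 := by
      have h3 : torusHom he ⟨_, hub⟩ = t := by
        have := torusHom_apply he a b t (hu' ▸ hub)
        simpa [← hu'] using this
      have h4 := orderOf_map_dvd (torusHom he) ⟨_, hub⟩
      rw [h3, ← Subgroup.orderOf_coe (⟨_, hub⟩ : borel F e), hn] at h4
      have h5 := orderOf_dvd_natCard t
      rw [Nat.card_eq_fintype_card, Fintype.card_units] at h5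
      exact orderOf_eq_one_iff.1 (Nat.dvd_one.1 (Nat.Coprime.pow_left n
        (Nat.prime_two.coprime_iff_not_dvd.2 (odd_sub_one hp)) ▸ Nat.dvd_gcd h4 h5))
    show (u : Sz F e) ∈ uGroup he
    rw [hu', ht, H_one, mul_one]
    exact P_mem_uGroup he a b
  · intro x hx
    have hx1 : (x : Sz F e) ≠ 1 := fun h => hx.1 (Subtype.ext h)
    have hnp : ¬ IsPGroup 2 (Subgroup.centralizer {(x : Sz F e)}) := by
      intro h
      obtain ⟨n, hn⟩ := IsPGroup.iff_orderOf.1 h
        ⟨x, Subgroup.mem_centralizer_singleton_iff.2 rfl⟩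
      rw [Subgroup.orderOf_mk, Subgroup.orderOf_coe] at hn
      exact hx.2 (hSyl x ⟨n, hn⟩ hx.1)
    obtain ⟨-, hcard, hU⟩ := ((szPartition hp).cases _ hx1).resolve_left hnp
    set U := Subgroup.centralizer {(x : Sz F e)} with hUdef
    have hxU : (x : Sz F e) ∈ U := Subgroup.mem_centralizer_singleton_iff.2 rfl
    have hcen : SzCount.cen x = U.subgroupOf M := cen_eq_subgroupOf M x
    have hoddU : ¬ 2 ∣ Nat.card U := by
      have hq := hp.eight
      have hsq := hp.sq
      have hee : 2 ∣ e := (Nat.prime_two.dvd_mul.1 (hsq ▸ dvd_mul_right 2 q)).elim id id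
      have := hp.even
      rcases hcard with h | h | h <;> rw [h] <;> omega
    have hdvd : Nat.card (U.subgroupOf M) ∣ Nat.card U :=
      Subgroup.card_comap_dvd_of_injective U M.subtype Subtype.val_injective
    have h3 : ¬ 3 ∣ Nat.card M := fun h =>
      not_three_dvd_card hp (h.trans (Subgroup.card_subgroup_dvd_card M))
    refine ⟨?_, ?_, ?_, ?_⟩
    · intro y hy hy1
      rw [hcen, cen_eq_subgroupOf, hU _ (by rw [hcen] at hy; exact hy)
        (fun h => hy1 (Subtype.ext h))]
    · rw [hcen]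
      exact fun h => hoddU (h.trans hdvd)
    · rw [hcen]
      have h1 : ¬ 3 ∣ Nat.card (U.subgroupOf M) := fun h =>
        h3 (h.trans (Subgroup.card_subgroup_dvd_card _))
      have h2 : ¬ 2 ∣ Nat.card (U.subgroupOf M) := fun h => hoddU (h.trans hdvd)
      have h4 : Nat.card (U.subgroupOf M) ≠ 1 := fun h => hx.1 (by
        have := Subgroup.eq_bot_of_card_eq _ h
        have hm : x ∈ U.subgroupOf M := hxU
        rwa [this, Subgroup.mem_bot] at hm)
      have : 0 < Nat.card (U.subgroupOf M) := Nat.card_pos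
      omega
    · rw [hcen]
      obtain ⟨k, hk, hkN⟩ := centralizer_normalizer_card hp hx1 hnp
      obtain ⟨j, hj, hjN⟩ := normalizer_card_sub M U x hx1 hxU hU hkN
      refine ⟨j, ?_, hjN⟩
      have hj4 : j ∣ 2 ^ 2 := hj.trans (by rcases hk with rfl | rfl | rfl <;> norm_num)
      obtain ⟨i, hi, rfl⟩ := (Nat.dvd_prime_pow Nat.prime_two).1 hj4
      interval_cases i <;> simp
  · exact fun h => not_three_dvd_card hp (h.trans (Subgroup.card_subgroup_dvd_card M))

end CfsgLib.KnownB.Suzuki
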