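import Cfsg.Agent.Lib.KnownB.SuzukiSubgroups
import Cfsg.Agent.Lib.KnownB.SuzukiAut

set_option autoImplicit false

/-!
The classification of the subgroups of `Cfsg.Lie.Sz F e`.
-/

namespace CfsgLib.KnownB.Suzuki

open Cfsg.Lie CfsgLib.KnownB.SzElem CfsgLib.KnownB.TICount
open scoped Pointwise

universe u

variable {F : Type u} [Field F] {e : ℕ}

lemma torusHom_P_mul_H (he : Twist F e) (a b : F) (t : Fˣ) (g : Sz F e) (hg : g ∈ borel F e)
    (h : g = P he a b * H e he t) : torusHom he ⟨g, hg⟩ = t := by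
  subst h
  exact torusHom_apply he a b t hg

/-- An element of the Borel subgroup outside `T` is conjugate under `T` to its torus part. -/
lemma exists_conj_H (he : Twist F e) (a b : F) {s : Fˣ} (hs1 : s ≠ 1) :
    ∃ c d, P he c d * H e he s * (P he c d)⁻¹ = P he a b * H e he s := by
  have h2 := he.two
  have hse : (s : F) ^ e - 1 ≠ 0 := fun h =>
    hs1 (Units.ext (eq_one_of_pow_e he (sub_eq_zero.1 h)))
  have hse2 : (s : F) ^ (e + 2) - 1 ≠ 0 := fun h =>
    hs1 (Units.ext (eq_one_of_pow_e2 he (sub_eq_zero.1 h)))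
  refine ⟨a / ((s : F) ^ e - 1),
    (b - ((s : F) ^ (e + 2) * ((a / ((s : F) ^ e - 1)) ^ e * (a / ((s : F) ^ e - 1)))) -
      (a / ((s : F) ^ e - 1)) ^ e * ((s : F) ^ e * (a / ((s : F) ^ e - 1)))) /
      ((s : F) ^ (e + 2) - 1), ?_⟩
  rw [P_inv, mul_assoc, H_mul_P, ← mul_assoc, P_mul]
  congr 2
  · field_simp
    grind
  · field_simp
    grind

variable [Fintype F]

local notation "q" => Fintype.card F

/-- The three shapes of subgroups. -/
def SubgroupShape (hp : Params F e) (M : Subgroup (Sz F e)) : Prop :=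
  (∃ g, conjSub g M ≤ borel F e) ∨
  (∃ x : Sz F e, x ≠ 1 ∧ ¬ IsPGroup 2 (Subgroup.centralizer {x}) ∧
    M ≤ Subgroup.normalizer (Subgroup.centralizer {x} : Set (Sz F e))) ∨
  (∃ (K : Subfield F), 8 ≤ Nat.card K ∧ ∃ g, conjSub g M = (subHom K.subtype hp.twist).range)

lemma shape_of_torus (hp : Params F e) {M : Subgroup (Sz F e)} {x : M}
    (hx : SzCount.IsTor ((uGroup hp.twist).subgroupOf M) x) (hM : Good hp M)
    (hN : Subgroup.normalizer (SzCount.cen x : Set M) = ⊤) : SubgroupShape hp M := by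
  classical
  have : Fact (Nat.Prime 2) := ⟨Nat.prime_two⟩
  have hx1 : (x : Sz F e) ≠ 1 := fun h => hx.1 (Subtype.ext h)
  have hodd := (hyp_of_good hp hM).tor x hx
  have hnp : ¬ IsPGroup 2 (Subgroup.centralizer {(x : Sz F e)}) := by
    intro h
    have h2 : IsPGroup 2 (SzCount.cen x) := by
      rw [cen_eq_subgroupOf]
      exact h.comap_of_injective M.subtype Subtype.val_injective
    obtain ⟨n, hn⟩ := IsPGroup.iff_card.1 h2
    rcases Nat.eq_zero_or_pos n with rfl | hn0
    · have := hodd.2.2.1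
      omega
    · exact hodd.2.1 (hn ▸ dvd_pow_self 2 hn0.ne')
  obtain ⟨-, -, hU⟩ := ((szPartition hp).cases _ hx1).resolve_left hnp
  refine Or.inr (Or.inl ⟨x, hx1, hnp, fun g hg => ?_⟩)
  have h1 := (Subgroup.mem_normalizer_iff.1
    (hN ▸ Subgroup.mem_top (⟨g, hg⟩ : M) : (⟨g, hg⟩ : M) ∈ Subgroup.normalizer _) x).1
    (SzCount.mem_cen_self x)
  rw [cen_eq_subgroupOf, Subgroup.mem_subgroupOf] at h1
  have h2 := hU _ h1 (fun h => hx1 (conj_eq_one_iff.1 h))
  simp only [Subgroup.coe_mul, Subgroup.coe_inv] at h2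
  rw [show g * (x : Sz F e) * g⁻¹ = MulAut.conj g (x : Sz F e) from rfl,
    ← map_centralizer_singleton] at h2
  rw [Subgroup.mem_normalizer_iff]
  intro b
  constructor
  · intro hb
    rw [← h2]
    exact ⟨b, hb, rfl⟩
  · intro hb
    rw [← h2] at hb
    obtain ⟨c, hc, hce⟩ := hb
    rwa [← (MulAut.conj g).injective hce]

lemma normalizer_sub_eq (hp : Params F e) (M : Subgroup (Sz F e))
    (hne : (uGroup hp.twist).subgroupOf M ≠ ⊥) :
    Subgroup.normalizer (((uGroup hp.twist).subgroupOf M : Subgroup M) : Set M) =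
      (borel F e).subgroupOf M := by
  obtain ⟨⟨t, ht⟩, ht1⟩ := Subgroup.ne_bot_iff_exists_ne_one.1 hne
  ext g
  rw [Subgroup.mem_subgroupOf]
  constructor
  · intro hg
    rw [← normalizer_uGroup hp.twist]
    exact uGroup_TI hp.twist g t ht (fun h => ht1 (Subtype.ext (Subtype.ext h)))
      ((Subgroup.mem_normalizer_iff.1 hg t).1 ht)
  · intro hg
    rw [Subgroup.mem_normalizer_iff]
    intro b
    exact Subgroup.mem_normalizer_iff.1 (borel_le_normalizer hp.twist hg) b

/-- The second coordinates of the involutions of `M` in the centre of `T`. -/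
def bSet (he : Twist F e) (M : Subgroup (Sz F e)) : AddSubgroup F where
  carrier := {b | P he 0 b ∈ M}
  zero_mem' := by simp [P_zero]
  add_mem' {a b} ha hb := by
    have h := mul_mem (show P he 0 a ∈ M from ha) (show P he 0 b ∈ M from hb)
    rw [P_mul, zero_pow (Nat.ne_zero_of_lt he.one_lt), zero_mul, add_zero, add_zero] at h
    exact h
  neg_mem' {a} ha := by
    show P he 0 (-a) ∈ M
    rw [show -a = a by linear_combination (-a) * he.two]
    exact ha

omit [Fintype F] in
lemma mem_bSet (he : Twist F e) {M : Subgroup (Sz F e)} {b : F} :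
    b ∈ bSet he M ↔ P he 0 b ∈ M := Iff.rfl

/-- The first coordinates of `M ∩ T`. -/
def aSet (he : Twist F e) (M : Subgroup (Sz F e)) : AddSubgroup F where
  carrier := {a | ∃ b, P he a b ∈ M}
  zero_mem' := ⟨0, by simp [P_zero]⟩
  add_mem' {a a'} ha ha' := by
    obtain ⟨b, hb⟩ := ha
    obtain ⟨b', hb'⟩ := ha'
    have h := mul_mem hb hb'
    rw [P_mul] at h
    exact ⟨_, h⟩
  neg_mem' {a} ha := by
    show ∃ b, P he (-a) b ∈ M
    rw [show -a = a by linear_combination (-a) * he.two]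
    exact ha

omit [Fintype F] in
lemma mem_aSet (he : Twist F e) {M : Subgroup (Sz F e)} {a : F} :
    a ∈ aSet he M ↔ ∃ b, P he a b ∈ M := Iff.rfl

lemma card_omegaOne (hp : Params F e) {M : Subgroup (Sz F e)} (hM : Good hp M) :
    Nat.card (SzCount.omegaOne (hyp_of_good hp hM)) = Nat.card (bSet hp.twist M) := by
  have he := hp.twist
  refine (Nat.card_congr (Equiv.ofBijective (fun b : bSet hp.twist M =>
    (⟨⟨P he 0 b, b.2⟩, P_mem_uGroup he 0 b, Subtype.ext ?_⟩ :
      SzCount.omegaOne (hyp_of_good hp hM))) ⟨fun a b h => ?_, fun t => ?_⟩)).symm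
  · show P he 0 (b : F) * P he 0 b = 1
    rw [P_mul, ← P_zero he]
    simp [zero_pow (Nat.ne_zero_of_lt he.one_lt)]
    congr 1
    linear_combination (b : F) * he.two
  · exact Subtype.ext (P_injective he (congrArg (fun x => x.1.1) h)).2
  · obtain ⟨⟨t, htM⟩, htU, ht2⟩ := t
    obtain ⟨b, hb⟩ := exists_central_of_sq he htU (by rw [pow_two]; exact congrArg Subtype.val ht2)
    have hb' : t = P he 0 b := hb
    exact ⟨⟨b, show P he 0 b ∈ M from hb' ▸ htM⟩, Subtype.ext (Subtype.ext hb'.symm)⟩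

lemma card_S (hp : Params F e) (M : Subgroup (Sz F e)) :
    Nat.card ((uGroup hp.twist).subgroupOf M) =
      Nat.card (aSet hp.twist M) * Nat.card (bSet hp.twist M) := by
  have he := hp.twist
  choose β hβ using fun a : aSet hp.twist M => a.2
  rw [← Nat.card_prod]
  refine (Nat.card_congr (Equiv.ofBijective (fun x : aSet hp.twist M × bSet hp.twist M =>
    (⟨⟨P he x.1 (β x.1) * P he 0 x.2, mul_mem (hβ x.1) x.2.2⟩,
      mul_mem (P_mem_uGroup he _ _) (P_mem_uGroup he _ _)⟩ : (uGroup hp.twist).subgroupOf M))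
    ⟨?_, ?_⟩)).symm
  · rintro ⟨a, b⟩ ⟨a', b'⟩ h
    have h' := congrArg (fun x => x.1.1) h
    simp only [P_mul, add_zero, mul_zero] at h'
    obtain ⟨h1, h2⟩ := P_injective he h'
    have ha : a = a' := Subtype.ext h1
    subst ha
    exact Prod.ext rfl (Subtype.ext (add_left_cancel h2))
  · rintro ⟨⟨g, hgM⟩, hg⟩
    obtain ⟨⟨a, b⟩, hab⟩ := hg
    have hab' : P he a b = g := hab
    have haA : a ∈ aSet hp.twist M := ⟨b, hab' ▸ hgM⟩
    have hb : b - β ⟨a, haA⟩ ∈ bSet hp.twist M := by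
      have h := mul_mem (inv_mem (hβ ⟨a, haA⟩)) (hab'.symm ▸ hgM : P he a b ∈ M)
      rw [P_inv, P_mul] at h
      have h2 := he.two
      convert h using 1
      show b - β ⟨a, haA⟩ ∈ bSet hp.twist M ↔ _
      rw [mem_bSet]
      simp only
      constructor <;> intro h' <;> convert h' using 1 <;> congr 1 <;> grind
    exact ⟨(⟨a, haA⟩, ⟨_, hb⟩), Subtype.ext (Subtype.ext (by
      show P he a (β ⟨a, haA⟩) * P he 0 (b - β ⟨a, haA⟩) = g
      rw [P_mul, ← hab']
      congr 1 <;> simp))⟩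

/-- The torus parts of `M ∩ B`. -/
noncomputable def tSet (he : Twist F e) (M : Subgroup (Sz F e)) : Subgroup Fˣ :=
  ((M.subgroupOf (borel F e))).map (torusHom he)

lemma mem_tSet (he : Twist F e) {M : Subgroup (Sz F e)} {t : Fˣ} :
    t ∈ tSet he M ↔ ∃ a b, P he a b * H e he t ∈ M := by
  constructor
  · rintro ⟨⟨g, hg⟩, hgM, rfl⟩
    obtain ⟨a, b, s, hs⟩ := exists_borel_eq he g hg
    refine ⟨a, b, ?_⟩
    rw [torusHom_P_mul_H he a b s g hg hs, ← hs]
    exact hgM
  · rintro ⟨a, b, h⟩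
    exact ⟨⟨_, mul_mem (P_mem_borel he a b) (H_mem_borel he t)⟩, h, torusHom_apply he a b t _⟩

lemma card_borel_sub (hp : Params F e) (M : Subgroup (Sz F e)) :
    Nat.card ((borel F e).subgroupOf M) =
      Nat.card ((uGroup hp.twist).subgroupOf M) * Nat.card (tSet hp.twist M) := by
  have he := hp.twist
  let ψ : (borel F e).subgroupOf M →* Fˣ :=
    (torusHom he).comp
      { toFun := fun x => ⟨x.1.1, x.2⟩
        map_one' := rfl
        map_mul' := fun x y => rfl }
  have hrange : ψ.range = tSet he M := by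
    ext t
    constructor
    · rintro ⟨⟨⟨g, hgM⟩, hg⟩, rfl⟩
      exact ⟨⟨g, hg⟩, hgM, rfl⟩
    · rintro ⟨⟨g, hg⟩, hgM, rfl⟩
      exact ⟨⟨⟨g, hgM⟩, hg⟩, rfl⟩
  have hker : Nat.card ψ.ker = Nat.card ((uGroup hp.twist).subgroupOf M) := by
    refine Nat.card_congr
      { toFun := fun x => ⟨x.1.1, ?_⟩
        invFun := fun x => ⟨⟨x.1, uGroup_le_borel he x.2⟩, ?_⟩
        left_inv := fun x => rfl
        right_inv := fun x => rfl }
    · obtain ⟨⟨⟨g, hgM⟩, hg⟩, hk⟩ := x
      obtain ⟨a, b, t, ht⟩ := exists_borel_eq he g hg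
      have : torusHom he ⟨g, hg⟩ = t := torusHom_P_mul_H he a b t g hg ht
      rw [MonoidHom.mem_ker] at hk
      have h1 : t = 1 := this.symm.trans hk
      show g ∈ uGroup he
      rw [ht, h1, H_one, mul_one]
      exact P_mem_uGroup he a b
    · obtain ⟨⟨g, hgM⟩, hg⟩ := x
      obtain ⟨⟨a, b⟩, hab⟩ := hg
      rw [MonoidHom.mem_ker]
      exact torusHom_P_mul_H he a b 1 g _ (by rw [H_one, mul_one]; exact hab.symm)
  rw [← ψ.ker.index_mul_card, Subgroup.index_ker, hrange, hker, mul_comm]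

lemma transport_nn (hp : Params F e) {M : Subgroup (Sz F e)} {g : Sz F e} (hg : g ∈ borel F e)
    (h : ¬ M ≤ borel F e) : ¬ conjSub g M ≤ borel F e := by
  intro h'
  refine h fun x hx => ?_
  have h1 := h' (mem_conjSub.2 hx)
  have := mul_mem (mul_mem (inv_mem hg) h1) hg
  simpa [mul_assoc] using this

lemma bSet_nontrivial (hp : Params F e) {M : Subgroup (Sz F e)} (hM : Good hp M)
    (hne : (uGroup hp.twist).subgroupOf M ≠ ⊥) :
    ∃ k, 1 ≤ k ∧ Nat.card (bSet hp.twist M) = 2 ^ k := by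
  have : Fact (Nat.Prime 2) := ⟨Nat.prime_two⟩
  have h := hyp_of_good hp hM
  rw [← card_omegaOne hp hM]
  have hpg : IsPGroup 2 (SzCount.omegaOne (hyp_of_good hp hM)) :=
    h.two.to_le fun t ht => ((SzCount.mem_omegaOne _).1 ht).1
  obtain ⟨k, hk⟩ := IsPGroup.iff_card.1 hpg
  refine ⟨k, ?_, hk⟩
  by_contra hk0
  obtain ⟨t, ht, ht1⟩ := SzCount.exists_involution (hyp_of_good hp hM) hne
  have hb := Subgroup.eq_bot_of_card_eq _ (hk.trans (by rw [show k = 0 by omega, pow_zero]))
  rw [hb, Subgroup.mem_bot] at ht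
  exact ht1 ht

lemma card_aSet_le (hp : Params F e) (M : Subgroup (Sz F e)) :
    Nat.card (aSet hp.twist M) ≤ Nat.card (bSet hp.twist M) := by
  have he := hp.twist
  have h2 := he.two
  refine Nat.card_le_card_of_injective (fun a : aSet hp.twist M =>
    (⟨(a : F) ^ e * a, ?_⟩ : bSet hp.twist M)) fun a a' h => ?_
  · obtain ⟨b, hb⟩ := a.2
    have h1 := mul_mem hb hb
    rw [P_mul] at h1
    rw [mem_bSet]
    convert h1 using 2 <;> grind
  · have h' : (a : F) ^ (e + 1) = (a' : F) ^ (e + 1) := by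
      simpa [pow_succ] using congrArg Subtype.val h
    apply Subtype.ext
    rcases eq_or_ne (a' : F) 0 with h0 | hne
    · rw [h0] at h' ⊢
      simpa using h'
    · exact (div_eq_one_iff_eq hne).1 (eq_one_of_pow_e1 he
        (by rw [div_pow, h', div_self (pow_ne_zero _ hne)]))

theorem shape_two (hp : Params F e) {M : Subgroup (Sz F e)} (hM : Good hp M)
    (hne : (uGroup hp.twist).subgroupOf M ≠ ⊥) (hnB : ¬ M ≤ borel F e)
    (hs : Nat.card (bSet hp.twist M) = 2) : SubgroupShape hp M := by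
  have hnn : Subgroup.normalizer (((uGroup hp.twist).subgroupOf M : Subgroup M) : Set M) ≠ ⊤ := by
    rw [normalizer_sub_eq hp M hne, Ne, Subgroup.subgroupOf_eq_top]
    exact hnB
  have hA := card_aSet_le hp M
  rw [hs] at hA
  have ha : Nat.card ((uGroup hp.twist).subgroupOf M) = 2 ∨
      Nat.card ((uGroup hp.twist).subgroupOf M) = 4 := by
    rw [card_S hp, hs]
    have : 0 < Nat.card (aSet hp.twist M) := Nat.card_pos
    omega
  obtain ⟨x, hx, hN⟩ := SzCount.two_case (hyp_of_good hp hM) hne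
    ((card_omegaOne hp hM).trans hs) hnn ha
  exact shape_of_torus hp hx hM hN

/-- A scaled version of `M` whose involutions give a subfield. -/
lemma exists_subfield_conj (hp : Params F e) {M : Subgroup (Sz F e)} (hM : Good hp M)
    (hne : (uGroup hp.twist).subgroupOf M ≠ ⊥) (hnB : ¬ M ≤ borel F e)
    (hs : 4 ≤ Nat.card (bSet hp.twist M)) :
    ∃ g ∈ borel F e, ∃ K : Subfield F, 8 ≤ Nat.card K ∧ Nat.card K % 3 = 2 ∧
      (∀ b, b ∈ bSet hp.twist (conjSub g M) ↔ b ∈ K) ∧
      (∀ t : Fˣ, t ∈ tSet hp.twist (conjSub g M) ↔ (t : F) ∈ K) ∧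
      (∀ t : Fˣ, (t : F) ∈ K → H e hp.twist t ∈ conjSub g M) := by
  classical
  have he := hp.twist
  have h2 := he.two
  have h0 : (0 : F) ^ e = 0 := zero_pow (Nat.ne_zero_of_lt he.one_lt)
  obtain ⟨b₀, hb₀, hb₀ne⟩ : ∃ b ∈ bSet hp.twist M, b ≠ 0 := by
    by_contra h
    push Not at h
    rw [(AddSubgroup.eq_bot_iff_forall _).2 h, AddSubgroup.card_bot] at hs
    omega
  obtain ⟨v, hv⟩ := (units_pow_e2_bijective he).2 (Units.mk0 b₀ hb₀ne)⁻¹
  have hv' : (v : F) ^ (e + 2) = b₀⁻¹ := by simpa using congrArg Units.val hv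
  set M₁ := conjSub (H e he v) M with hM₁
  have hM₁g : Good hp M₁ := hM.conj_borel hp (H_mem_borel he v)
  have hB₁ : ∀ b, b ∈ bSet hp.twist M₁ ↔ b₀ * b ∈ bSet hp.twist M := by
    intro b
    rw [mem_bSet, mem_bSet, hM₁, mem_conjSub']
    rw [show (H e he v)⁻¹ * P he 0 b * H e he v = H e he v⁻¹ * P he 0 b * (H e he v⁻¹)⁻¹ by
      rw [H_inv, H_inv, inv_inv], H_conj_P, mul_zero, Units.val_inv_eq_inv_val, inv_pow, hv',
      inv_inv]
  have hone : (1 : F) ∈ bSet hp.twist M₁ := (hB₁ 1).2 (by rwa [mul_one])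
  have hcardB : Nat.card (bSet hp.twist M₁) = Nat.card (bSet hp.twist M) :=
    Nat.card_congr ⟨fun b => ⟨b₀ * b, (hB₁ b).1 b.2⟩,
      fun b => ⟨b₀⁻¹ * b, (hB₁ _).2 (by rw [← mul_assoc, mul_inv_cancel₀ hb₀ne, one_mul]; exact b.2)⟩,
      fun b => Subtype.ext (by simp [hb₀ne]), fun b => Subtype.ext (by simp [hb₀ne])⟩
  have hne₁ : (uGroup hp.twist).subgroupOf M₁ ≠ ⊥ := by
    refine fun hbot => one_ne_zero (α := F) ?_
    have hm : (⟨P he 0 1, hone⟩ : M₁) ∈ (uGroup hp.twist).subgroupOf M₁ := P_mem_uGroup he 0 1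
    rw [hbot, Subgroup.mem_bot] at hm
    exact (P_injective he ((congrArg Subtype.val hm).trans (P_zero he).symm)).2
  have hnB₁ : ¬ M₁ ≤ borel F e := transport_nn hp (H_mem_borel he v) hnB
  have hnn : Subgroup.normalizer (((uGroup hp.twist).subgroupOf M₁ : Subgroup M₁) : Set M₁) ≠ ⊤ := by
    rw [normalizer_sub_eq hp M₁ hne₁, Ne, Subgroup.subgroupOf_eq_top]
    exact hnB₁
  -- the torus parts permute the involutions transitively
  have hE : Nat.card (tSet hp.twist M₁) = Nat.card (bSet hp.twist M₁) - 1 := by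
    have h := SzCount.card_normalizer_S (hyp_of_good hp hM₁g) hne₁ hnn
    rw [normalizer_sub_eq hp M₁ hne₁, card_borel_sub hp, card_omegaOne hp hM₁g] at h
    exact Nat.eq_of_mul_eq_mul_left Nat.card_pos h
  have hact : ∀ t ∈ tSet hp.twist M₁, ∀ b ∈ bSet hp.twist M₁,
      (t : F) ^ (e + 2) * b ∈ bSet hp.twist M₁ := by
    intro t ht b hb
    obtain ⟨c, d, hg⟩ := (mem_tSet he).1 ht
    rw [mem_bSet, ← conj_P_zero he c d b t]
    exact mul_mem (mul_mem hg hb) (inv_mem hg)
  have himg : ∀ b ∈ bSet hp.twist M₁, b ≠ 0 → ∃ t ∈ tSet hp.twist M₁, (t : F) ^ (e + 2) = b := by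
    let f : tSet hp.twist M₁ → {b : bSet hp.twist M₁ // b ≠ 0} := fun t =>
      ⟨⟨(t.1 : F) ^ (e + 2) * 1, hact t t.2 1 hone⟩,
        fun h => by simpa using congrArg Subtype.val h⟩
    have hf : Function.Injective f := fun t t' h => by
      have h' := congrArg (fun x : {b : bSet hp.twist M₁ // b ≠ 0} => ((x.1 : bSet hp.twist M₁) : F)) h
      simp only [f, mul_one] at h'
      exact Subtype.ext ((units_pow_e2_bijective he).1 (Units.ext (by
        simp only [Units.val_pow_eq_pow_val]; exact h')))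
    have : Fintype (bSet hp.twist M₁) := Fintype.ofFinite _
    have hcard : Nat.card {b : bSet hp.twist M₁ // b ≠ 0} = Nat.card (tSet hp.twist M₁) := by
      rw [hE, Nat.card_eq_fintype_card, Nat.card_eq_fintype_card, Fintype.card_subtype_compl,
        Fintype.card_subtype_eq]
    intro b hb hb0
    obtain ⟨t, ht⟩ := (hf.bijective_of_nat_card_le hcard.le).2 ⟨⟨b, hb⟩, fun h => hb0 (congrArg Subtype.val h)⟩
    refine ⟨t, t.2, ?_⟩
    have h' := congrArg (fun x : {b : bSet hp.twist M₁ // b ≠ 0} => ((x.1 : bSet hp.twist M₁) : F)) ht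
    simpa [f] using h'
  have hmul : ∀ a ∈ bSet hp.twist M₁, ∀ b ∈ bSet hp.twist M₁, a * b ∈ bSet hp.twist M₁ := by
    intro a ha b hb
    rcases eq_or_ne a 0 with rfl | ha0
    · rw [zero_mul]; exact zero_mem _
    obtain ⟨t, ht, rfl⟩ := himg a ha ha0
    exact hact t ht b hb
  let R : Subring F :=
    { carrier := bSet hp.twist M₁
      one_mem' := hone
      mul_mem' := fun {a b} ha hb => hmul a ha b hb
      zero_mem' := zero_mem _
      add_mem' := fun {a b} => add_mem
      neg_mem' := fun {a} => neg_mem }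
  let K : Subfield F :=
    { R with
      inv_mem' := fun c hc => by
        rcases eq_or_ne c 0 with rfl | hc0
        · rw [inv_zero]; exact R.zero_mem
        · have h1 : c⁻¹ = c ^ (Fintype.card F - 2) := by
            refine inv_eq_of_mul_eq_one_right ?_
            rw [← pow_succ', show Fintype.card F - 2 + 1 = Fintype.card F - 1 by
              have := Fintype.one_lt_card (α := F); omega, FiniteField.pow_card_sub_one_eq_one c hc0]
          rw [h1]
          exact pow_mem (show c ∈ R from hc) _ }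
  have hKB : ∀ b, b ∈ K ↔ b ∈ bSet hp.twist M₁ := fun b => Iff.rfl
  have hKcard : Nat.card K = Nat.card (bSet hp.twist M₁) := rfl
  have htK : ∀ t : Fˣ, t ∈ tSet hp.twist M₁ ↔ (t : F) ∈ K := by
    have hpow : ∀ t ∈ tSet hp.twist M₁, (t : F) ^ (e + 2) ∈ K := fun t ht => by
      simpa [hKB] using hact t ht 1 hone
    have hroot : ∀ t : Fˣ, (t : F) ^ (e + 2) ∈ K → (t : F) ∈ K := by
      intro t ht
      let g : K → K := fun x => ⟨(x : F) ^ (e + 2), pow_mem x.2 _⟩
      have hg : Function.Injective g := fun x y h => by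
        have h' : (x : F) ^ (e + 2) = (y : F) ^ (e + 2) := congrArg Subtype.val h
        apply Subtype.ext
        rcases eq_or_ne (y : F) 0 with h0' | hne
        · rw [h0'] at h' ⊢; simpa using h'
        · exact (div_eq_one_iff_eq hne).1 (eq_one_of_pow_e2 he
            (by rw [div_pow, h', div_self (pow_ne_zero _ hne)]))
      obtain ⟨x, hx⟩ := (Finite.injective_iff_bijective.1 hg).2 ⟨_, ht⟩
      have hx' : (x : F) ^ (e + 2) = (t : F) ^ (e + 2) := congrArg Subtype.val hx
      have : (x : F) = t := (div_eq_one_iff_eq t.ne_zero).1 (eq_one_of_pow_e2 he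
        (by rw [div_pow, hx', div_self (pow_ne_zero _ t.ne_zero)]))
      exact this ▸ x.2
    intro t
    refine ⟨fun ht => hroot t (hpow t ht), fun ht => ?_⟩
    obtain ⟨t', ht', h'⟩ := himg ((t : F) ^ (e + 2)) ((hKB _).1 (pow_mem ht _))
      (pow_ne_zero _ t.ne_zero)
    rwa [← (units_pow_e2_bijective he).1 (Units.ext
      (show ((t' ^ (e + 2) : Fˣ) : F) = ((t ^ (e + 2) : Fˣ) : F) by simpa using h'))]
  -- the order of the subfield
  obtain ⟨n, -, hn⟩ : ∃ n, 1 ≤ n ∧ Nat.card K = 2 ^ n := hKcard ▸ bSet_nontrivial hp hM₁g hne₁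
  have hnodd : Odd n := by
    have h := Module.natCard_eq_pow_finrank (K := K) (V := F)
    rw [hn, Nat.card_eq_fintype_card, ← pow_mul] at h
    by_contra hev
    obtain ⟨j, hj⟩ := Nat.not_odd_iff_even.1 hev
    have h3 := hp.mod_three
    rw [h, hj, show (j + j) * Module.finrank K F = 2 * (j * Module.finrank K F) by ring, pow_mul,
      Nat.pow_mod] at h3
    norm_num at h3
  have h4 : 4 ≤ Nat.card K := by rw [hKcard, hcardB]; exact hs
  have h8 : 8 ≤ Nat.card K ∧ Nat.card K % 3 = 2 := by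
    rw [hn] at h4 ⊢
    obtain ⟨j, rfl⟩ := hnodd
    have hj : 1 ≤ j := by
      by_contra hj
      rw [show j = 0 by omega] at h4
      norm_num at h4
    refine ⟨(Nat.pow_le_pow_right two_pos (show 3 ≤ 2 * j + 1 by omega)).trans' (by norm_num), ?_⟩
    rw [pow_succ, pow_mul, Nat.mul_mod, Nat.pow_mod]
    norm_num
  -- a torus generator
  obtain ⟨⟨u, hu⟩, hgen⟩ := IsCyclic.exists_generator (α := tSet hp.twist M₁)
  obtain ⟨a, b, hy⟩ := (mem_tSet he).1 hu
  set y := P he a b * H e he u with hydef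
  have hyB : y ∈ borel F e := mul_mem (P_mem_borel he a b) (H_mem_borel he u)
  set d := Nat.card (tSet hp.twist M₁) with hd
  have hdodd : ¬ 2 ∣ d := by
    intro h
    have := Subgroup.card_subgroup_dvd_card (tSet hp.twist M₁)
    rw [Nat.card_eq_fintype_card (α := Fˣ), Fintype.card_units] at this
    exact odd_sub_one hp (h.trans this)
  have hord : orderOf u = d := by
    rw [show u = ((⟨u, hu⟩ : tSet hp.twist M₁) : Fˣ) from rfl, Subgroup.orderOf_coe,
      orderOf_eq_card_of_forall_mem_zpowers hgen]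
  have hcop : Nat.Coprime d 4 :=
    Nat.Coprime.pow_right 2 (Nat.prime_two.coprime_iff_not_dvd.2 hdodd).symm
  have htor : torusHom he ⟨y, hyB⟩ = u := torusHom_apply he a b u hyB
  set z : borel F e := (⟨y, hyB⟩ : borel F e) ^ 4 with hz
  have hztor : torusHom he z = u ^ 4 := by rw [hz, map_pow, htor]
  have hu4 : u ^ 4 ≠ 1 := by
    intro h
    have h1 := orderOf_dvd_of_pow_eq_one h
    rw [hord] at h1
    have := Nat.dvd_one.1 (hcop ▸ Nat.dvd_gcd (dvd_refl d) h1)
    rw [hE, ← hKcard] at this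
    omega
  obtain ⟨a', b', s, hzeq⟩ := exists_borel_eq he (z : Sz F e) z.2
  have hs' : s = u ^ 4 := (torusHom_P_mul_H he a' b' s _ z.2 hzeq).symm.trans hztor
  subst hs'
  obtain ⟨c', d', hcd⟩ := exists_conj_H he a' b' hu4
  set p := P he c' d' with hp'
  have hpB : p ∈ borel F e := P_mem_borel he c' d'
  refine ⟨p⁻¹ * H e he v, mul_mem (inv_mem hpB) (H_mem_borel he v), K, h8.1, h8.2, ?_, ?_, ?_⟩
  · intro b'
    rw [hKB, ← conjSub_conjSub, mem_bSet, mem_bSet, mem_conjSub', inv_inv]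
    have : p * P he 0 b' * p⁻¹ = P he 0 b' := by
      have := conj_P_zero he c' d' b' 1
      simpa [H_one] using this
    rw [this]
  · intro t
    rw [← htK, ← conjSub_conjSub]
    have key : ∀ (g : Sz F e) (N : Subgroup (Sz F e)), g ∈ borel F e →
        tSet he N ≤ tSet he (conjSub g N) := by
      rintro g N hg t ⟨⟨x, hx⟩, hxN, rfl⟩
      refine ⟨⟨g, hg⟩ * ⟨x, hx⟩ * ⟨g, hg⟩⁻¹, mem_conjSub.2 hxN, ?_⟩
      rw [map_mul, map_mul, map_inv]
      exact mul_inv_cancel_comm _ _
    constructor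
    · intro ht
      have h := key p _ hpB ht
      rw [conjSub_conjSub, mul_inv_cancel] at h
      have hid : conjSub (1 : Sz F e) M₁ = M₁ := by ext x; rw [mem_conjSub']; simp
      rwa [hid] at h
    · intro ht
      exact key p⁻¹ _ (inv_mem hpB) ht
  · intro t ht
    rw [← conjSub_conjSub]
    have hmem : H e he (u ^ 4) ∈ conjSub p⁻¹ M₁ := by
      rw [mem_conjSub', inv_inv, hcd, ← hzeq, hz]
      show y ^ 4 ∈ M₁
      exact pow_mem hy 4
    obtain ⟨i, hi⟩ : ∃ i : ℤ, (u ^ 4) ^ i = t := by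
      obtain ⟨j, hj⟩ := hgen ⟨t, (htK t).2 ht⟩
      have hj' : u ^ j = t := congrArg Subtype.val hj
      obtain ⟨a₁, b₁, hab⟩ := (Nat.Coprime.isCoprime hcop : IsCoprime (d : ℤ) 4)
      refine ⟨b₁ * j, ?_⟩
      rw [← hj', ← zpow_natCast u 4, ← zpow_mul]
      apply zpow_eq_zpow_iff_modEq.2
      rw [hord, Int.modEq_iff_dvd]
      exact ⟨a₁ * j, by push_cast; linear_combination -(j : ℤ) * hab⟩
    rw [← hi, show H e he ((u ^ 4) ^ i) = (H e he (u ^ 4)) ^ i from map_zpow (hHom he) _ _]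
    exact zpow_mem hmem i

theorem shape_big (hp : Params F e) {M₀ : Subgroup (Sz F e)} (hM₀ : Good hp M₀)
    (hne₀ : (uGroup hp.twist).subgroupOf M₀ ≠ ⊥) (hnB₀ : ¬ M₀ ≤ borel F e)
    (hs₀ : 4 ≤ Nat.card (bSet hp.twist M₀)) :
    ∃ K : Subfield F, 8 ≤ Nat.card K ∧ ∃ g, conjSub g M₀ = (subHom K.subtype hp.twist).range := by
  classical
  have he := hp.twist
  have h2 := he.two
  have h0 : (0 : F) ^ e = 0 := zero_pow (Nat.ne_zero_of_lt he.one_lt)
  obtain ⟨g, hg, K, hK8, hK3, hB, hT, hH⟩ := exists_subfield_conj hp hM₀ hne₀ hnB₀ hs₀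
  set M := conjSub g M₀ with hMdef
  have hM : Good hp M := hM₀.conj_borel hp hg
  have hnB : ¬ M ≤ borel F e := transport_nn hp hg hnB₀
  have hcB : Nat.card (bSet hp.twist M) = Nat.card K :=
    Nat.card_congr (Equiv.subtypeEquivRight fun b => hB b)
  have hne : (uGroup hp.twist).subgroupOf M ≠ ⊥ := by
    refine fun hbot => one_ne_zero (α := F) ?_
    have hm : (⟨P he 0 1, (hB 1).2 K.one_mem⟩ : M) ∈ (uGroup hp.twist).subgroupOf M :=
      P_mem_uGroup he 0 1
    rw [hbot, Subgroup.mem_bot] at hm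
    exact (P_injective he ((congrArg Subtype.val hm).trans (P_zero he).symm)).2
  have h := hyp_of_good hp hM
  have hΩ : Nat.card (SzCount.omegaOne (hyp_of_good hp hM)) = Nat.card K :=
    (card_omegaOne hp hM).trans hcB
  have hnn : Subgroup.normalizer (((uGroup hp.twist).subgroupOf M : Subgroup M) : Set M) ≠ ⊤ := by
    rw [normalizer_sub_eq hp M hne, Ne, Subgroup.subgroupOf_eq_top]
    exact hnB
  -- the first coordinates
  have hAK : ∀ a ∈ aSet hp.twist M, a ∈ K := by
    rintro a ⟨b, hb⟩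
    have h1 := mul_mem hb hb
    rw [P_mul] at h1
    have h3 : a ^ (e + 1) ∈ K := by
      rw [← hB, mem_bSet]
      convert h1 using 2 <;> grind
    let g' : K → K := fun x => ⟨(x : F) ^ (e + 1), pow_mem x.2 _⟩
    have hcancel : ∀ x y : F, x ^ (e + 1) = y ^ (e + 1) → x = y := fun x y h' => by
      rcases eq_or_ne y 0 with rfl | hne'
      · simpa using h'
      · exact (div_eq_one_iff_eq hne').1 (eq_one_of_pow_e1 he
          (by rw [div_pow, h', div_self (pow_ne_zero _ hne')]))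
    have hg' : Function.Injective g' := fun x y h' =>
      Subtype.ext (hcancel _ _ (congrArg Subtype.val h'))
    obtain ⟨x, hx⟩ := (Finite.injective_iff_bijective.1 hg').2 ⟨_, h3⟩
    exact hcancel _ _ (congrArg Subtype.val hx) ▸ x.2
  have hpowmem : ∀ r : Fˣ, (r : F) ∈ K → ∀ a b, P he a b ∈ M →
      P he ((r : F) ^ e * a) ((r : F) ^ (e + 2) * b) ∈ M := fun r hr a b hab => by
    rw [← H_conj_P]
    exact mul_mem (mul_mem (hH r hr) hab) (inv_mem (hH r hr))
  have hsurj : ∀ x : F, x ∈ K → x ≠ 0 → ∃ r : Fˣ, (r : F) ∈ K ∧ (r : F) ^ e = x := by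
    intro x hx hx0
    obtain ⟨r, hr⟩ := (units_pow_e_bijective he).2 (Units.mk0 x hx0)
    have hr' : (r : F) ^ e = x := by simpa using congrArg Units.val hr
    refine ⟨r, ?_, hr'⟩
    have h3 : (r : F) ^ 2 ∈ K := by rw [← he.pow_pow, hr']; exact pow_mem hx e
    let g' : K → K := fun y => ⟨(y : F) ^ 2, pow_mem y.2 _⟩
    have hg' : Function.Injective g' := fun y z h' =>
      Subtype.ext (sq_inj he (congrArg Subtype.val h'))
    obtain ⟨y, hy⟩ := (Finite.injective_iff_bijective.1 hg').2 ⟨_, h3⟩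
    exact sq_inj he (congrArg Subtype.val hy) ▸ y.2
  -- the torus
  obtain ⟨r₀, hr₀K, hr₀⟩ : ∃ r : Fˣ, (r : F) ∈ K ∧ r ≠ 1 := by
    by_contra hcon
    push Not at hcon
    have hsub : (K : Set F) ⊆ {0, 1} := fun x hx => by
      rcases eq_or_ne x 0 with rfl | hx0
      · exact Or.inl rfl
      · exact Or.inr (congrArg Units.val (hcon (Units.mk0 x hx0) hx))
    have := Set.ncard_le_ncard hsub (Set.toFinite _)
    rw [← Nat.card_coe_set_eq] at this
    have h3 : ({0, 1} : Set F).ncard ≤ 2 := (Set.ncard_insert_le _ _).trans (by rw [Set.ncard_singleton])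
    have h4 : Nat.card (↥(K : Set F)) = Nat.card K := rfl
    omega
  set x₀ : M := ⟨H e he r₀, hH r₀ hr₀K⟩ with hx₀
  have hx₀1 : x₀ ≠ 1 := fun h' =>
    hr₀ (H_injective he ((congrArg Subtype.val h').trans (H_one he).symm))
  have hHc : Subgroup.centralizer {(x₀ : Sz F e)} = hGroup he := centralizer_H he hr₀
  have hcen : SzCount.cen x₀ = (hGroup he).subgroupOf M := by rw [cen_eq_subgroupOf, hHc]
  have hmemH : ∀ y : M, y ∈ SzCount.cen x₀ ↔
      ∃ r : Fˣ, (r : F) ∈ K ∧ (y : Sz F e) = H e he r := by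
    intro y
    rw [hcen, Subgroup.mem_subgroupOf]
    constructor
    · rintro ⟨r, hr⟩
      refine ⟨r, (hT r).1 ((mem_tSet he).2 ⟨0, 0, ?_⟩), hr.symm⟩
      rw [P_zero, one_mul]
      exact (show H e he r = (y : Sz F e) from hr) ▸ y.2
    · rintro ⟨r, -, hr⟩
      exact ⟨r, hr.symm⟩
  have hd₀ : Nat.card (SzCount.cen x₀) = Nat.card K - 1 := by
    have : Fintype K := Fintype.ofFinite K
    rw [Nat.card_eq_fintype_card (α := K), ← Fintype.card_units, ← Nat.card_eq_fintype_card]
    refine (Nat.card_congr (Equiv.ofBijective (fun r : Kˣ =>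
      (⟨⟨H e he (Units.map K.subtype.toMonoidHom r), hH _ (r : K).2⟩,
        (hmemH _).2 ⟨_, (r : K).2, rfl⟩⟩ : SzCount.cen x₀)) ⟨fun r r' h' => ?_, fun y => ?_⟩)).symm
    · have := H_injective he (congrArg (fun y => y.1.1) h')
      exact Units.ext (Subtype.ext (congrArg Units.val this))
    · obtain ⟨r, hr, hry⟩ := (hmemH y.1).1 y.2
      refine ⟨Units.mk0 ⟨r, hr⟩ (fun h' => r.ne_zero (congrArg Subtype.val h')), ?_⟩
      refine Subtype.ext (Subtype.ext ?_)
      rw [hry]
      exact congrArg (H e he) (Units.ext rfl)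
  have hx₀t : SzCount.IsTor ((uGroup hp.twist).subgroupOf M) x₀ := by
    refine ⟨hx₀1, fun hc => ?_⟩
    obtain ⟨n, hn⟩ := SzCount.two_elem_of_mem_conjSet h hc
    have h3 : orderOf x₀ ∣ q - 1 := by
      rw [← Subgroup.orderOf_coe, ← card_hGroup he]
      exact Subgroup.orderOf_dvd_natCard _ (H_mem_hGroup he r₀)
    rcases Nat.eq_zero_or_pos n with rfl | hn0
    · exact hx₀1 (orderOf_eq_one_iff.1 (by simpa using hn))
    · exact odd_sub_one hp ((hn ▸ dvd_pow_self 2 hn0.ne').trans h3)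
  have hk₀ : Nat.card (Subgroup.normalizer (SzCount.cen x₀ : Set M)) ≤
      2 * Nat.card (SzCount.cen x₀) := by
    obtain ⟨j, hj, hjN⟩ := normalizer_card_sub M (hGroup he) x₀
      (fun h' => hx₀1 (Subtype.ext h')) (H_mem_hGroup he r₀)
      (by rintro _ ⟨t, rfl⟩ ht; exact centralizer_H he fun h' => ht (by rw [h', map_one]))
      (k := 2) (by
        rw [card_normalizer_hGroup he (Fintype.exists_ne_of_one_lt_card
          (by rw [Fintype.card_units]; have := hp.eight; omega) 1), card_hGroup])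
    rw [hcen, hjN]
    exact Nat.mul_le_mul_right _ (Nat.le_of_dvd two_pos hj)
  -- the first coordinates fill the subfield
  have hAall : ∀ a ∈ K, a ∈ aSet hp.twist M := by
    by_contra hcon
    push Not at hcon
    obtain ⟨a₁, ha₁, ha₁n⟩ := hcon
    have hA0 : ∀ a ∈ aSet hp.twist M, a = 0 := by
      rintro a ⟨b, hb⟩
      by_contra ha0
      refine ha₁n ?_
      rcases eq_or_ne a₁ 0 with rfl | ha₁0
      · exact zero_mem _
      obtain ⟨r, hr, hr'⟩ := hsurj (a₁ / a) (K.div_mem ha₁ (hAK a ⟨b, hb⟩))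
        (div_ne_zero ha₁0 ha0)
      refine ⟨(r : F) ^ (e + 2) * b, ?_⟩
      have := hpowmem r hr a b hb
      rwa [hr', div_mul_cancel₀ _ ha0] at this
    have hcA : Nat.card (aSet hp.twist M) = 1 := by
      rw [(AddSubgroup.eq_bot_iff_forall _).2 hA0, AddSubgroup.card_bot]
    refine hnn (SzCount.elem_case h hne (by omega) (by omega) ?_ hx₀t (by rw [hd₀, hΩ]) hk₀)
    rw [card_S hp, hcA, one_mul, hΩ, hcB]
  have hcA : Nat.card (aSet hp.twist M) = Nat.card K :=
    Nat.card_congr (Equiv.subtypeEquivRight fun a => ⟨hAK a, hAall a⟩)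
  obtain ⟨hcardM, hk2⟩ := SzCount.square_case h hne (by omega)
    (by rw [card_S hp, hcA, hcB, hΩ, pow_two]) hnn hx₀t (by rw [hd₀, hΩ]) hk₀
  rw [hΩ] at hcardM
  -- the unitriangular part has coordinates in the subfield
  have hPK : ∀ a b, P he a b ∈ M → b ∈ K := by
    have hdiff : ∀ a b b', P he a b ∈ M → P he a b' ∈ M → b' - b ∈ K := by
      intro a b b' hb hb'
      have h3 := mul_mem (inv_mem hb) hb'
      rw [P_inv, P_mul] at h3
      rw [← hB, mem_bSet]
      convert h3 using 2 <;> grind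
    obtain ⟨c, hc⟩ := hAall 1 K.one_mem
    have hform : ∀ r : Fˣ, (r : F) ∈ K →
        P he ((r : F) ^ e) ((r : F) ^ (e + 2) * c) ∈ M := fun r hr => by
      simpa using hpowmem r hr 1 c hc
    obtain ⟨u, huK, hu0, hu1⟩ : ∃ u ∈ K, u ≠ 0 ∧ u ≠ 1 :=
      ⟨r₀, hr₀K, r₀.ne_zero, fun h' => hr₀ (Units.ext h')⟩
    have h1u : (1 : F) + u ≠ 0 := fun h' => hu1 (by linear_combination h' - h2)
    set r := Units.mk0 u hu0
    set w := Units.mk0 (1 + u) h1u
    have h3 := mul_mem (hform 1 (by simpa using K.one_mem)) (hform r huK)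
    rw [P_mul] at h3
    have h4 := hform w (K.add_mem K.one_mem huK)
    have hfirst : (((1 : Fˣ) : F)) ^ e + (r : F) ^ e = (w : F) ^ e := by
      simp [r, w, he.add_pow]
    rw [hfirst] at h3
    have h5 := hdiff _ _ _ h3 h4
    simp only [r, w, Units.val_mk0, Units.val_one, one_pow, one_mul] at h5
    have hue : u ^ e + u ^ 2 ≠ 0 := by
      intro h'
      have h6 : u ^ e = u ^ 2 := by linear_combination h' - h2 * u ^ 2
      have h7 := congrArg (fun x => x ^ e) h6
      simp only [he.pow_pow] at h7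
      rw [← pow_mul, mul_comm, pow_mul, h6] at h7
      have h8 : u ^ 2 = 1 := mul_left_cancel₀ (pow_ne_zero 2 hu0) (by linear_combination -h7)
      exact hu1 (sq_inj he (by rw [h8, one_pow]))
    have hcK : c ∈ K := by
      have h6 : (u ^ e + u ^ 2) * c - u ^ e ∈ K := by
        convert h5 using 1
        rw [pow_add (1 + u), he.add_pow, one_pow, pow_add u]
        grind
      have h7 := K.add_mem h6 (pow_mem huK e)
      rw [sub_add_cancel] at h7
      have h8 := K.div_mem h7 (K.add_mem (pow_mem huK e) (pow_mem huK 2))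
      rwa [mul_div_cancel_left₀ _ hue] at h8
    intro a b hab
    rcases eq_or_ne a 0 with rfl | ha
    · rwa [← hB, mem_bSet]
    obtain ⟨r, hr, hr'⟩ := hsurj a (hAK a ⟨b, hab⟩) ha
    have h9 := hdiff _ _ _ (hr' ▸ hform r hr) hab
    have := K.add_mem h9 (K.mul_mem (pow_mem hr (e + 2)) hcK)
    simpa using this
  have hPM : ∀ a b, a ∈ K → b ∈ K → P he a b ∈ M := by
    intro a b ha hb
    obtain ⟨b', hb'⟩ := hAall a ha
    have h3 : P he 0 (b - b') ∈ M := (hB _).2 (K.sub_mem hb (hPK a b' hb'))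
    have h4 := mul_mem hb' h3
    rw [P_mul] at h4
    simpa using h4
  -- an element of the normaliser of the torus
  obtain ⟨n, hnN, hnV⟩ : ∃ n : M, n ∈ Subgroup.normalizer (SzCount.cen x₀ : Set M) ∧
      n ∉ SzCount.cen x₀ := by
    by_contra hcon
    push Not at hcon
    have h3 := Subgroup.card_le_of_le hcon
    have h4 : 0 < Nat.card (SzCount.cen x₀) := Nat.card_pos
    omega
  obtain ⟨t, ht⟩ : ∃ t, (n : Sz F e) * H e he r₀ * (n : Sz F e)⁻¹ = H e he t := by
    have h3 := (Subgroup.mem_normalizer_iff.1 hnN x₀).1 (SzCount.mem_cen_self x₀)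
    obtain ⟨r, -, hr⟩ := (hmemH _).1 h3
    exact ⟨r, hr⟩
  have ht1 : t ≠ 1 := by
    rintro rfl
    rw [H_one] at ht
    exact hr₀ (H_injective he ((conj_eq_one_iff.1 ht).trans (H_one he).symm))
  obtain ⟨r, hr⟩ : ∃ r, (n : Sz F e) = W he * H e he r := by
    rcases H_conj_cases he ht1 ht with ⟨h3, -⟩ | ⟨h3, -⟩
    · exact absurd (by rw [hcen]; exact h3) hnV
    · exact h3
  obtain ⟨v, hv⟩ : ∃ v : Fˣ, v * v = r := by
    have hinj : Function.Injective fun v : Fˣ => v * v := fun a b hab =>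
      Units.ext (sq_inj he (by rw [pow_two, pow_two]; exact congrArg Units.val hab))
    exact (Finite.injective_iff_bijective.1 hinj).2 r
  set M' := conjSub (H e he v) M with hM'
  have hW : W he ∈ M' := by
    have h3 := (mem_conjSub (g := H e he v)).2 n.2
    rw [hr, ← mul_assoc, H_conj_W, mul_assoc (W he), H_mul, mul_assoc, H_inv, H_mul, ← hv,
      show v⁻¹ * (v * v) * v⁻¹ = 1 by group, H_one, mul_one] at h3
    exact h3
  have hH' : ∀ t : Fˣ, (t : F) ∈ K → H e he t ∈ M' := by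
    intro t ht'
    have h3 := (mem_conjSub (g := H e he v)).2 (hH t ht')
    rwa [H_mul, H_inv, H_mul, show v * t * v⁻¹ = t by rw [mul_comm v, mul_inv_cancel_right]] at h3
  have hP' : ∀ a b, a ∈ K → b ∈ K →
      P he ((v : F) ^ e * a) ((v : F) ^ (e + 2) * b) ∈ M' := by
    intro a b ha hb
    rw [← H_conj_P]
    exact mem_conjSub.2 (hPM a b ha hb)
  -- the count forces `v` into the subfield
  have hcM' : Nat.card M' = Nat.card K ^ 2 * (Nat.card K - 1) * (Nat.card K ^ 2 + 1) := by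
    rw [hM', Subgroup.card_map_of_injective (MulAut.conj _).injective, hcardM]
  have hvK : (v : F) ∈ K := by
    let S' := {x : F × F × F × F × Fˣ | x.1 ∈ K ∧ x.2.1 ∈ K ∧ x.2.2.1 ∈ K ∧ x.2.2.2.1 ∈ K ∧
      (x.2.2.2.2 : F) ∈ K}
    let f : Option S' → Option ({y : M' // (y : Sz F e) ∉ borel F e}) := fun o => o.map fun x =>
      ⟨⟨P he ((v : F) ^ e * x.1.1) ((v : F) ^ (e + 2) * x.1.2.1) * W he *
        (P he ((v : F) ^ e * x.1.2.2.1) ((v : F) ^ (e + 2) * x.1.2.2.2.1) * H e he x.1.2.2.2.2),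
        mul_mem (mul_mem (hP' _ _ x.2.1 x.2.2.1) hW)
          (mul_mem (hP' _ _ x.2.2.2.1 x.2.2.2.2.1) (hH' _ x.2.2.2.2.2))⟩, fun hb => by
        have h3 := (Subgroup.mul_mem_cancel_right _ (mul_mem (P_mem_borel he _ _)
          (H_mem_borel he _))).1 hb
        exact W_notMem_borel he ((Subgroup.mul_mem_cancel_left _ (P_mem_borel he _ _)).1 h3)⟩
    let g₁ : S' → {y : M' // (y : Sz F e) ∉ borel F e} := fun x =>
      ⟨⟨P he ((v : F) ^ e * x.1.1) ((v : F) ^ (e + 2) * x.1.2.1) * W he *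
        (P he ((v : F) ^ e * x.1.2.2.1) ((v : F) ^ (e + 2) * x.1.2.2.2.1) * H e he x.1.2.2.2.2),
        mul_mem (mul_mem (hP' _ _ x.2.1 x.2.2.1) hW)
          (mul_mem (hP' _ _ x.2.2.2.1 x.2.2.2.2.1) (hH' _ x.2.2.2.2.2))⟩, fun hb => by
        have h3 := (Subgroup.mul_mem_cancel_right _ (mul_mem (P_mem_borel he _ _)
          (H_mem_borel he _))).1 hb
        exact W_notMem_borel he ((Subgroup.mul_mem_cancel_left _ (P_mem_borel he _ _)).1 h3)⟩
    have hg₁ : Function.Injective g₁ := by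
      intro x y hxy
      have h3 := congrArg (fun z => z.1.1) hxy
      obtain ⟨e1, e2, e3, e4, e5⟩ := bruhat_inj he h3
      have hve := pow_ne_zero e v.ne_zero
      have hve2 := pow_ne_zero (e + 2) v.ne_zero
      exact Subtype.ext (Prod.ext (mul_left_cancel₀ hve e1) (Prod.ext (mul_left_cancel₀ hve2 e2)
        (Prod.ext (mul_left_cancel₀ hve e3) (Prod.ext (mul_left_cancel₀ hve2 e4) e5))))
    have hS'card : Nat.card S' = Nat.card K ^ 4 * (Nat.card K - 1) := by
      have : Fintype K := Fintype.ofFinite K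
      have e1 : S' ≃ K × K × K × K × Kˣ :=
        { toFun := fun x => (⟨_, x.2.1⟩, ⟨_, x.2.2.1⟩, ⟨_, x.2.2.2.1⟩, ⟨_, x.2.2.2.2.1⟩,
            Units.mk0 ⟨_, x.2.2.2.2.2⟩ fun h' => x.1.2.2.2.2.ne_zero (congrArg Subtype.val h'))
          invFun := fun y => ⟨((y.1 : F), (y.2.1 : F), (y.2.2.1 : F), (y.2.2.2.1 : F),
            Units.map K.subtype.toMonoidHom y.2.2.2.2),
            y.1.2, y.2.1.2, y.2.2.1.2, y.2.2.2.1.2, (y.2.2.2.2 : K).2⟩
          left_inv := fun x => Subtype.ext (Prod.ext rfl (Prod.ext rfl (Prod.ext rfl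
            (Prod.ext rfl (Units.ext rfl)))))
          right_inv := fun y => Prod.ext rfl (Prod.ext rfl (Prod.ext rfl
            (Prod.ext rfl (Units.ext rfl)))) }
      rw [Nat.card_congr e1]
      simp only [Nat.card_prod]
      rw [Nat.card_eq_fintype_card (α := K), Nat.card_eq_fintype_card (α := Kˣ), Fintype.card_units]
      ring
    have hBcard : Nat.card K ^ 2 * (Nat.card K - 1) ≤
        Nat.card {y : M' // (y : Sz F e) ∈ borel F e} := by
      have : Fintype K := Fintype.ofFinite K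
      rw [show Nat.card K ^ 2 * (Nat.card K - 1) = Nat.card (K × K × Kˣ) by
        simp only [Nat.card_prod]
        rw [Nat.card_eq_fintype_card (α := K), Nat.card_eq_fintype_card (α := Kˣ),
          Fintype.card_units]
        ring]
      refine Nat.card_le_card_of_injective (fun x : K × K × Kˣ =>
        (⟨⟨P he ((v : F) ^ e * x.1) ((v : F) ^ (e + 2) * x.2.1) *
          H e he (Units.map K.subtype.toMonoidHom x.2.2),
          mul_mem (hP' _ _ x.1.2 x.2.1.2) (hH' _ (x.2.2 : K).2)⟩,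
          mul_mem (P_mem_borel he _ _) (H_mem_borel he _)⟩ :
            {y : M' // (y : Sz F e) ∈ borel F e})) fun x y hxy => ?_
      obtain ⟨e1, e2, e3⟩ := borel_inj he (congrArg (fun z => z.1.1) hxy)
      refine Prod.ext (Subtype.ext (mul_left_cancel₀ (pow_ne_zero e v.ne_zero) e1))
        (Prod.ext (Subtype.ext (mul_left_cancel₀ (pow_ne_zero (e + 2) v.ne_zero) e2))
          (Units.ext (Subtype.ext (congrArg Units.val e3))))
    have htot : Nat.card {y : M' // (y : Sz F e) ∈ borel F e} +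
        Nat.card {y : M' // (y : Sz F e) ∉ borel F e} = Nat.card M' := by
      rw [← Nat.card_sum]
      exact Nat.card_congr (Equiv.sumCompl _)
    have hle : Nat.card {y : M' // (y : Sz F e) ∉ borel F e} ≤ Nat.card S' := by
      rw [hS'card]
      rw [hcM'] at htot
      have e9 : Nat.card K ^ 2 * (Nat.card K - 1) * (Nat.card K ^ 2 + 1) =
          Nat.card K ^ 4 * (Nat.card K - 1) + Nat.card K ^ 2 * (Nat.card K - 1) := by ring
      omega
    have hsur := (hg₁.bijective_of_nat_card_le hle).2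
    have hgM : W he * P he 0 ((v : F) ^ (e + 2)) * W he ∈ M' := by
      refine mul_mem (mul_mem hW ?_) hW
      simpa using hP' 0 1 K.zero_mem K.one_mem
    have hgn : W he * P he 0 ((v : F) ^ (e + 2)) * W he ∉ borel F e := by
      intro hb
      have h1 : (P he 0 0 * W he)⁻¹ * (P he 0 ((v : F) ^ (e + 2)) * W he) ∈ borel F e := by
        rwa [P_zero, one_mul, W_inv, ← mul_assoc]
      exact pow_ne_zero _ v.ne_zero ((P_W_P_mem_borel_iff he h1).2).symm
    obtain ⟨⟨⟨a, b, c, d, t'⟩, ha, hrest⟩, hx⟩ := hsur ⟨⟨_, hgM⟩, hgn⟩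
    have hmat := congrArg (fun z => mat z.1.1) hx
    simp only [g₁, mat_mul] at hmat
    have e30 := congrFun (congrFun hmat 3) 0
    have e20 := congrFun (congrFun hmat 2) 0
    simp [mat_P, mat_W, mat, coe_H, Pmat, Jmat, Hmat, nrm, h0, Matrix.mul_apply,
      Fin.sum_univ_four, Matrix.vecMul_diagonal] at e30 e20
    set L := (t' : F) ^ (e + 1) with hL
    have hve := pow_ne_zero e v.ne_zero
    have hv2 : ((v : F) ^ e) ^ 2 * a = 1 := by
      rw [e30] at e20
      have h3 : ((v : F) ^ (e + 2)) ^ e = (v : F) ^ 2 * ((v : F) ^ e) ^ 2 := by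
        rw [← pow_mul, mul_comm, pow_mul, pow_add, he.pow_pow]
      rw [h3, pow_add] at e20
      apply mul_left_cancel₀ (mul_ne_zero (pow_ne_zero 2 v.ne_zero) hve)
      linear_combination e20
    have hve2K : ((v : F) ^ e) ^ 2 ∈ K := by
      rw [eq_inv_of_mul_eq_one_left hv2]
      exact K.inv_mem ha
    let g' : K → K := fun y => ⟨(y : F) ^ 2, pow_mem y.2 _⟩
    have hg' : Function.Injective g' := fun y z h' =>
      Subtype.ext (sq_inj he (congrArg Subtype.val h'))
    obtain ⟨y, hy⟩ := (Finite.injective_iff_bijective.1 hg').2 ⟨_, hve2K⟩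
    have hyv : (y : F) = (v : F) ^ e := sq_inj he (congrArg Subtype.val hy)
    have hv2' : (v : F) ^ 2 ∈ K := by
      rw [← he.pow_pow, ← hyv]
      exact pow_mem y.2 e
    obtain ⟨y', hy'⟩ := (Finite.injective_iff_bijective.1 hg').2 ⟨_, hv2'⟩
    exact sq_inj he (congrArg Subtype.val hy') ▸ y'.2
  refine ⟨K, hK8, H e he v * g, ?_⟩
  rw [← conjSub_conjSub, ← hMdef, ← hM']
  symm
  refine Subgroup.eq_of_le_of_card_ge ?_ ?_
  · have hk := twist_comap K.subtype he
    have htop : M'.comap (subHom K.subtype he) = ⊤ := by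
      refine closure_gen hk _ (fun a b => ?_) (fun t => ?_) ?_
      · rw [Subgroup.mem_comap, subHom_P]
        have h3 := hP' ((a : F) / (v : F) ^ e) ((b : F) / (v : F) ^ (e + 2))
          (K.div_mem a.2 (pow_mem hvK e)) (K.div_mem b.2 (pow_mem hvK _))
        rwa [mul_div_cancel₀ _ (pow_ne_zero _ v.ne_zero),
          mul_div_cancel₀ _ (pow_ne_zero _ v.ne_zero)] at h3
      · rw [Subgroup.mem_comap, subHom_H]
        exact hH' _ (t : K).2
      · rw [Subgroup.mem_comap, subHom_W]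
        exact hW
    rintro _ ⟨x, rfl⟩
    exact (htop ▸ Subgroup.mem_top x : x ∈ M'.comap (subHom K.subtype he))
  · have : Fintype K := Fintype.ofFinite K
    rw [hcM', ← Nat.card_congr (MonoidHom.ofInjective (subHom_injective K.subtype he)).toEquiv,
      card_Sz (twist_comap K.subtype he), Nat.card_eq_fintype_card (α := K)]
    all_goals exact le_of_eq (by ring)

/-- Every subgroup of the Suzuki group has one of the three shapes. -/
theorem subgroup_shape (hp : Params F e) (M : Subgroup (Sz F e)) : SubgroupShape hp M := by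
  obtain ⟨g, hg⟩ := exists_good hp M
  suffices hgood : SubgroupShape hp (conjSub g M) by
    rcases hgood with ⟨c, hc⟩ | ⟨x, hx1, hx2, hx3⟩ | ⟨K, hK, c, hc⟩
    · exact Or.inl ⟨c * g, by rwa [← conjSub_conjSub]⟩
    · refine Or.inr (Or.inl ⟨g⁻¹ * x * g, fun h' => hx1 ?_, fun h' => hx2 ?_, fun y hy => ?_⟩)
      · simpa [mul_assoc] using congrArg (fun y => g * y * g⁻¹) h'
      · have h1 := h'.map (MulAut.conj g).toMonoidHom
        rw [map_centralizer_singleton] at h1
        rwa [show MulAut.conj g (g⁻¹ * x * g) = x by simp [mul_assoc]] at h1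
      · have h1 := hx3 (mem_conjSub.2 hy)
        rw [show x = MulAut.conj g (g⁻¹ * x * g) by simp [mul_assoc], ← map_centralizer_singleton,
          ← Subgroup.map_normalizer_eq_of_bijective _ (f := (MulAut.conj g).toMonoidHom)
            (MulAut.conj g).bijective] at h1
        exact (Subgroup.mem_map_iff_mem (MulAut.conj g).injective).1 h1
    · exact Or.inr (Or.inr ⟨K, hK, c * g, by rwa [← conjSub_conjSub]⟩)
  generalize conjSub g M = N at hg
  by_cases hnB : N ≤ borel F e
  · exact Or.inl ⟨1, fun x hx => hnB (by simpa using mem_conjSub'.1 hx)⟩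
  by_cases hne : (uGroup hp.twist).subgroupOf N = ⊥
  · -- odd order
    have hodd : ¬ 2 ∣ Nat.card N := by
      have hr : (uGroup hp.twist).relIndex N = Nat.card N := by
        rw [Subgroup.relIndex, hne, Subgroup.index_bot]
      rw [← hr]
      exact hg
    rcases SzCount.odd_case (hyp_of_good hp hg) hne hodd with hall | ⟨x, hx, htop⟩
    · exact absurd (fun y hy => by
        rw [show y = 1 from congrArg Subtype.val (hall ⟨y, hy⟩)]; exact one_mem _) hnB
    · exact shape_of_torus hp hx hg (eq_top_iff.2 (htop ▸ Subgroup.le_normalizer))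
  obtain ⟨k, hk1, hk⟩ := bSet_nontrivial hp hg hne
  rcases (show k = 1 ∨ 2 ≤ k by omega) with rfl | hk2
  · exact shape_two hp hg hne hnB (by rw [hk]; rfl)
  · exact Or.inr (Or.inr (shape_big hp hg hne hnB
      (by rw [hk]; exact le_trans (by norm_num) (Nat.pow_le_pow_right two_pos hk2))))

end CfsgLib.KnownB.Suzuki
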