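import Cfsg.Agent.Lib.KnownB.SuzukiSubgroupsMain
import Mathlib.FieldTheory.Finite.GaloisField

set_option autoImplicit false

/-!
Subfield Suzuki subgroups in terms of the order of the subfield.
-/

namespace CfsgLib.KnownB.Suzuki

open Cfsg.Lie CfsgLib.KnownB.SzElem CfsgLib.KnownB.TICount

variable {F : Type*} [Field F]

lemma Sz_eq_of_pow {e e' : ℕ} (he : Twist F e) (he' : Twist F e') (h : ∀ x : F, x ^ e = x ^ e') :
    Sz F e = Sz F e' := by
  ext g
  rw [mem_Sz_iff he, mem_Sz_iff he', Cond, Cond,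
    show (fun x : F => x ^ e) = fun x => x ^ e' from funext h]

lemma subHom_surjective {K : Type*} [Field K] {e : ℕ} (σ : K ≃+* F) (he : Twist F e) :
    Function.Surjective (subHom σ.toRingHom he) := by
  intro g
  refine ⟨subHom σ.symm.toRingHom (twist_comap σ.toRingHom he) g, mat_injective ?_⟩
  rw [mat_subHom, mat_subHom]
  ext i j
  simp

/-- The group over an isomorphic field. -/
noncomputable def szCongr {K : Type*} [Field K] {e : ℕ} (σ : K ≃+* F) (he : Twist F e) :
    Sz K e ≃* Sz F e :=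
  MulEquiv.ofBijective (subHom σ.toRingHom he)
    ⟨subHom_injective _ he, subHom_surjective σ he⟩

variable [Fintype F]

lemma exists_eq_mul_of_dvd {k m : ℕ} (h : 2 * k + 1 ∣ 2 * m + 1) :
    ∃ j, m = k + (2 * k + 1) * j := by
  obtain ⟨d, hd⟩ := h
  obtain ⟨j, hj⟩ : Odd d := (Nat.odd_mul.1 (hd ▸ odd_two_mul_add_one m)).2
  subst hj
  exact ⟨j, by linarith⟩

lemma finrank_eq {F : Type*} [Field F] [Fintype F] {n : ℕ} (hF : Fintype.card F = 2 ^ n)
    [Algebra (ZMod 2) F] : Module.finrank (ZMod 2) F = n := by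
  apply Nat.pow_right_injective le_rfl
  have : Fact (Nat.Prime 2) := ⟨Nat.prime_two⟩
  have h := Module.card_eq_pow_finrank (K := ZMod 2) (V := F)
  rw [ZMod.card, hF] at h
  exact h.symm

lemma subfield_odd_power {m : ℕ} (hF : Fintype.card F = 2 ^ (2 * m + 1)) (K : Subfield F) :
    ∃ k, Nat.card K = 2 ^ (2 * k + 1) ∧ 2 * k + 1 ∣ 2 * m + 1 := by
  have h := Module.natCard_eq_pow_finrank (K := K) (V := F)
  rw [Nat.card_eq_fintype_card (α := F), hF] at h
  have hd0 : Module.finrank K F ≠ 0 := fun h0 => by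
    rw [h0, pow_zero] at h
    exact absurd h (Nat.one_lt_two_pow (by omega)).ne'
  obtain ⟨n, -, hn⟩ := (Nat.dvd_prime_pow Nat.prime_two).1
    (show Nat.card K ∣ 2 ^ (2 * m + 1) by rw [h]; exact dvd_pow_self _ hd0)
  rw [hn, ← pow_mul] at h
  have h' : 2 * m + 1 = n * Module.finrank K F := Nat.pow_right_injective le_rfl h
  obtain ⟨k, hk⟩ : Odd n := (Nat.odd_mul.1 (h' ▸ odd_two_mul_add_one m)).1
  subst hk
  exact ⟨k, hn, Dvd.intro _ h'.symm⟩

lemma pow_twist_eq {K : Type*} [Field K] [Fintype K] {k m : ℕ}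
    (hK : Fintype.card K = 2 ^ (2 * k + 1)) (h : 2 * k + 1 ∣ 2 * m + 1) (x : K) :
    x ^ (2 ^ (m + 1)) = x ^ (2 ^ (k + 1)) := by
  obtain ⟨j, rfl⟩ := exists_eq_mul_of_dvd h
  rw [show k + (2 * k + 1) * j + 1 = (k + 1) + (2 * k + 1) * j by ring, pow_add, pow_mul,
    pow_mul (2 : ℕ), ← hK, FiniteField.pow_card_pow]

/-- The group over an embedded field, as the ovoid stabiliser. -/
lemma nonempty_range_equiv {K : Type*} [Field K] [Fintype K] {k m : ℕ} (hk : 1 ≤ k)
    (hK : Fintype.card K = 2 ^ (2 * k + 1)) (hdvd : 2 * k + 1 ∣ 2 * m + 1) (ι : K →+* F)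
    (he : Twist F (2 ^ (m + 1))) :
    Nonempty ((subHom ι he).range ≃* ↥(Cfsg.Sz K k)) := by
  obtain ⟨hk', ψ, -⟩ := exists_equiv_of_card hk hK
  exact ⟨((MonoidHom.ofInjective (subHom_injective ι he)).symm.trans
    (MulEquiv.subgroupCongr (Sz_eq_of_pow (twist_comap ι he) hk'
      (pow_twist_eq hK hdvd)))).trans ψ⟩

lemma card_subHom_range {K : Type*} [Field K] [Fintype K] {e : ℕ} (ι : K →+* F) (he : Twist F e) :
    Nat.card (subHom ι he).range =
      Fintype.card K ^ 2 * (Fintype.card K ^ 2 + 1) * (Fintype.card K - 1) := by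
  rw [← Nat.card_congr (MonoidHom.ofInjective (subHom_injective ι he)).toEquiv,
    card_Sz (twist_comap ι he)]
  ring

omit [Fintype F] in
lemma range_subHom_fieldRange {K : Type*} [Field K] {e : ℕ} (ι : K →+* F) (he : Twist F e) :
    (subHom ι he).range = (subHom ι.fieldRange.subtype he).range := by
  let ι' : K ≃+* ι.fieldRange :=
    RingEquiv.ofBijective ι.rangeRestrictField
      ⟨ι.rangeRestrictField.injective, fun y => by
        obtain ⟨x, hx⟩ := y.2; exact ⟨x, Subtype.ext hx⟩⟩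
  apply le_antisymm
  · rintro _ ⟨g, rfl⟩
    refine ⟨szCongr ι' (twist_comap ι.fieldRange.subtype he) g, mat_injective ?_⟩
    rw [mat_subHom, mat_subHom]
    ext i j
    rfl
  · rintro _ ⟨g, rfl⟩
    obtain ⟨g, rfl⟩ := (szCongr ι' (twist_comap ι.fieldRange.subtype he)).surjective g
    refine ⟨g, mat_injective ?_⟩
    rw [mat_subHom, mat_subHom]
    ext i j
    rfl

lemma subfield_eq_of_card {K L : Subfield F} (h : Nat.card K = Nat.card L) : K = L := by
  classical
  have hroot : ∀ N : Subfield F, Nat.card N = Nat.card K → (N : Set F) ⊆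
      ((Polynomial.X ^ Nat.card K - Polynomial.X : Polynomial F).roots.toFinset : Set F) := by
    intro N hN x hx
    have : Fintype N := Fintype.ofFinite N
    have hlt : 1 < Nat.card K := Finite.one_lt_card
    rw [Finset.mem_coe, Multiset.mem_toFinset, Polynomial.mem_roots
      (FiniteField.X_pow_card_sub_X_ne_zero F hlt), Polynomial.IsRoot.def, Polynomial.eval_sub,
      Polynomial.eval_pow, Polynomial.eval_X, sub_eq_zero, ← hN, Nat.card_eq_fintype_card]
    exact congrArg Subtype.val (FiniteField.pow_card (⟨x, hx⟩ : N))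
  set R : Set F :=
    ((Polynomial.X ^ Nat.card K - Polynomial.X : Polynomial F).roots.toFinset : Set F) with hR
  have hcard : R.ncard ≤ Nat.card K := by
    rw [hR, Set.ncard_coe_finset]
    refine (Multiset.toFinset_card_le _).trans ((Polynomial.card_roots' _).trans ?_)
    rw [FiniteField.X_pow_card_sub_X_natDegree_eq F Finite.one_lt_card]
  have h1 : (K : Set F) = R := Set.eq_of_subset_of_ncard_le (hroot K rfl)
    (hcard.trans_eq (Nat.card_coe_set_eq _)) (Set.toFinite _)
  have h2 : (L : Set F) = R := Set.eq_of_subset_of_ncard_le (hroot L h.symm)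
    (hcard.trans_eq (h.trans (Nat.card_coe_set_eq _))) (Set.toFinite _)
  exact SetLike.coe_injective (h1.trans h2.symm)

/-- Subgroups of the order of a subfield group are conjugate to it. -/
theorem exists_conj_range {K : Type*} [Field K] [Fintype K] {k m : ℕ}
    (hm : 1 ≤ m) (hF : Fintype.card F = 2 ^ (2 * m + 1)) (hk : 1 ≤ k)
    (hK : Fintype.card K = 2 ^ (2 * k + 1)) (hdvd : 2 * k + 1 ∣ 2 * m + 1) (ι : K →+* F)
    (M : Subgroup (Sz F (2 ^ (m + 1))))
    (hM : Nat.card M = Fintype.card K ^ 2 * (Fintype.card K ^ 2 + 1) * (Fintype.card K - 1)) :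
    ∃ g, conjSub g M = (subHom ι (twist_of_card hF)).range := by
  classical
  have hp : Params F (2 ^ (m + 1)) := params_of_card hm hF
  have h8 : 8 ≤ Fintype.card K := eight_le_card hk hK
  obtain ⟨j, hj⟩ := exists_eq_mul_of_dvd hdvd
  have hd : Fintype.card K ^ 2 + 1 ∣ Fintype.card F ^ 2 + 1 := by
    rw [hK, hF, hj, ← pow_mul, ← pow_mul,
      show (2 * (k + (2 * k + 1) * j) + 1) * 2 = ((2 * k + 1) * 2) * (2 * j + 1) by ring,
      pow_mul 2 ((2 * k + 1) * 2) (2 * j + 1)]
    simpa using (odd_two_mul_add_one j).nat_add_dvd_pow_add_pow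
      (x := 2 ^ ((2 * k + 1) * 2)) (y := 1)
  have h64 : 64 ≤ Fintype.card K ^ 2 := le_trans (by norm_num) (Nat.pow_le_pow_left h8 2)
  rcases subgroup_shape hp M with ⟨g, hg⟩ | ⟨x, hx1, hx2, hx3⟩ | ⟨L, -, g, hg⟩
  · exfalso
    have h1 := Subgroup.card_dvd_of_le hg
    rw [Subgroup.card_map_of_injective (MulAut.conj g).injective, hM, card_borel hp.twist] at h1
    obtain ⟨p, hpp, hpd⟩ := Nat.exists_prime_and_dvd (n := Fintype.card K ^ 2 + 1) (by omega)
    have h2 : p ∣ Fintype.card F ^ 2 * (Fintype.card F - 1) :=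
      ((hpd.mul_left _).mul_right _).trans h1
    have h3 : p ∣ Fintype.card F ^ 2 + 1 := hpd.trans hd
    rcases hpp.dvd_mul.1 h2 with h | h
    · exact hpp.one_lt.ne' (Nat.dvd_one.1 ((Nat.dvd_add_right h).1 h3))
    · exact hpp.one_lt.ne' (eq_one_of_dvd_two (coprime_sub_one hp) h3 h)
  · exfalso
    obtain ⟨j, hj', hN⟩ := centralizer_normalizer_card hp hx1 hx2
    obtain ⟨-, hc, -⟩ := ((szPartition hp).cases x hx1).resolve_left hx2
    have hodd := (torus_orders hm (hF ▸ hc)).2.1
    have h1 := Subgroup.card_dvd_of_le hx3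
    rw [hM, hN] at h1
    have h2 : Fintype.card K ^ 2 ∣ j * Nat.card (Subgroup.centralizer {x}) :=
      (dvd_mul_of_dvd_left (dvd_mul_right _ _) _).trans h1
    rw [hK, ← pow_mul] at h2
    have h3 := Nat.le_of_dvd (by omega) ((Nat.Coprime.pow_left _
      (Nat.prime_two.coprime_iff_not_dvd.2 hodd)).dvd_of_dvd_mul_right h2)
    rw [pow_mul, ← hK] at h3
    omega
  · refine ⟨g, ?_⟩
    have : Fintype L := Fintype.ofFinite L
    have hinj : ∀ a b : ℕ, a < b →
        a ^ 2 * (a ^ 2 + 1) * (a - 1) < b ^ 2 * (b ^ 2 + 1) * (b - 1) ∨ a ≤ 1 := by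
      intro a b hab
      rcases le_or_gt a 1 with h | h
      · exact Or.inr h
      left
      have e1 := Nat.pow_lt_pow_left hab two_ne_zero
      exact Nat.mul_lt_mul_of_lt_of_le
        (Nat.mul_lt_mul_of_lt_of_lt e1 (by omega)) (by omega) (by omega)
    have hc : Nat.card (conjSub g M) = Nat.card M :=
      Subgroup.card_map_of_injective (MulAut.conj g).injective
    have hcardL := hc.symm.trans ((congrArg (fun S : Subgroup _ => Nat.card S) hg).trans
      (card_subHom_range L.subtype hp.twist))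
    have hLK : Fintype.card L = Fintype.card K := by
      rw [hM] at hcardL
      have h2L : 1 < Fintype.card L := Fintype.one_lt_card
      rcases lt_trichotomy (Fintype.card L) (Fintype.card K) with h | h | h
      · rcases hinj _ _ h with h' | h' <;> omega
      · exact h
      · rcases hinj _ _ h with h' | h' <;> omega
    have hL : L = ι.fieldRange := subfield_eq_of_card (by
      rw [Nat.card_eq_fintype_card, hLK, ← Nat.card_eq_fintype_card]
      exact Nat.card_congr (Equiv.ofInjective ι ι.injective))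
    rw [hg, range_subHom_fieldRange ι (twist_of_card hF), hL]

/-- A field of the smaller order embeds. -/
lemma exists_ringHom {K : Type*} [Field K] [Fintype K] {k m : ℕ}
    (hF : Fintype.card F = 2 ^ (2 * m + 1)) (hK : Fintype.card K = 2 ^ (2 * k + 1))
    (hdvd : 2 * k + 1 ∣ 2 * m + 1) : Nonempty (K →+* F) := by
  have : Fact (Nat.Prime 2) := ⟨Nat.prime_two⟩
  have : CharP F 2 :=
    CharTwo.of_one_ne_zero_of_two_eq_zero one_ne_zero (twist_of_card hF).two
  have : CharP K 2 :=
    CharTwo.of_one_ne_zero_of_two_eq_zero one_ne_zero (twist_of_card hK).two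
  let _ : Algebra (ZMod 2) F := ZMod.algebra F 2
  let _ : Algebra (ZMod 2) K := ZMod.algebra K 2
  obtain ⟨f⟩ : Nonempty (K →ₐ[ZMod 2] F) :=
    FiniteField.nonempty_algHom_of_finrank_dvd (by rw [finrank_eq hK, finrank_eq hF]; exact hdvd)
  exact ⟨f.toRingHom⟩

end CfsgLib.KnownB.Suzuki
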