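import Cfsg.Agent.Lib.KnownB.SuzukiAut
import Cfsg.Prelude.Def_Solvable
import Cfsg.Prelude.Def_Transfer
import Mathlib.FieldTheory.Finite.GaloisField

set_option autoImplicit false

/-!
The automorphism group of the Sylow 2-subgroup of the Suzuki group.
-/

namespace CfsgLib.KnownB.Suzuki

open Cfsg.Lie CfsgLib.KnownB.SzElem

variable {F : Type*} [Field F] [Fintype F] {m : ℕ}

section Linearised

variable {n : ℕ} [NeZero n]

/-- `x ↦ x ^ (2 ^ i)`. -/
def frob2 (i : ZMod n) (x : F) : F := x ^ (2 ^ i.val)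

lemma pow_two_pow_mod (hF : Fintype.card F = 2 ^ n) (x : F) (a : ℕ) :
    x ^ (2 ^ a) = x ^ (2 ^ (a % n)) := by
  conv_lhs => rw [← Nat.mod_add_div a n, pow_add, pow_mul, pow_mul 2 n, ← hF,
    FiniteField.pow_card_pow]

lemma frob2_natCast (hF : Fintype.card F = 2 ^ n) (x : F) (a : ℕ) :
    frob2 (a : ZMod n) x = x ^ (2 ^ a) := by
  rw [frob2, ZMod.val_natCast, ← pow_two_pow_mod hF]

lemma frob2_frob2 (hF : Fintype.card F = 2 ^ n) (i j : ZMod n) (x : F) :
    frob2 i (frob2 j x) = frob2 (i + j) x := by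
  conv_rhs => rw [← ZMod.natCast_rightInverse i, ← ZMod.natCast_rightInverse j, ← Nat.cast_add]
  rw [frob2_natCast hF, frob2, frob2, ← pow_mul, ← pow_add, add_comm j.val]

lemma frob2_zero (x : F) : frob2 (0 : ZMod n) x = x := by simp [frob2]

lemma frob2_mul (i : ZMod n) (x y : F) : frob2 i (x * y) = frob2 i x * frob2 i y := mul_pow _ _ _

lemma frob2_add (h2 : (2 : F) = 0) (i : ZMod n) (x y : F) :
    frob2 i (x + y) = frob2 i x + frob2 i y := by
  have : CharP F 2 := CharTwo.of_one_ne_zero_of_two_eq_zero one_ne_zero h2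
  exact add_pow_char_pow x y 2 i.val

lemma frob2_injective (i : ZMod n) (hF : Fintype.card F = 2 ^ n) :
    Function.Injective (frob2 (F := F) i) := fun x y h => by
  have := congrArg (frob2 (-i)) h
  rwa [frob2_frob2 hF, frob2_frob2 hF, neg_add_cancel, frob2_zero, frob2_zero] at this

lemma coeff_eq_zero (hF : Fintype.card F = 2 ^ n) (a : ZMod n → F)
    (h : ∀ x, ∑ i, a i * frob2 i x = 0) : a = 0 := by
  classical
  open Polynomial in
  set p : F[X] := ∑ i, C (a i) * X ^ (2 ^ i.val) with hp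
  have hp0 : p = 0 := by
    refine Polynomial.eq_zero_of_natDegree_lt_card_of_eval_eq_zero p (f := id)
      Function.injective_id (fun x => ?_) ?_
    · simpa [hp, Polynomial.eval_finsetSum, frob2] using h x
    · refine lt_of_le_of_lt (Polynomial.natDegree_sum_le_of_forall_le _ _ (n := 2 ^ (n - 1))
        fun i _ => (Polynomial.natDegree_C_mul_X_pow_le _ _).trans
          (Nat.pow_le_pow_right two_pos (Nat.le_sub_one_of_lt (ZMod.val_lt i)))) ?_
      rw [hF]
      exact Nat.pow_lt_pow_right Nat.one_lt_two (Nat.sub_one_lt (NeZero.ne n))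
  funext i
  have h1 := congrArg (fun r => Polynomial.coeff r (2 ^ i.val)) hp0
  simp only [hp, Polynomial.finsetSum_coeff, Polynomial.coeff_C_mul, Polynomial.coeff_X_pow,
    Polynomial.coeff_zero, mul_ite, mul_one, mul_zero] at h1
  rw [Finset.sum_eq_single i (fun j _ hj => if_neg fun h' => hj (ZMod.val_injective n
    (Nat.pow_right_injective le_rfl h').symm)) (fun h' => absurd (Finset.mem_univ i) h'),
    if_pos rfl] at h1
  exact h1

lemma card_addHom (hF : Fintype.card F = 2 ^ n) : Nat.card (F →+ F) = 2 ^ (n * n) := by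
  classical
  have : Fact (Nat.Prime 2) := ⟨Nat.prime_two⟩
  have : CharP F 2 := by
    obtain ⟨p, hpc⟩ := CharP.exists F
    obtain ⟨k, hp, hk⟩ := FiniteField.card F p
    have h2 : p ∣ 2 ^ n := by rw [← hF, hk]; exact dvd_pow_self _ k.2.ne'
    obtain rfl : p = 2 := (Nat.prime_dvd_prime_iff_eq hp Nat.prime_two).1 (hp.dvd_of_dvd_pow h2)
    exact hpc
  let _ : Algebra (ZMod 2) F := ZMod.algebra F 2
  have hfr : Module.finrank (ZMod 2) F = n := by
    apply Nat.pow_right_injective le_rfl
    have h := Module.card_eq_pow_finrank (K := ZMod 2) (V := F)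
    rw [ZMod.card, hF] at h
    exact h.symm
  have : Finite (F →+ F) := Finite.of_injective _ DFunLike.coe_injective
  let E : (F →+ F) ≃ (F →ₗ[ZMod 2] F) :=
    { toFun := fun f => AddMonoidHom.toZModLinearMap 2 f
      invFun := fun f => f.toAddMonoidHom
      left_inv := fun f => AddMonoidHom.ext fun _ => rfl
      right_inv := fun f => LinearMap.ext fun _ => rfl }
  have : Finite (F →ₗ[ZMod 2] F) := Finite.of_equiv _ E
  rw [Nat.card_congr E, Module.natCard_eq_pow_finrank (K := ZMod 2),
    Module.finrank_linearMap, hfr, Nat.card_zmod]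

lemma exists_coeff (hF : Fintype.card F = 2 ^ n) (h2 : (2 : F) = 0) (φ : F →+ F) :
    ∃ a : ZMod n → F, ∀ x, φ x = ∑ i, a i * frob2 i x := by
  classical
  let T : (ZMod n → F) → (F →+ F) := fun a => AddMonoidHom.mk' (fun x => ∑ i, a i * frob2 i x)
    (fun x y => by simp only [frob2_add h2, mul_add, Finset.sum_add_distrib])
  have hT : Function.Injective T := fun a b hab => by
    refine sub_eq_zero.1 (coeff_eq_zero hF (a - b) fun x => ?_)
    have := congrArg (fun f : F →+ F => f x) hab
    simp only [T, AddMonoidHom.mk'_apply] at this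
    simp only [Pi.sub_apply, sub_mul, Finset.sum_sub_distrib, this, sub_self]
  have hcard : Nat.card (F →+ F) ≤ Nat.card (ZMod n → F) := by
    rw [card_addHom hF, Nat.card_fun, Nat.card_eq_fintype_card (α := F), hF, Nat.card_zmod,
      ← pow_mul]
  have : Finite (F →+ F) := Finite.of_injective _ DFunLike.coe_injective
  obtain ⟨a, ha⟩ := (hT.bijective_of_nat_card_le hcard).2 φ
  exact ⟨a, fun x => by rw [← ha]; rfl⟩

/-- An additive map compatible with the squaring form is semilinear. -/
theorem semilinear_of_compatible (hF : Fintype.card F = 2 ^ n) (h2 : (2 : F) = 0) {d : ZMod n}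
    (hd : d + d = 1) (hn : 3 ≤ n) (f g : F →+ F) (hg : g 1 ≠ 0)
    (h : ∀ x, f (frob2 d x * x) = frob2 d (g x) * g x) :
    ∃ (c : F) (i : ZMod n), c ≠ 0 ∧ ∀ x, g x = c * frob2 i x := by
  classical
  obtain ⟨gc, hgc⟩ := exists_coeff hF h2 g
  obtain ⟨fc, hfc⟩ := exists_coeff hF h2 f
  set hc : ZMod n → F := fun i => frob2 d (gc (i - d)) with hhc
  have hgd : ∀ x, frob2 d (g x) = ∑ i, hc i * frob2 i x := by
    intro x
    let φ : F →+ F := AddMonoidHom.mk' (frob2 d) (fun a b => frob2_add h2 d a b)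
    show φ (g x) = _
    rw [hgc, map_sum, ← Equiv.sum_comp (Equiv.addRight d) (fun i => hc i * frob2 i x)]
    refine Finset.sum_congr rfl fun i _ => ?_
    show frob2 d (gc i * frob2 i x) = hc (i + d) * frob2 (i + d) x
    rw [frob2_mul, frob2_frob2 hF, hhc]
    simp only [add_sub_cancel_right]
    rw [add_comm d i]
  set A : ZMod n → ZMod n → F := fun i j => hc i * gc j - (if i = j + d then fc j else 0) with hA
  have hquad : ∀ x, ∑ i, ∑ j, A i j * (frob2 i x * frob2 j x) = 0 := by
    intro x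
    have h1 := h x
    rw [hfc, hgd, hgc, Finset.sum_mul_sum] at h1
    have h3 : ∑ i, ∑ j, (if i = j + d then fc j else 0) * (frob2 i x * frob2 j x) =
        ∑ j, fc j * frob2 j (frob2 d x * x) := by
      rw [Finset.sum_comm]
      refine Finset.sum_congr rfl fun j _ => ?_
      rw [Finset.sum_eq_single (j + d) (fun i _ hi => by rw [if_neg hi, zero_mul])
        (fun h' => absurd (Finset.mem_univ _) h'), if_pos rfl, frob2_mul, frob2_frob2 hF]
    simp only [hA, sub_mul, Finset.sum_sub_distrib, h3, h1]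
    rw [sub_eq_zero]
    exact Finset.sum_congr rfl fun i _ => Finset.sum_congr rfl fun j _ => by ring
  have hbil : ∀ i j, A i j + A j i = 0 := by
    have hxy : ∀ x y, ∑ i, ∑ j, (A i j + A j i) * (frob2 i x * frob2 j y) = 0 := by
      intro x y
      have h1 := hquad (x + y)
      simp only [frob2_add h2, mul_add, add_mul, Finset.sum_add_distrib] at h1
      rw [hquad x, hquad y, zero_add, add_zero] at h1
      have h3 : ∑ i, ∑ j, A i j * (frob2 i y * frob2 j x) =
          ∑ i, ∑ j, A j i * (frob2 i x * frob2 j y) := by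
        rw [Finset.sum_comm]
        exact Finset.sum_congr rfl fun i _ => Finset.sum_congr rfl fun j _ => by ring
      simp only [add_mul, Finset.sum_add_distrib, ← h3]
      linear_combination h1
    intro i j
    have h1 := congrFun (coeff_eq_zero hF (fun j => A i j + A j i) fun y => ?_) j
    · exact h1
    refine congrFun (coeff_eq_zero hF (fun i => ∑ j, (A i j + A j i) * frob2 j y) fun x => ?_) i
    rw [← hxy x y]
    refine Finset.sum_congr rfl fun k _ => ?_
    rw [Finset.sum_mul]
    exact Finset.sum_congr rfl fun l _ => by ring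
  have : Fact (1 < n) := ⟨by omega⟩
  have hd0 : d ≠ 0 := fun h' => zero_ne_one (α := ZMod n) (by simpa [h'] using hd)
  have hdiag : ∀ i, hc i * gc i = 0 := by
    intro i
    have hzero : ∀ x, ∑ k, A (k - 1) (k - 1) * frob2 k x = 0 := by
      intro x
      have h1 := hquad x
      rw [← Fintype.sum_prod_type' (f := fun i j => A i j * (frob2 i x * frob2 j x))] at h1
      rw [← Finset.sum_filter_add_sum_filter_not Finset.univ (fun p : ZMod n × ZMod n => p.1 = p.2)]
        at h1
      have hoff : ∑ p ∈ Finset.univ.filter (fun p : ZMod n × ZMod n => ¬ p.1 = p.2),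
          A p.1 p.2 * (frob2 p.1 x * frob2 p.2 x) = 0 := by
        refine Finset.sum_involution (fun p _ => Prod.swap p) (fun p hp => ?_) (fun p hp _ => ?_)
          (fun p hp => ?_) (fun p hp => Prod.swap_swap p)
        · simp only [Prod.fst_swap, Prod.snd_swap]
          linear_combination (frob2 p.1 x * frob2 p.2 x) * hbil p.1 p.2
        · intro h'
          exact (Finset.mem_filter.1 hp).2 (congrArg Prod.snd h')
        · simpa [eq_comm] using hp
      rw [hoff, add_zero] at h1
      rw [← h1, ← Equiv.sum_comp (Equiv.addRight (1 : ZMod n))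
        (fun k => A (k - 1) (k - 1) * frob2 k x)]
      refine Finset.sum_bij' (fun k _ => (k, k)) (fun p _ => p.1) (fun k _ => by simp)
        (fun p _ => Finset.mem_univ _) (fun k _ => rfl)
        (fun p hp => Prod.ext rfl (Finset.mem_filter.1 hp).2) (fun k _ => ?_)
      show A (k + 1 - 1) (k + 1 - 1) * frob2 (k + 1) x = A k k * (frob2 k x * frob2 k x)
      rw [add_sub_cancel_right, ← frob2_mul, ← pow_two, add_comm k, add_comm 1 k,
        ← frob2_frob2 hF k 1]
      congr 2
      rw [frob2, ZMod.val_one, pow_one]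
    have h1 := congrFun (coeff_eq_zero hF _ hzero) (i + 1)
    simp only [add_sub_cancel_right, Pi.zero_apply, hA] at h1
    rwa [if_neg (fun h' => hd0 (left_eq_add.1 h')), sub_zero] at h1
  obtain ⟨s, hs⟩ : ∃ s, gc s ≠ 0 := by
    by_contra hcon
    push Not at hcon
    exact hg (by rw [hgc]; exact Finset.sum_eq_zero fun i _ => by rw [hcon, zero_mul])
  have hone : ∀ a b, gc a ≠ 0 → gc b ≠ 0 → b = a ∨ b = a + 1 := by
    intro a b ha hb
    have hh : hc (a + d) ≠ 0 := by
      intro h'
      simp only [hhc, add_sub_cancel_right] at h'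
      exact ha (frob2_injective d hF (h'.trans (zero_pow (by positivity)).symm))
    have hga : gc (a + d) = 0 := (mul_eq_zero.1 (hdiag _)).resolve_left hh
    have h1 := hbil (a + d) b
    simp only [hA, hga, mul_zero, zero_sub] at h1
    by_contra hcon
    push Not at hcon
    rw [if_neg (fun h' => hcon.1 (add_right_cancel h').symm), if_neg (fun h' => hcon.2 (by
      rw [h', add_assoc, hd]))] at h1
    simp only [neg_zero, sub_zero, add_zero] at h1
    exact mul_ne_zero hh hb h1
  have huniq : ∀ b, b ≠ s → gc b = 0 := by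
    intro b hb
    by_contra hb0
    rcases hone s b hs hb0 with h1 | h1
    · exact hb h1
    · rcases hone b s hb0 hs with h3 | h3
      · exact hb h3.symm
      · have h4 : (2 : ZMod n) = 0 := by
          rw [h1] at h3
          linear_combination -h3
        have h5 : ((2 : ℕ) : ZMod n) = 0 := by exact_mod_cast h4
        have := Nat.le_of_dvd two_pos ((ZMod.natCast_eq_zero_iff _ _).1 h5)
        omega
  exact ⟨gc s, s, hs, fun x => by
    rw [hgc, Finset.sum_eq_single s (fun b _ hb => by rw [huniq b hb, zero_mul])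
      (fun h' => absurd (Finset.mem_univ s) h')]⟩

end Linearised

variable {e : ℕ}

lemma uGroup_ext (he : Twist F e) {α β : MulAut (uGroup he)}
    (h1 : ∀ a, α ⟨P he a 0, P_mem_uGroup he a 0⟩ = β ⟨P he a 0, P_mem_uGroup he a 0⟩)
    (h2 : ∀ b, α ⟨P he 0 b, P_mem_uGroup he 0 b⟩ = β ⟨P he 0 b, P_mem_uGroup he 0 b⟩) :
    α = β := by
  apply MulEquiv.ext
  rintro ⟨_, ⟨a, b⟩, rfl⟩
  have : (⟨P he a b, P_mem_uGroup he a b⟩ : uGroup he) =
      ⟨P he a 0, P_mem_uGroup he a 0⟩ * ⟨P he 0 b, P_mem_uGroup he 0 b⟩ :=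
    Subtype.ext (by rw [Subgroup.coe_mul, P_mul]; simp)
  show α ⟨P he a b, _⟩ = β ⟨P he a b, _⟩
  rw [this, map_mul, map_mul, h1, h2]

/-- First coordinate. -/
noncomputable def fstU (he : Twist F e) (x : uGroup he) : F := ((uEquiv he).symm x).1

/-- Second coordinate. -/
noncomputable def sndU (he : Twist F e) (x : uGroup he) : F := ((uEquiv he).symm x).2

lemma eq_P (he : Twist F e) (x : uGroup he) : (x : Sz F e) = P he (fstU he x) (sndU he x) := by
  conv_lhs => rw [← (uEquiv he).apply_symm_apply x]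
  rfl

lemma fstU_P (he : Twist F e) (a b : F) (h : P he a b ∈ uGroup he) :
    fstU he ⟨P he a b, h⟩ = a :=
  (P_injective he (eq_P he ⟨P he a b, h⟩)).1.symm

lemma fstU_mul (he : Twist F e) (x y : uGroup he) : fstU he (x * y) = fstU he x + fstU he y := by
  have h := eq_P he (x * y)
  rw [Subgroup.coe_mul, eq_P he x, eq_P he y, P_mul] at h
  exact (P_injective he h).1.symm

lemma fstU_zero_iff (he : Twist F e) (x : uGroup he) :
    fstU he x = 0 ↔ ∃ b, (x : Sz F e) = P he 0 b :=
  ⟨fun h => ⟨sndU he x, by rw [eq_P he x, h]⟩,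
    fun ⟨b, hb⟩ => (P_injective he ((eq_P he x).symm.trans hb)).1⟩

lemma fstU_aut (he : Twist F e) (hc : ∃ c : F, c ^ e ≠ c) (α : MulAut (uGroup he)) {x y : uGroup he}
    (h : fstU he x = fstU he y) : fstU he (α x) = fstU he (α y) := by
  have h2 := he.two
  have hz : ∀ z : uGroup he, fstU he z = 0 → fstU he (α z) = 0 := by
    intro z hz
    have hmem := (sylow_center he hc z).2 ((fstU_zero_iff he z).1 hz)
    rw [Subgroup.mem_center_iff] at hmem
    refine (fstU_zero_iff he _).2 ((sylow_center he hc _).1 (Subgroup.mem_center_iff.2 fun w => ?_))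
    obtain ⟨w, rfl⟩ := α.surjective w
    rw [← map_mul, ← map_mul, hmem w]
  have h1 : fstU he (α (x * y)) = 0 := hz _ (by rw [fstU_mul, h]; linear_combination fstU he y * h2)
  rw [map_mul, fstU_mul] at h1
  linear_combination h1 - fstU he (α y) * h2

/-- The action on the first coordinates. -/
noncomputable def gAdd (he : Twist F e) (hc : ∃ c : F, c ^ e ≠ c) (α : MulAut (uGroup he)) :
    F →+ F :=
  AddMonoidHom.mk' (fun a => fstU he (α ⟨P he a 0, P_mem_uGroup he a 0⟩)) fun a b => by
    rw [← fstU_mul, ← map_mul]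
    exact fstU_aut he hc α (by rw [fstU_mul, fstU_P, fstU_P, fstU_P])

lemma gAdd_spec (he : Twist F e) (hc : ∃ c : F, c ^ e ≠ c) (α : MulAut (uGroup he))
    (x : uGroup he) : fstU he (α x) = gAdd he hc α (fstU he x) :=
  fstU_aut he hc α (by rw [fstU_P])

lemma gAdd_mul (he : Twist F e) (hc : ∃ c : F, c ^ e ≠ c) (α β : MulAut (uGroup he)) (a : F) :
    gAdd he hc (α * β) a = gAdd he hc α (gAdd he hc β a) := by
  show fstU he (α (β ⟨P he a 0, P_mem_uGroup he a 0⟩)) = _
  rw [gAdd_spec he hc α]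
  rfl

/-- The action on the Frattini quotient. -/
noncomputable def rho (he : Twist F e) (hc : ∃ c : F, c ^ e ≠ c) :
    MulAut (uGroup he) →* Equiv.Perm F where
  toFun α :=
    { toFun := gAdd he hc α
      invFun := gAdd he hc α⁻¹
      left_inv := fun a => by
        rw [← gAdd_mul, inv_mul_cancel]
        show fstU he ⟨P he a 0, _⟩ = a
        rw [fstU_P]
      right_inv := fun a => by
        rw [← gAdd_mul, mul_inv_cancel]
        show fstU he ⟨P he a 0, _⟩ = a
        rw [fstU_P]
      }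
  map_one' := Equiv.ext fun a => fstU_P he a 0 _
  map_mul' α β := Equiv.ext fun a => gAdd_mul he hc α β a

lemma rho_apply (he : Twist F e) (hc : ∃ c : F, c ^ e ≠ c) (α : MulAut (uGroup he)) (a : F) :
    rho he hc α a = fstU he (α ⟨P he a 0, P_mem_uGroup he a 0⟩) := rfl

lemma shiftFun_mul (he : Twist F e) (h : F →+ F) (x y : uGroup he) :
    P he (fstU he (x * y)) (sndU he (x * y) + h (fstU he (x * y))) =
      P he (fstU he x) (sndU he x + h (fstU he x)) * P he (fstU he y) (sndU he y + h (fstU he y)) := by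
  have h1 := eq_P he (x * y)
  rw [Subgroup.coe_mul, eq_P he x, eq_P he y, P_mul] at h1
  obtain ⟨e1, e2⟩ := P_injective he h1
  rw [P_mul, ← e1, ← e2, map_add]
  congr 1
  ring

/-- The automorphism `P (a, b) ↦ P (a, b + h a)`. -/
noncomputable def shiftAut (he : Twist F e) (h : F →+ F) : MulAut (uGroup he) :=
  MulEquiv.ofBijective
    (MonoidHom.mk' (fun x => (⟨P he (fstU he x) (sndU he x + h (fstU he x)),
      P_mem_uGroup he _ _⟩ : uGroup he)) (fun x y => Subtype.ext (shiftFun_mul he h x y)))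
    (Finite.injective_iff_bijective.1 fun x y hxy => by
      obtain ⟨e1, e2⟩ := P_injective he (congrArg Subtype.val hxy)
      refine Subtype.ext ?_
      rw [eq_P he x, eq_P he y, e1, add_right_cancel (e2.trans (by rw [e1]))])

lemma shiftAut_apply (he : Twist F e) (h : F →+ F) (x : uGroup he) :
    ((shiftAut he h x : uGroup he) : Sz F e) =
      P he (fstU he x) (sndU he x + h (fstU he x)) := rfl

lemma shiftAut_mem_ker (he : Twist F e) (hc : ∃ c : F, c ^ e ≠ c) (h : F →+ F) :
    shiftAut he h ∈ (rho he hc).ker := by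
  rw [MonoidHom.mem_ker]
  refine Equiv.ext fun a => ?_
  rw [rho_apply]
  have := shiftAut_apply he h ⟨P he a 0, P_mem_uGroup he a 0⟩
  exact ((P_injective he ((eq_P he _).symm.trans this)).1).trans (fstU_P he a 0 _)

lemma sndU_P (he : Twist F e) (a b : F) (h : P he a b ∈ uGroup he) :
    sndU he ⟨P he a b, h⟩ = b :=
  (P_injective he (eq_P he ⟨P he a b, h⟩)).2.symm

lemma shiftAut_mul (he : Twist F e) (h k : F →+ F) :
    shiftAut he h * shiftAut he k = shiftAut he (h + k) := by
  apply MulEquiv.ext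
  intro x
  apply Subtype.ext
  show ((shiftAut he h (shiftAut he k x) : uGroup he) : Sz F e) = _
  have e1 := shiftAut_apply he k x
  have e2 := P_injective he ((eq_P he (shiftAut he k x)).symm.trans e1)
  rw [shiftAut_apply, shiftAut_apply, e2.1, e2.2, AddMonoidHom.add_apply]
  congr 1
  ring

lemma shiftAut_injective (he : Twist F e) : Function.Injective (shiftAut he) := by
  intro h k hhk
  refine AddMonoidHom.ext fun a => ?_
  have := congrArg (fun α : MulAut (uGroup he) =>
    ((α ⟨P he a 0, P_mem_uGroup he a 0⟩ : uGroup he) : Sz F e)) hhk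
  simp only [shiftAut_apply, fstU_P, sndU_P, zero_add] at this
  exact (P_injective he this).2

lemma square_P (he : Twist F e) (a b : F) : P he a b * P he a b = P he 0 (a ^ e * a) := by
  have h2 := he.two
  rw [P_mul]
  congr 1 <;> grind

lemma exists_pow_e1_eq (he : Twist F e) (b : F) : ∃ a : F, a ^ e * a = b := by
  have hinj : Function.Injective fun a : F => a ^ e * a := fun a a' h => by
    simp only [← pow_succ] at h
    rcases eq_or_ne a' 0 with rfl | hne
    · simpa using h
    · exact (div_eq_one_iff_eq hne).1 (eq_one_of_pow_e1 he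
        (by rw [div_pow, h, div_self (pow_ne_zero _ hne)]))
  exact (Finite.injective_iff_bijective.1 hinj).2 b

lemma ker_rho (he : Twist F e) (hc : ∃ c : F, c ^ e ≠ c) :
    ∀ α ∈ (rho he hc).ker, ∃ h, shiftAut he h = α := by
  intro α hα
  have hg : ∀ x, fstU he (α x) = fstU he x := fun x => by
    rw [gAdd_spec he hc]
    exact congrArg (fun f : Equiv.Perm F => f (fstU he x)) (MonoidHom.mem_ker.1 hα)
  have hcent : ∀ b, α ⟨P he 0 b, P_mem_uGroup he 0 b⟩ = ⟨P he 0 b, P_mem_uGroup he 0 b⟩ := by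
    intro b
    obtain ⟨a, rfl⟩ := exists_pow_e1_eq he b
    have e1 : (⟨P he 0 (a ^ e * a), P_mem_uGroup he _ _⟩ : uGroup he) =
        ⟨P he a 0, P_mem_uGroup he a 0⟩ * ⟨P he a 0, P_mem_uGroup he a 0⟩ :=
      Subtype.ext (square_P he a 0).symm
    rw [e1, map_mul]
    refine Subtype.ext ?_
    rw [Subgroup.coe_mul, Subgroup.coe_mul, eq_P he (α _), hg, fstU_P, square_P, square_P]
  let h : F →+ F := AddMonoidHom.mk' (fun a => sndU he (α ⟨P he a 0, P_mem_uGroup he a 0⟩))
    fun a b => by
      have e1 : (⟨P he a 0, P_mem_uGroup he a 0⟩ : uGroup he) * ⟨P he b 0, P_mem_uGroup he b 0⟩ =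
          ⟨P he (a + b) 0, P_mem_uGroup he _ _⟩ *
            ⟨P he 0 (a ^ e * b), P_mem_uGroup he _ _⟩ := Subtype.ext (by
        rw [Subgroup.coe_mul, Subgroup.coe_mul, P_mul, P_mul]; congr 1 <;> simp)
      have e2 := congrArg (fun x : uGroup he => (x : Sz F e)) (congrArg α e1)
      simp only [map_mul, Subgroup.coe_mul, hcent] at e2
      rw [eq_P he (α _), eq_P he (α ⟨P he b 0, _⟩), eq_P he (α ⟨P he (a + b) 0, _⟩), hg, hg, hg,
        fstU_P, fstU_P, fstU_P, P_mul, P_mul] at e2
      have e3 := (P_injective he e2).2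
      linear_combination -e3
  refine ⟨h, uGroup_ext he (fun a => Subtype.ext ?_) (fun b => Subtype.ext ?_)⟩
  · rw [shiftAut_apply, fstU_P, sndU_P, zero_add, eq_P he (α _), hg, fstU_P]
    rfl
  · rw [shiftAut_apply, fstU_P, sndU_P, hcent, map_zero, add_zero]

/-- The pairs scalar, field automorphism. -/
def semiMap {n : ℕ} (p : Fˣ × ZMod n) : F → F := fun x => (p.1 : F) * frob2 p.2 x

lemma semiMap_injective {n : ℕ} [NeZero n] (hF : Fintype.card F = 2 ^ n) :
    Function.Injective (semiMap (F := F) (n := n)) := by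
  rintro ⟨c, i⟩ ⟨c', i'⟩ h
  have h1 := congrFun h 1
  simp [semiMap, frob2] at h1
  have hc : c = c' := Units.ext h1
  subst hc
  refine Prod.ext rfl ?_
  by_contra hne
  have h3 := coeff_eq_zero (F := F) hF (fun j => (if j = i then 1 else 0) - (if j = i' then 1 else 0))
    (fun x => by
      have := mul_left_cancel₀ c.ne_zero (congrFun h x)
      simp [sub_mul, Finset.sum_sub_distrib, this])
  have := congrFun h3 i
  simp [hne] at this

lemma twist_frob2 (hF : Fintype.card F = 2 ^ (2 * m + 1)) (x : F) :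
    x ^ (2 ^ (m + 1)) = frob2 ((m + 1 : ℕ) : ZMod (2 * m + 1)) x :=
  (frob2_natCast hF x (m + 1)).symm

lemma two_d (m : ℕ) :
    ((m + 1 : ℕ) : ZMod (2 * m + 1)) + ((m + 1 : ℕ) : ZMod (2 * m + 1)) = 1 := by
  rw [← Nat.cast_add, show m + 1 + (m + 1) = (2 * m + 1) + 1 by ring, Nat.cast_add,
    ZMod.natCast_self, zero_add, Nat.cast_one]

/-- Restriction of an automorphism to an invariant subgroup. -/
lemma exists_restrict {G : Type*} [Group G] [Finite G] (U : Subgroup G) (A : MulAut G)
    (hmem : ∀ x : U, A (x : G) ∈ U) : ∃ B : MulAut U, ∀ x : U, ((B x : U) : G) = A (x : G) :=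
  ⟨MulEquiv.ofBijective
      (MonoidHom.mk' (fun x : U => (⟨A (x : G), hmem x⟩ : U))
        (fun x y => Subtype.ext (map_mul A (x : G) (y : G))))
      (Finite.injective_iff_bijective.1 fun x y h =>
        Subtype.ext (A.injective (congrArg Subtype.val h))), fun _ => rfl⟩

theorem rho_range (hm : 1 ≤ m) (hF : Fintype.card F = 2 ^ (2 * m + 1))
    (hc : ∃ c : F, c ^ 2 ^ (m + 1) ≠ c) :
    Set.range (fun α => ⇑(rho (twist_of_card hF) hc α)) =
      Set.range (semiMap (F := F) (n := 2 * m + 1)) := by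
  classical
  have he := twist_of_card hF
  have h2 := he.two
  ext f
  constructor
  · rintro ⟨α, rfl⟩
    set g : F →+ F := gAdd he hc α with hgdef
    have hg1 : g 1 ≠ 0 := fun h =>
      one_ne_zero ((rho he hc α).injective (h.trans (map_zero g).symm))
    let fz : F → F := fun b => sndU he (α ⟨P he 0 b, P_mem_uGroup he 0 b⟩)
    have hfz : ∀ b, fstU he (α ⟨P he 0 b, P_mem_uGroup he 0 b⟩) = 0 := fun b => by
      rw [gAdd_spec he hc, fstU_P, map_zero]
    let f : F →+ F := AddMonoidHom.mk' fz fun a b => by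
      have e1 : (⟨P he 0 a, P_mem_uGroup he 0 a⟩ : uGroup he) * ⟨P he 0 b, P_mem_uGroup he 0 b⟩ =
          ⟨P he 0 (a + b), P_mem_uGroup he _ _⟩ := Subtype.ext (by
        rw [Subgroup.coe_mul, P_mul]; simp)
      have e2 := congrArg (fun x : uGroup he => (x : Sz F (2 ^ (m + 1)))) (congrArg α e1)
      simp only [map_mul, Subgroup.coe_mul] at e2
      rw [eq_P he (α _), eq_P he (α ⟨P he 0 b, _⟩), eq_P he (α ⟨P he 0 (a + b), _⟩), hfz, hfz,
        hfz, P_mul] at e2
      have e3 := (P_injective he e2).2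
      simp only [fz]
      simpa using e3.symm
    obtain ⟨c, i, hc0, hi⟩ := semilinear_of_compatible (n := 2 * m + 1) hF h2 (two_d m) (by omega)
      f g hg1 (fun x => by
        rw [← twist_frob2 hF, ← twist_frob2 hF]
        have e1 : (⟨P he 0 (x ^ 2 ^ (m + 1) * x), P_mem_uGroup he _ _⟩ : uGroup he) =
            ⟨P he x 0, P_mem_uGroup he x 0⟩ * ⟨P he x 0, P_mem_uGroup he x 0⟩ :=
          Subtype.ext (square_P he x 0).symm
        show fz _ = _
        simp only [fz]
        rw [e1, map_mul]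
        have e2 := eq_P he (α ⟨P he x 0, P_mem_uGroup he x 0⟩ * α ⟨P he x 0, P_mem_uGroup he x 0⟩)
        rw [Subgroup.coe_mul, eq_P he (α _), square_P] at e2
        exact (P_injective he e2).2.symm)
    exact ⟨⟨Units.mk0 c hc0, i⟩, funext fun x => (hi x).symm⟩
  · rintro ⟨⟨c, i⟩, rfl⟩
    obtain ⟨t, ht⟩ := (units_pow_e_bijective he).2 c
    have ht' : (t : F) ^ 2 ^ (m + 1) = c := by rw [← ht]; simp
    let σ : F ≃+* F := RingEquiv.ofBijective
      ({ toFun := frob2 i, map_one' := one_pow _, map_mul' := frob2_mul i,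
         map_zero' := zero_pow (by positivity), map_add' := frob2_add h2 i } : F →+* F)
      (Finite.injective_iff_bijective.1 (frob2_injective i hF))
    let A : MulAut (Sz F (2 ^ (m + 1))) := MulAut.conj (H _ he t) * fieldHom he σ
    have hA : ∀ a b, A (P he a b) =
        P he ((t : F) ^ 2 ^ (m + 1) * σ a) ((t : F) ^ (2 ^ (m + 1) + 2) * σ b) := fun a b => by
      show H _ he t * fieldHom he σ (P he a b) * (H _ he t)⁻¹ = _
      rw [fieldHom_P, H_conj_P]
    have hmem : ∀ x : uGroup he, A (x : Sz F _) ∈ uGroup he := fun x => by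
      rw [eq_P he x, hA]; exact P_mem_uGroup he _ _
    obtain ⟨B, hB⟩ := exists_restrict (uGroup he) A hmem
    refine ⟨B, funext fun a => ?_⟩
    show fstU he (B ⟨P he a 0, _⟩) = (c : F) * frob2 i a
    have e1 := eq_P he (B ⟨P he a 0, P_mem_uGroup he a 0⟩)
    have e2 : ((B ⟨P he a 0, P_mem_uGroup he a 0⟩ : uGroup he) : Sz F (2 ^ (m + 1))) =
        A (P he a 0) := hB _
    rw [e2, hA] at e1
    rw [← (P_injective he e1).1, ht']
    rfl

theorem aut_sylow (hm : 1 ≤ m) (hF : Fintype.card F = 2 ^ (2 * m + 1)) :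
    Cfsg.IsElementaryAbelian 2 (Cfsg.pCore 2 (MulAut (uGroup (twist_of_card hF)))) ∧
    Nat.card (Cfsg.pCore 2 (MulAut (uGroup (twist_of_card hF)))) = 2 ^ ((2 * m + 1) ^ 2) ∧
    Nat.card (MulAut (uGroup (twist_of_card hF))) =
      2 ^ ((2 * m + 1) ^ 2) * ((2 * m + 1) * (2 ^ (2 * m + 1) - 1)) := by
  classical
  have : Fact (Nat.Prime 2) := ⟨Nat.prime_two⟩
  have he := twist_of_card hF
  have hc := exists_pow_ne he hm hF
  have h2 := he.two
  set ρ := rho he hc with hρ
  have hker : Nat.card ρ.ker = 2 ^ ((2 * m + 1) ^ 2) := by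
    rw [pow_two, ← card_addHom (F := F) hF]
    exact (Nat.card_congr (Equiv.ofBijective
      (fun h : F →+ F => (⟨shiftAut he h, shiftAut_mem_ker he hc h⟩ : ρ.ker))
      ⟨fun a b h => shiftAut_injective he (congrArg Subtype.val h),
        fun α => by obtain ⟨h, hh⟩ := ker_rho he hc α.1 α.2; exact ⟨h, Subtype.ext hh⟩⟩)).symm
  have hrange : Nat.card ρ.range = (2 * m + 1) * (2 ^ (2 * m + 1) - 1) := by
    have e1 : Nat.card ρ.range = Nat.card (Set.range fun α => ⇑(ρ α)) := by
      have hr : (Set.range fun α => ⇑(ρ α)) = (fun f : Equiv.Perm F => ⇑f) '' (ρ.range : Set _) := by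
        rw [MonoidHom.coe_range, ← Set.range_comp]
        rfl
      rw [hr, Nat.card_image_of_injective DFunLike.coe_injective]
      rfl
    rw [e1, rho_range hm hF hc, Nat.card_range_of_injective (semiMap_injective hF), Nat.card_prod,
      Nat.card_zmod, Nat.card_eq_fintype_card, Fintype.card_units, hF, mul_comm]
  have hpg : IsPGroup 2 ρ.ker := IsPGroup.of_card hker
  have hcomm : ∀ α ∈ ρ.ker, ∀ β ∈ ρ.ker, α * β = β * α := by
    intro α hα β hβ
    obtain ⟨h, rfl⟩ := ker_rho he hc α hα
    obtain ⟨k, rfl⟩ := ker_rho he hc β hβ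
    rw [shiftAut_mul, shiftAut_mul, add_comm h k]
  have hsq : ∀ α ∈ ρ.ker, α ^ 2 = 1 := by
    intro α hα
    obtain ⟨h, rfl⟩ := ker_rho he hc α hα
    rw [pow_two, shiftAut_mul]
    refine uGroup_ext he (fun a => Subtype.ext ?_) (fun b => Subtype.ext ?_)
    · rw [shiftAut_apply, fstU_P, sndU_P, AddMonoidHom.add_apply,
        show (0 : F) + (h a + h a) = 0 by linear_combination h a * h2]
      rfl
    · rw [shiftAut_apply, fstU_P, sndU_P, map_zero, add_zero]
      rfl
  -- the image of a normal 2-subgroup is trivial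
  have hcore : Cfsg.pCore 2 (MulAut (uGroup he)) = ρ.ker := by
    refine le_antisymm ?_ (le_sSup ⟨inferInstance, hpg⟩)
    refine sSup_le fun N ⟨hN, hNp⟩ α hα => ?_
    rw [MonoidHom.mem_ker]
    have hodd : Nat.Coprime (Nat.card Fˣ) 2 := by
      rw [Nat.card_eq_fintype_card, Fintype.card_units, hF]
      refine (Nat.prime_two.coprime_iff_not_dvd.2 fun h => ?_).symm
      have : 2 ∣ 2 ^ (2 * m + 1) := dvd_pow_self 2 (by omega)
      have := Nat.one_le_two_pow (n := 2 * m + 1)
      omega
    -- a scalar in the image of `N` is trivial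
    have hscal : ∀ β ∈ N, ∀ c : Fˣ, (∀ x, ρ β x = (c : F) * x) → c = 1 := by
      intro β hβ c hcx
      obtain ⟨k, hk⟩ := hNp ⟨β, hβ⟩
      have hk' : β ^ 2 ^ k = 1 := congrArg Subtype.val hk
      have hpow : ∀ j x, ρ (β ^ j) x = ((c ^ j : Fˣ) : F) * x := by
        intro j
        induction j with
        | zero => intro x; simp
        | succ j ih =>
          intro x
          rw [pow_succ β, map_mul, Equiv.Perm.mul_apply, hcx, ih, pow_succ c, Units.val_mul, mul_assoc]
      have h1 := hpow (2 ^ k) 1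
      rw [hk', show ρ 1 = 1 from map_one ρ, mul_one, Equiv.Perm.one_apply] at h1
      have hord : orderOf c ∣ 2 ^ k := orderOf_dvd_of_pow_eq_one (Units.ext h1.symm)
      refine orderOf_eq_one_iff.1 (Nat.dvd_one.1 ?_)
      exact (Nat.Coprime.pow_right k hodd) ▸ Nat.dvd_gcd (orderOf_dvd_natCard c) hord
    obtain ⟨⟨c, i⟩, hci⟩ : ⇑(ρ α) ∈ Set.range (semiMap (F := F) (n := 2 * m + 1)) :=
      rho_range hm hF hc ▸ ⟨α, rfl⟩
    obtain ⟨u, hu⟩ := IsCyclic.exists_generator (α := Fˣ)
    obtain ⟨δ, hδ⟩ : semiMap (F := F) (n := 2 * m + 1) (u, 0) ∈ Set.range fun α => ⇑(ρ α) :=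
      (rho_range hm hF hc).symm ▸ ⟨_, rfl⟩
    have hδ' : ∀ x, ρ δ x = (u : F) * x := fun x => by
      have := congrFun hδ x
      simpa [semiMap, frob2] using this
    have hα' : ∀ x, ρ α x = (c : F) * frob2 i x := fun x => (congrFun hci x).symm
    have hconj : α * δ * α⁻¹ * δ⁻¹ ∈ N := by
      rw [show α * δ * α⁻¹ * δ⁻¹ = α * (δ * α⁻¹ * δ⁻¹) by group]
      exact mul_mem hα (hN.conj_mem _ (inv_mem hα) δ)
    -- the commutator is the scalar `frob2 i u / u`
    have hu0 : frob2 i (u : F) ≠ 0 := pow_ne_zero _ u.ne_zero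
    set d := Units.mk0 (frob2 i (u : F)) hu0 / u with hd
    have hcom : ∀ x, ρ (α * δ * α⁻¹ * δ⁻¹) x = (d : F) * x := by
      intro x
      obtain ⟨y, hy⟩ := (ρ δ).surjective x
      obtain ⟨z, hz⟩ := (ρ α).surjective y
      have h1 : ρ δ⁻¹ x = y := by
        rw [← hy, ← Equiv.Perm.mul_apply, ← map_mul, inv_mul_cancel, map_one]; rfl
      have h3 : ρ α⁻¹ y = z := by
        rw [← hz, ← Equiv.Perm.mul_apply, ← map_mul, inv_mul_cancel, map_one]; rfl
      rw [map_mul, Equiv.Perm.mul_apply, h1, map_mul, Equiv.Perm.mul_apply, h3, map_mul,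
        Equiv.Perm.mul_apply, hδ', hα', ← hy, hδ', ← hz, hα', frob2_mul, hd,
        Units.val_div_eq_div_val, Units.val_mk0]
      field_simp
    have hd1 := hscal _ hconj d hcom
    have hiu : frob2 i (u : F) = u := congrArg Units.val (div_eq_one.1 hd1)
    have hi : ∀ x : F, frob2 i x = x := by
      intro x
      rcases eq_or_ne x 0 with rfl | hx
      · exact zero_pow (by positivity)
      obtain ⟨j, hj⟩ := hu (Units.mk0 x hx)
      have hu' : u ^ (2 ^ i.val) = u := Units.ext (by simpa [frob2] using hiu)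
      have : (Units.mk0 x hx) ^ (2 ^ i.val) = Units.mk0 x hx := by
        rw [← hj]
        show (u ^ j) ^ (2 ^ i.val) = u ^ j
        rw [← zpow_natCast (u ^ j), zpow_comm, zpow_natCast, hu']
      exact congrArg Units.val this
    have hc1 : c = 1 := hscal α hα c fun x => by rw [hα', hi]
    refine Equiv.ext fun x => ?_
    rw [hα', hi, hc1, Units.val_one, one_mul]
    rfl
  rw [hcore]
  refine ⟨⟨⟨⟨fun a b => Subtype.ext (hcomm a a.2 b b.2)⟩⟩, hsq⟩, hker, ?_⟩
  rw [← ρ.ker.index_mul_card, Subgroup.index_ker, hrange, hker, mul_comm]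

end CfsgLib.KnownB.Suzuki
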