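import Cfsg.Prelude.Def_Sz

set_option autoImplicit false

/-!
Explicit elements of the Suzuki group `Cfsg.Lie.Sz F e` in characteristic two,
for `e` a power of two with `x ^ (e * e) = x ^ 2`.
-/

namespace CfsgLib.KnownB.SzElem

open Matrix Cfsg.Lie

variable {F : Type*} [Field F]

/-- The hypotheses on `(F, e)`. -/
structure Twist (F : Type*) [Field F] (e : ℕ) : Prop where
  two : (2 : F) = 0
  add_pow : ∀ x y : F, (x + y) ^ e = x ^ e + y ^ e
  pow_pow : ∀ x : F, (x ^ e) ^ e = x ^ 2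
  one_lt : 1 < e

theorem twist_of_card [Fintype F] {m : ℕ} (hF : Fintype.card F = 2 ^ (2 * m + 1)) :
    Twist F (2 ^ (m + 1)) := by
  have : Fact (Nat.Prime 2) := ⟨Nat.prime_two⟩
  have hc : CharP F 2 := by
    obtain ⟨p, hpc⟩ := CharP.exists F
    obtain ⟨n, hp, hn⟩ := FiniteField.card F p
    have h2 : p ∣ 2 ^ (2 * m + 1) := by
      rw [← hF, hn]
      exact dvd_pow_self _ n.2.ne'
    have hp2 : p = 2 := (Nat.prime_dvd_prime_iff_eq hp Nat.prime_two).1 (hp.dvd_of_dvd_pow h2)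
    subst hp2
    infer_instance
  refine ⟨CharTwo.two_eq_zero, fun x y => add_pow_char_pow x y 2 (m + 1), fun x => ?_,
    Nat.one_lt_two_pow (by omega)⟩
  rw [← pow_mul, show 2 ^ (m + 1) * 2 ^ (m + 1) = Fintype.card F * 2 by
    rw [hF]; ring, pow_mul, FiniteField.pow_card]

/-- Unit from a matrix and its inverse. -/
def mkUnit (M N : Matrix (Fin 4) (Fin 4) F) (h : M * N = 1) : GL (Fin 4) F :=
  ⟨M, N, h, mul_eq_one_comm.mp h⟩

/-- The upper root matrix of the centre of a Sylow 2-subgroup. -/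
def Umat (e : ℕ) (b : F) : Matrix (Fin 4) (Fin 4) F :=
  !![1, 0, b, b ^ e; 0, 1, 0, b; 0, 0, 1, 0; 0, 0, 0, 1]

/-- Its opposite. -/
def Lmat (e : ℕ) (b : F) : Matrix (Fin 4) (Fin 4) F :=
  !![1, 0, 0, 0; 0, 1, 0, 0; b, 0, 1, 0; b ^ e, b, 0, 1]

/-- The torus. -/
def Hmat (e : ℕ) (t : F) : Matrix (Fin 4) (Fin 4) F :=
  Matrix.diagonal ![t ^ (e + 1), t, t⁻¹, (t ^ (e + 1))⁻¹]

lemma Umat_mul {e : ℕ} (he : Twist F e) (a b : F) :
    Umat e a * Umat e b = Umat e (a + b) := by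
  ext i j
  fin_cases i <;> fin_cases j <;> simp [Umat, Matrix.mul_apply, Fin.sum_univ_four, he.add_pow] <;>
    ring

lemma Umat_sq {e : ℕ} (he : Twist F e) (b : F) : Umat e b * Umat e b = 1 := by
  rw [Umat_mul he, show b + b = 0 by rw [← two_mul, he.two, zero_mul]]
  ext i j
  fin_cases i <;> fin_cases j <;> simp [Umat, zero_pow (Nat.ne_zero_of_lt he.one_lt)]

lemma Lmat_sq {e : ℕ} (he : Twist F e) (b : F) : Lmat e b * Lmat e b = 1 := by
  have h2 := he.two
  ext i j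
  fin_cases i <;> fin_cases j <;> simp [Lmat, Matrix.mul_apply, Fin.sum_univ_four] <;> grind

lemma Hmat_mul_inv {e : ℕ} {t : F} (ht : t ≠ 0) : Hmat e t * Hmat e t⁻¹ = 1 := by
  rw [Hmat, Hmat, Matrix.diagonal_mul_diagonal, ← Matrix.diagonal_one]
  congr 1
  ext i
  fin_cases i <;> simp [ht, inv_pow]

lemma mem_Sz_of {e : ℕ} {g : GL (Fin 4) F} {M : Matrix (Fin 4) (Fin 4) F}
    (hg : (g : Matrix (Fin 4) (Fin 4) F) = M)
    (hf : ∀ u v, altForm4 (M *ᵥ u) (M *ᵥ v) = altForm4 u v)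
    (hs : star4 M = M.map (fun x => x ^ e)) : g ∈ Sz F e := by
  refine Subgroup.subset_closure ⟨?_, by rw [hg]; exact hs⟩
  intro u v
  simpa [hg] using hf u v

/-- `Umat` as an element of the Suzuki group. -/
def U (e : ℕ) (he : Twist F e) (b : F) : Sz F e :=
  ⟨mkUnit _ _ (Umat_sq he b), mem_Sz_of (M := Umat e b) rfl
    (fun u v => by
      have h2 := he.two
      simp [Umat, altForm4, Matrix.mulVec, dotProduct, Fin.sum_univ_four]
      grind)
    (by
      have h2 := he.two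
      have hpp := he.pow_pow b
      have h0 : (0 : F) ^ e = 0 := zero_pow (Nat.ne_zero_of_lt he.one_lt)
      ext i j
      fin_cases i <;> fin_cases j <;> simp [Umat, star4, pairOf, h0] <;> grind)⟩

/-- `Lmat` as an element of the Suzuki group. -/
def L (e : ℕ) (he : Twist F e) (b : F) : Sz F e :=
  ⟨mkUnit _ _ (Lmat_sq he b), mem_Sz_of (M := Lmat e b) rfl
    (fun u v => by
      have h2 := he.two
      simp [Lmat, altForm4, Matrix.mulVec, dotProduct, Fin.sum_univ_four]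
      grind)
    (by
      have h2 := he.two
      have hpp := he.pow_pow b
      have h0 : (0 : F) ^ e = 0 := zero_pow (Nat.ne_zero_of_lt he.one_lt)
      ext i j
      fin_cases i <;> fin_cases j <;> simp [Lmat, star4, pairOf, h0] <;> grind)⟩

/-- `Hmat` as an element of the Suzuki group. -/
def H (e : ℕ) (he : Twist F e) (t : Fˣ) : Sz F e :=
  ⟨mkUnit _ _ (Hmat_mul_inv t.ne_zero), mem_Sz_of (M := Hmat e (t : F)) rfl
    (fun u v => by
      have ht := t.ne_zero
      simp [Hmat, altForm4, Matrix.mulVec_diagonal]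
      field_simp)
    (by
      have h2 := he.two
      have ht := t.ne_zero
      have h0 : (0 : F) ^ e = 0 := zero_pow (Nat.ne_zero_of_lt he.one_lt)
      have hee : (t : F) ^ (e * e) = (t : F) ^ 2 := by rw [pow_mul, he.pow_pow]
      ext i j
      fin_cases i <;> fin_cases j <;> simp [Hmat, star4, pairOf, h0]
      all_goals (simp only [inv_pow, pow_succ, mul_pow, mul_inv, ← pow_mul, hee]; field_simp))⟩

lemma coe_U {e : ℕ} (he : Twist F e) (b : F) :
    (((U e he b : Sz F e) : GL (Fin 4) F) : Matrix (Fin 4) (Fin 4) F) = Umat e b := rfl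

lemma coe_L {e : ℕ} (he : Twist F e) (b : F) :
    (((L e he b : Sz F e) : GL (Fin 4) F) : Matrix (Fin 4) (Fin 4) F) = Lmat e b := rfl

lemma coe_H {e : ℕ} (he : Twist F e) (t : Fˣ) :
    (((H e he t : Sz F e) : GL (Fin 4) F) : Matrix (Fin 4) (Fin 4) F) = Hmat e (t : F) := rfl

lemma coe_H_inv {e : ℕ} (he : Twist F e) (t : Fˣ) :
    (((H e he t)⁻¹ : Sz F e) : GL (Fin 4) F).val = Hmat e (t : F)⁻¹ := rfl

end CfsgLib.KnownB.SzElem
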