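import Cfsg.Agent.Lib.KnownB.TICount
import Mathlib.GroupTheory.Sylow
import Mathlib.Tactic.LinearCombination
import Mathlib.Tactic.Linarith

set_option autoImplicit false

/-!
Counting in a finite group partitioned into a trivial-intersection class of 2-subgroups and
self-centralising subgroups of odd order: the possible subgroups of a Suzuki group.
-/

namespace CfsgLib.KnownB.SzCount

open CfsgLib.KnownB.TICount
open scoped Pointwise

variable {X : Type*} [Group X]

/-- Nontrivial elements outside the 2-subgroups. -/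
def IsTor (S : Subgroup X) (x : X) : Prop := x ≠ 1 ∧ x ∉ conjSet S

/-- Abbreviation for the centraliser of an element. -/
abbrev cen (x : X) : Subgroup X := Subgroup.centralizer {x}

/-- The hypotheses. -/
structure Hyp (S : Subgroup X) : Prop where
  two : IsPGroup 2 S
  central : ∀ t ∈ S, t * t = 1 → ∀ u ∈ S, t * u = u * t
  centr_le : ∀ t ∈ S, t ≠ 1 → cen t ≤ S
  ti : ∀ g : X, ∀ t ∈ S, t ≠ 1 → g * t * g⁻¹ ∈ S → g ∈ Subgroup.normalizer (S : Set X)
  max : ∀ u ∈ Subgroup.normalizer (S : Set X), u ∈ conjSet S → u ∈ S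
  tor : ∀ x, IsTor S x → (∀ y ∈ cen x, y ≠ 1 → cen y = cen x) ∧ ¬ 2 ∣ Nat.card (cen x) ∧
    5 ≤ Nat.card (cen x) ∧ ∃ k, (k = 1 ∨ k = 2 ∨ k = 4) ∧
      Nat.card (Subgroup.normalizer (cen x : Set X)) = k * Nat.card (cen x)
  three : ¬ 3 ∣ Nat.card X

variable {S : Subgroup X}

lemma mem_cen_self (x : X) : x ∈ cen x := Subgroup.mem_centralizer_singleton_iff.2 rfl

lemma cen_conj (g x : X) : cen (g * x * g⁻¹) = (cen x).map (MulAut.conj g).toMonoidHom := by
  ext y
  constructor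
  · intro hy
    refine ⟨g⁻¹ * y * g, ?_, by simp [mul_assoc]⟩
    rw [SetLike.mem_coe, Subgroup.mem_centralizer_singleton_iff]
    have := congrArg (fun w => g⁻¹ * w * g) (Subgroup.mem_centralizer_singleton_iff.1 hy)
    simpa [mul_assoc] using this
  · rintro ⟨a, ha, rfl⟩
    rw [Subgroup.mem_centralizer_singleton_iff]
    show g * a * g⁻¹ * (g * x * g⁻¹) = g * x * g⁻¹ * (g * a * g⁻¹)
    have := congrArg (fun w => g * w * g⁻¹) (Subgroup.mem_centralizer_singleton_iff.1 ha)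
    simpa [mul_assoc] using this

lemma mem_conjSet_conj {A : Subgroup X} {x : X} (g : X) (h : x ∈ conjSet A) :
    g * x * g⁻¹ ∈ conjSet A := by
  obtain ⟨h1, c, hc⟩ := h
  exact ⟨fun h' => h1 (conj_eq_one_iff.1 h'), c * g⁻¹, by simpa [mul_assoc] using hc⟩

lemma isTor_conj {x : X} (g : X) (h : IsTor S x) : IsTor S (g * x * g⁻¹) :=
  ⟨fun h' => h.1 (conj_eq_one_iff.1 h'),
    fun h' => h.2 (by simpa [mul_assoc] using mem_conjSet_conj g⁻¹ h')⟩

lemma two_elem_of_mem_conjSet (h : Hyp S) {x : X} (hx : x ∈ conjSet S) :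
    ∃ n, orderOf x = 2 ^ n := by
  obtain ⟨-, g, hg⟩ := hx
  obtain ⟨n, hn⟩ := IsPGroup.iff_orderOf.1 h.two ⟨_, hg⟩
  exact ⟨n, by rw [← (MulAut.conj g).orderOf_eq x]; simpa [Subgroup.orderOf_mk] using hn⟩

variable [Finite X]

lemma isTor_odd (h : Hyp S) {x : X} (hx : IsTor S x) : Odd (orderOf x) := by
  rw [Nat.odd_iff]
  have h1 := (h.tor x hx).2.1
  have h2 : orderOf x ∣ Nat.card (cen x) := Subgroup.orderOf_dvd_natCard _ (mem_cen_self x)
  have : ¬ 2 ∣ orderOf x := fun h' => h1 (h'.trans h2)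
  omega

lemma mem_conjSet_of_two (h : Hyp S) {u : X} {n : ℕ} (hu : u ≠ 1) (hn : orderOf u = 2 ^ n) :
    u ∈ conjSet S := by
  by_contra hc
  have h1 := isTor_odd h ⟨hu, hc⟩
  rw [hn] at h1
  rcases Nat.eq_zero_or_pos n with rfl | hn0
  · exact hu (orderOf_eq_one_iff.1 (by simpa using hn))
  · exact (Nat.not_even_iff_odd.2 h1) (Nat.even_pow.2 ⟨even_two, hn0.ne'⟩)

lemma mem_conjSet_of_sq (h : Hyp S) {u : X} (hu : u ≠ 1) (hu2 : u * u = 1) : u ∈ conjSet S :=
  mem_conjSet_of_two h hu (n := 1) (by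
    haveI : Fact (Nat.Prime 2) := ⟨Nat.prime_two⟩
    simpa using orderOf_eq_prime (by rw [pow_two]; exact hu2) hu)

lemma tor_closed (h : Hyp S) {x y : X} (hx : IsTor S x) (hy : y ∈ cen x) (hy1 : y ≠ 1) :
    IsTor S y := by
  refine ⟨hy1, fun hc => ?_⟩
  obtain ⟨n, hn⟩ := two_elem_of_mem_conjSet h hc
  have h1 : orderOf y ∣ Nat.card (cen x) := Subgroup.orderOf_dvd_natCard _ hy
  rcases Nat.eq_zero_or_pos n with rfl | hn0
  · exact hy1 (orderOf_eq_one_iff.1 (by simpa using hn))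
  · exact (h.tor x hx).2.1 ((hn ▸ dvd_pow_self 2 hn0.ne').trans h1)

lemma cen_TI (h : Hyp S) {x : X} (hx : IsTor S x) (g a : X) (ha : a ∈ cen x) (ha1 : a ≠ 1)
    (hg : g * a * g⁻¹ ∈ cen x) : g ∈ Subgroup.normalizer (cen x : Set X) := by
  have h1 := (h.tor x hx).1 a ha ha1
  have h2 := (h.tor x hx).1 _ hg (fun h' => ha1 (conj_eq_one_iff.1 h'))
  rw [cen_conj, h1] at h2
  rw [Subgroup.mem_normalizer_iff]
  intro b
  constructor
  · intro hb
    rw [← h2]
    exact ⟨b, hb, rfl⟩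
  · intro hb
    rw [← h2] at hb
    obtain ⟨c, hc, hce⟩ := hb
    rwa [← (MulAut.conj g).injective hce]

lemma torus_count (h : Hyp S) {x : X} (hx : IsTor S x) {k : ℕ}
    (hk : Nat.card (Subgroup.normalizer (cen x : Set X)) = k * Nat.card (cen x)) :
    Nat.card (conjSet (cen x)) * (k * Nat.card (cen x)) =
      Nat.card X * (Nat.card (cen x) - 1) :=
  hk ▸ card_conjSet (cen x) (cen_TI h hx)

lemma isTor_of_mem_conjSet (h : Hyp S) {x z : X} (hx : IsTor S x) (hz : z ∈ conjSet (cen x)) :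
    IsTor S z := by
  obtain ⟨hz1, g, hg⟩ := hz
  have := isTor_conj g⁻¹ (tor_closed h hx hg fun h' => hz1 (conj_eq_one_iff.1 h'))
  simpa [mul_assoc] using this

lemma exists_cen_eq (h : Hyp S) {x z : X} (hx : IsTor S x) (hz : z ∈ conjSet (cen x)) :
    ∃ g, cen z = (cen x).map (MulAut.conj g).toMonoidHom := by
  obtain ⟨hz1, g, hg⟩ := hz
  refine ⟨g⁻¹, ?_⟩
  rw [← (h.tor x hx).1 _ hg fun h' => hz1 (conj_eq_one_iff.1 h'), ← cen_conj]
  simp [mul_assoc]

lemma card_cen_eq (h : Hyp S) {x z : X} (hx : IsTor S x) (hz : z ∈ conjSet (cen x)) :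
    Nat.card (cen z) = Nat.card (cen x) ∧
      Nat.card (Subgroup.normalizer (cen z : Set X)) =
        Nat.card (Subgroup.normalizer (cen x : Set X)) := by
  obtain ⟨g, hg⟩ := exists_cen_eq h hx hz
  rw [hg]
  refine ⟨Subgroup.card_map_of_injective (MulAut.conj g).injective, ?_⟩
  rw [← Subgroup.map_normalizer_eq_of_bijective _ (f := (MulAut.conj g).toMonoidHom)
    (MulAut.conj g).bijective, Subgroup.card_map_of_injective (MulAut.conj g).injective]

lemma mem_conjSet_trans (h : Hyp S) {x y z : X} (hx : IsTor S x) (hy : IsTor S y)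
    (h1 : z ∈ conjSet (cen x)) (h2 : z ∈ conjSet (cen y)) : y ∈ conjSet (cen x) := by
  obtain ⟨g, hg⟩ := exists_cen_eq h hx h1
  obtain ⟨c, hc⟩ := exists_cen_eq h hy h2
  have h3 : MulAut.conj c y ∈ (cen x).map (MulAut.conj g).toMonoidHom := by
    rw [← hg, hc]; exact ⟨y, mem_cen_self y, rfl⟩
  obtain ⟨a, ha, hae⟩ := h3
  refine ⟨hy.1, g⁻¹ * c, ?_⟩
  have hae' : g * a * g⁻¹ = c * y * c⁻¹ := hae
  have : g⁻¹ * c * y * (g⁻¹ * c)⁻¹ = a := by
    rw [show g⁻¹ * c * y * (g⁻¹ * c)⁻¹ = g⁻¹ * (c * y * c⁻¹) * g by simp [mul_assoc], ← hae']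
    simp [mul_assoc]
  rw [this]
  exact ha

lemma disjoint_of_notMem (h : Hyp S) {x y : X} (hx : IsTor S x) (hy : IsTor S y)
    (hne : y ∉ conjSet (cen x)) : Disjoint (conjSet (cen x)) (conjSet (cen y)) :=
  Set.disjoint_left.2 fun _ h1 h2 => hne (mem_conjSet_trans h hx hy h1 h2)

lemma mem_conjSet_self {x : X} (hx : x ≠ 1) : x ∈ conjSet (cen x) :=
  ⟨hx, 1, by simpa using mem_cen_self x⟩

lemma exists_sylow_le (h : Hyp S) {x : X} (hx : IsTor S x) {r : ℕ} [Fact r.Prime]
    (hr : r ∣ Nat.card (cen x)) : ∃ R : Sylow r X, (R : Subgroup X) ≤ cen x := by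
  obtain ⟨z, hz⟩ := exists_prime_orderOf_dvd_card' r hr
  have hzo : orderOf (z : X) = r := by rw [Subgroup.orderOf_coe, hz]
  have hz1 : (z : X) ≠ 1 := fun h' => by
    rw [h', orderOf_one] at hzo; exact (Fact.out : r.Prime).one_lt.ne hzo
  obtain ⟨R, hR⟩ := (IsPGroup.of_card (p := r) (n := 1) (by
    rw [Nat.card_zpowers, hzo, pow_one]) : IsPGroup r (Subgroup.zpowers (z : X))).exists_le_sylow
  refine ⟨R, ?_⟩
  haveI : Nontrivial (R : Subgroup X) :=
    ⟨⟨⟨z, hR (Subgroup.mem_zpowers _)⟩, 1, fun h' => hz1 (congrArg Subtype.val h')⟩⟩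
  have := R.2.center_nontrivial
  obtain ⟨w, hw⟩ := exists_ne (1 : Subgroup.center (R : Subgroup X))
  set v : X := ((w : (R : Subgroup X)) : X) with hv
  have hv1 : v ≠ 1 := fun h' => hw (Subtype.ext (Subtype.ext h'))
  have hvc : ∀ u ∈ (R : Subgroup X), v * u = u * v := fun u hu =>
    (congrArg Subtype.val (Subgroup.mem_center_iff.1 w.2 ⟨u, hu⟩)).symm
  have hzc : cen (z : X) = cen x := (h.tor x hx).1 _ z.2 hz1
  have hvx : v ∈ cen x := by
    rw [← hzc, Subgroup.mem_centralizer_singleton_iff]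
    exact hvc _ (hR (Subgroup.mem_zpowers _))
  intro u hu
  rw [← (h.tor x hx).1 v hvx hv1, Subgroup.mem_centralizer_singleton_iff]
  exact (hvc u hu).symm

lemma coprime_card (h : Hyp S) {x y : X} (hx : IsTor S x) (hy : IsTor S y)
    (hne : y ∉ conjSet (cen x)) : Nat.Coprime (Nat.card (cen x)) (Nat.card (cen y)) := by
  refine Nat.coprime_of_dvd fun r hr h1 h2 => ?_
  haveI : Fact r.Prime := ⟨hr⟩
  obtain ⟨R, hR⟩ := exists_sylow_le h hx h1
  obtain ⟨R', hR'⟩ := exists_sylow_le h hy h2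
  obtain ⟨g, hg⟩ := MulAction.exists_smul_eq X R R'
  obtain ⟨z, hz⟩ := exists_prime_orderOf_dvd_card' r
    (R.dvd_card_of_dvd_card (h1.trans (Subgroup.card_subgroup_dvd_card _)))
  have hz1 : (z : X) ≠ 1 := fun h' => by
    rw [← Subgroup.orderOf_coe, h', orderOf_one] at hz; exact hr.one_lt.ne hz
  have hz2 : g * z * g⁻¹ ∈ cen y := hR' (by
    rw [← hg, Sylow.coe_subgroup_smul]
    exact Subgroup.smul_mem_pointwise_smul _ (MulAut.conj g) _ z.2)
  have hz0 : g * (z : X) * g⁻¹ ≠ 1 := fun h' => hz1 (conj_eq_one_iff.1 h')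
  exact hne (mem_conjSet_trans h hx hy (z := g * z * g⁻¹)
    ⟨hz0, g⁻¹, by simpa [mul_assoc] using hR z.2⟩ ⟨hz0, 1, by simpa using hz2⟩)

lemma five_mul_le (h : Hyp S) {x : X} (hx : IsTor S x) :
    ∃ k, (k = 1 ∨ k = 2 ∨ k = 4) ∧
      Nat.card (Subgroup.normalizer (cen x : Set X)) = k * Nat.card (cen x) ∧
      4 * Nat.card X ≤ 5 * k * Nat.card (conjSet (cen x)) := by
  obtain ⟨-, -, h5, k, hk, hN⟩ := h.tor x hx
  refine ⟨k, hk, hN, ?_⟩
  have hc := torus_count h hx hN
  obtain ⟨b, hb⟩ : ∃ b, Nat.card (cen x) = b + 5 := ⟨_, (Nat.sub_add_cancel h5).symm⟩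
  rw [hb, show b + 5 - 1 = b + 4 from rfl] at hc
  apply Nat.le_of_mul_le_mul_right (c := b + 5) _ (by omega)
  nlinarith

/-- The classes inside a small closed set of torus elements. -/
lemma classes (h : Hyp S) (Z : Set X) (hZ : ∀ z ∈ Z, IsTor S z)
    (hcl : ∀ z ∈ Z, conjSet (cen z) ⊆ Z) (hsmall : 2 * Nat.card Z < Nat.card X) :
    Z = ∅ ∨
    (∃ x k, IsTor S x ∧ x ∈ Z ∧ Z = conjSet (cen x) ∧ (k = 2 ∨ k = 4) ∧
      Nat.card (Subgroup.normalizer (cen x : Set X)) = k * Nat.card (cen x)) ∨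
    (∃ x y, IsTor S x ∧ IsTor S y ∧ y ∉ conjSet (cen x) ∧
      Z = conjSet (cen x) ∪ conjSet (cen y) ∧
      Nat.card (Subgroup.normalizer (cen x : Set X)) = 4 * Nat.card (cen x) ∧
      Nat.card (Subgroup.normalizer (cen y : Set X)) = 4 * Nat.card (cen y)) := by
  rcases Z.eq_empty_or_nonempty with h0 | ⟨x, hxZ⟩
  · exact Or.inl h0
  right
  have hx := hZ x hxZ
  obtain ⟨k, hk, hN, h5⟩ := five_mul_le h hx
  have hle : Nat.card (conjSet (cen x)) ≤ Nat.card Z := Nat.card_mono Z.toFinite (hcl x hxZ)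
  have hk2 : k = 2 ∨ k = 4 := by
    rcases hk with rfl | hk
    · omega
    · exact hk
  by_cases hone : Z ⊆ conjSet (cen x)
  · exact Or.inl ⟨x, k, hx, hxZ, le_antisymm hone (hcl x hxZ), hk2, hN⟩
  right
  obtain ⟨y, hyZ, hyx⟩ := Set.not_subset.1 hone
  have hy := hZ y hyZ
  obtain ⟨l, hl, hNy, h5y⟩ := five_mul_le h hy
  have hd := disjoint_of_notMem h hx hy hyx
  have hsum : Nat.card (conjSet (cen x)) + Nat.card (conjSet (cen y)) ≤ Nat.card Z := by
    simp only [Nat.card_coe_set_eq]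
    rw [← Set.ncard_union_eq hd]
    exact Set.ncard_le_ncard (Set.union_subset (hcl x hxZ) (hcl y hyZ))
  have hkl : k = 4 ∧ l = 4 := by
    rcases hk2 with rfl | rfl <;> rcases hl with rfl | rfl | rfl <;> omega
  obtain ⟨rfl, rfl⟩ := hkl
  refine ⟨x, y, hx, hy, hyx, le_antisymm (fun z hz => ?_) (Set.union_subset (hcl x hxZ) (hcl y hyZ)),
    hN, hNy⟩
  by_contra hzn
  rw [Set.mem_union] at hzn
  push Not at hzn
  have hzt := hZ z hz
  obtain ⟨j, hj, hNz, h5z⟩ := five_mul_le h hzt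
  have hsum3 : Nat.card (conjSet (cen x)) + Nat.card (conjSet (cen y)) +
      Nat.card (conjSet (cen z)) ≤ Nat.card Z := by
    simp only [Nat.card_coe_set_eq]
    rw [← Set.ncard_union_eq hd, ← Set.ncard_union_eq (Set.disjoint_union_left.2
      ⟨disjoint_of_notMem h hx hzt hzn.1, disjoint_of_notMem h hy hzt hzn.2⟩)]
    exact Set.ncard_le_ncard
      (Set.union_subset (Set.union_subset (hcl x hxZ) (hcl y hyZ)) (hcl z hz))
  rcases hj with rfl | rfl | rfl <;> omega

/-- Odd order: a torus is everything. -/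
theorem odd_case (h : Hyp S) (hS : S = ⊥) (hodd : ¬ 2 ∣ Nat.card X) :
    (∀ x : X, x = 1) ∨ ∃ x, IsTor S x ∧ cen x = ⊤ := by
  by_cases hall : ∀ x : X, x = 1
  · exact Or.inl hall
  push Not at hall
  obtain ⟨x, hx1⟩ := hall
  have htor : ∀ z : X, z ≠ 1 → IsTor S z := fun z hz => ⟨hz, fun hc => by
    obtain ⟨-, g, hg⟩ := hc
    rw [hS, Subgroup.mem_bot] at hg
    exact hz (conj_eq_one_iff.1 hg)⟩
  have hk1 : ∀ z : X, z ≠ 1 →
      Nat.card (conjSet (cen z)) * Nat.card (cen z) = Nat.card X * (Nat.card (cen z) - 1) ∧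
      4 * Nat.card X ≤ 5 * Nat.card (conjSet (cen z)) := by
    intro z hz
    obtain ⟨k, hk, hN, h5⟩ := five_mul_le h (htor z hz)
    obtain rfl : k = 1 := by
      rcases hk with rfl | rfl | rfl
      · rfl
      · exact absurd ((Dvd.intro _ rfl).trans (hN ▸ Subgroup.card_subgroup_dvd_card _)) hodd
      · exact absurd (((show 2 ∣ 4 by norm_num).mul_right _).trans
          (hN ▸ Subgroup.card_subgroup_dvd_card _)) hodd
    exact ⟨by simpa using torus_count h (htor z hz) hN, by simpa using h5⟩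
  obtain ⟨hc, h5⟩ := hk1 x hx1
  have hcompl : Nat.card ({1}ᶜ : Set X) + 1 = Nat.card X := by
    rw [Nat.card_coe_set_eq, ← Set.ncard_singleton (1 : X), add_comm, Set.ncard_add_ncard_compl]
  by_cases hone : ({1}ᶜ : Set X) ⊆ conjSet (cen x)
  · refine Or.inr ⟨x, htor x hx1, Subgroup.eq_top_of_card_eq _ ?_⟩
    rw [show conjSet (cen x) = ({1}ᶜ : Set X) from
      le_antisymm (fun z hz => hz.1) hone] at hc
    rw [← hcompl] at hc ⊢
    obtain ⟨b, hb⟩ : ∃ b, Nat.card (cen x) = b + 1 :=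
      ⟨_, (Nat.sub_add_cancel Nat.card_pos).symm⟩
    rw [hb, Nat.add_sub_cancel] at hc
    rw [hb]
    linarith
  · exfalso
    obtain ⟨y, hy1, hyx⟩ := Set.not_subset.1 hone
    obtain ⟨-, h5y⟩ := hk1 y hy1
    have hle : (conjSet (cen x) ∪ conjSet (cen y)) ⊆ ({1}ᶜ : Set X) := by
      rintro z (hz | hz) <;> exact hz.1
    have h2 := Set.ncard_le_ncard hle
    rw [Set.ncard_union_eq (disjoint_of_notMem h (htor x hx1) (htor y hy1) hyx)] at h2
    simp only [← Nat.card_coe_set_eq] at h2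
    omega

/-- The subgroup of elements of `S` squaring to one. -/
def omegaOne (h : Hyp S) : Subgroup X where
  carrier := {t | t ∈ S ∧ t * t = 1}
  one_mem' := ⟨one_mem _, one_mul 1⟩
  mul_mem' := fun {a b} ha hb => ⟨mul_mem ha.1 hb.1, by
    rw [show a * b * (a * b) = a * (b * a) * b by simp [mul_assoc],
      ← h.central a ha.1 ha.2 b hb.1]
    simp only [mul_assoc, hb.2, mul_one, ha.2]⟩
  inv_mem' := fun {a} ha => ⟨inv_mem ha.1, by rw [← _root_.mul_inv_rev, ha.2, inv_one]⟩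

lemma mem_omegaOne (h : Hyp S) {t : X} : t ∈ omegaOne h ↔ t ∈ S ∧ t * t = 1 := Iff.rfl

lemma conjSet_omegaOne (h : Hyp S) : conjSet (omegaOne h) = {t | t ≠ 1 ∧ t * t = 1} := by
  ext t
  constructor
  · rintro ⟨ht, g, -, hg⟩
    refine ⟨ht, ?_⟩
    have := congrArg (fun w => g⁻¹ * w * g) hg
    simpa [mul_assoc] using this
  · rintro ⟨ht, ht2⟩
    obtain ⟨-, g, hg⟩ := mem_conjSet_of_sq h ht ht2
    refine ⟨ht, g, hg, ?_⟩
    rw [show g * t * g⁻¹ * (g * t * g⁻¹) = g * (t * t) * g⁻¹ by simp [mul_assoc], ht2]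
    simp

lemma exists_involution (h : Hyp S) (hS : S ≠ ⊥) : ∃ t, t ∈ omegaOne h ∧ t ≠ 1 := by
  haveI : Fact (Nat.Prime 2) := ⟨Nat.prime_two⟩
  obtain ⟨n, hn⟩ := IsPGroup.iff_card.1 h.two
  have hn0 : n ≠ 0 := by
    rintro rfl
    exact hS (Subgroup.eq_bot_of_card_eq _ (by simpa using hn))
  obtain ⟨t, ht⟩ := exists_prime_orderOf_dvd_card' 2 (hn ▸ dvd_pow_self 2 hn0)
  have hto : orderOf (t : X) = 2 := by rw [Subgroup.orderOf_coe, ht]
  exact ⟨t, ⟨t.2, by rw [← pow_two, ← hto, pow_orderOf_eq_one]⟩,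
    fun h' => by rw [h', orderOf_one] at hto; omega⟩

lemma normalizer_omegaOne (h : Hyp S) (hS : S ≠ ⊥) :
    Subgroup.normalizer (omegaOne h : Set X) = Subgroup.normalizer (S : Set X) := by
  obtain ⟨t, ht, ht1⟩ := exists_involution h hS
  refine le_antisymm (fun g hg => h.ti g t ht.1 ht1
    ((Subgroup.mem_normalizer_iff.1 hg t).1 ht).1) fun g hg => ?_
  rw [Subgroup.mem_normalizer_iff]
  intro u
  rw [mem_omegaOne, mem_omegaOne, ← Subgroup.mem_normalizer_iff.1 hg u]
  exact and_congr_right fun _ => by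
    rw [show g * u * g⁻¹ * (g * u * g⁻¹) = g * (u * u) * g⁻¹ by simp [mul_assoc], conj_eq_one_iff]

lemma card_involutions (h : Hyp S) (hS : S ≠ ⊥) :
    Nat.card {t : X | t ≠ 1 ∧ t * t = 1} * Nat.card (Subgroup.normalizer (S : Set X)) =
      Nat.card X * (Nat.card (omegaOne h) - 1) := by
  rw [← conjSet_omegaOne h, ← normalizer_omegaOne h hS]
  refine card_conjSet _ fun g a ha ha1 hg => ?_
  rw [normalizer_omegaOne h hS]
  exact h.ti g a ha.1 ha1 hg.1

lemma inverts (h : Hyp S) {x : X} (hx : IsTor S x) {t : X} (ht : t ≠ 1) (ht2 : t * t = 1)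
    (htN : t ∈ Subgroup.normalizer (cen x : Set X)) {y : X} (hy : y ∈ cen x) :
    t * y * t⁻¹ = y⁻¹ := by
  rcases eq_or_ne y 1 with rfl | hy1
  · simp
  have hti : t⁻¹ = t := inv_eq_of_mul_eq_one_right ht2
  have hy' : t * y * t⁻¹ ∈ cen x := (Subgroup.mem_normalizer_iff.1 htN y).1 hy
  have hcy := (h.tor x hx).1 y hy hy1
  have hw2 : y * (t * y * t⁻¹) = t * y * t⁻¹ * y := by
    rw [← hcy] at hy'
    exact (Subgroup.mem_centralizer_singleton_iff.1 hy').symm
  set w := y * (t * y * t⁻¹) with hw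
  by_contra hne
  have hw1 : w ≠ 1 := fun h' => hne (inv_eq_of_mul_eq_one_right h').symm
  have hwm : w ∈ cen x := mul_mem hy hy'
  have hfix : t * w = w * t := by
    have hwr : w = t * y * t⁻¹ * y := hw2
    conv_rhs => rw [hwr]
    rw [hw, hti]
    simp only [mul_assoc]
  have htm : t ∈ cen x := by
    rw [← (h.tor x hx).1 w hwm hw1, Subgroup.mem_centralizer_singleton_iff]
    exact hfix
  exact (isTor_odd h (tor_closed h hx htm ht)).not_two_dvd_nat
    (by rw [orderOf_eq_prime (p := 2) (hp := ⟨Nat.prime_two⟩) (by rw [pow_two]; exact ht2) ht])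

lemma card_inverting (h : Hyp S) {x : X} (hx : IsTor S x) {k : ℕ}
    (hk : Nat.card (Subgroup.normalizer (cen x : Set X)) = k * Nat.card (cen x)) (hev : 2 ∣ k) :
    Nat.card {t : X | (t ≠ 1 ∧ t * t = 1) ∧ t * x * t⁻¹ = x⁻¹} = Nat.card (cen x) := by
  haveI : Fact (Nat.Prime 2) := ⟨Nat.prime_two⟩
  obtain ⟨t, ht⟩ := exists_prime_orderOf_dvd_card'
    (G := Subgroup.normalizer (cen x : Set X)) 2 (hk ▸ hev.mul_right _)
  have hto : orderOf (t : X) = 2 := by rw [Subgroup.orderOf_coe, ht]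
  have ht1 : (t : X) ≠ 1 := fun h' => by rw [h', orderOf_one] at hto; omega
  have ht2 : (t : X) * t = 1 := by rw [← pow_two, ← hto, pow_orderOf_eq_one]
  have hti : ((t : X))⁻¹ = t := inv_eq_of_mul_eq_one_right ht2
  have hinv := inverts h hx ht1 ht2 t.2 (mem_cen_self x)
  have hnot : ∀ v ∈ cen x, (t : X) * v ≠ 1 := by
    intro v hv h'
    have : (t : X) ∈ cen x := by
      rw [← hti, inv_eq_of_mul_eq_one_right h']; exact hv
    exact (isTor_odd h (tor_closed h hx this ht1)).not_two_dvd_nat (by rw [hto])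
  refine Nat.card_congr (Equiv.ofBijective (fun u => (⟨(t : X) * u.1, ?_⟩ : cen x)) ⟨?_, ?_⟩)
  · obtain ⟨u, hu1, hu2⟩ := u
    rw [Subgroup.mem_centralizer_singleton_iff]
    show (t : X) * u * x = x * ((t : X) * u)
    have e1 : u * x = x⁻¹ * u := mul_inv_eq_iff_eq_mul.1 hu2
    have e2 : (t : X) * x⁻¹ = x * t := by
      have h3 := congrArg (fun w => w⁻¹) hinv
      simp only [conj_inv, inv_inv] at h3
      exact mul_inv_eq_iff_eq_mul.1 h3
    rw [mul_assoc, e1, ← mul_assoc, e2, mul_assoc]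
  · intro u v huv
    exact Subtype.ext (mul_left_cancel (congrArg Subtype.val huv))
  · rintro ⟨v, hv⟩
    have hvi := inverts h hx ht1 ht2 t.2 hv
    have hvx : v * x = x * v := Subgroup.mem_centralizer_singleton_iff.1 hv
    refine ⟨⟨(t : X) * v, ⟨hnot v hv, ?_⟩, ?_⟩, Subtype.ext ?_⟩
    · rw [hti] at hvi
      rw [← mul_assoc, hvi, inv_mul_cancel]
    · rw [_root_.mul_inv_rev, show (t : X) * v * x * (v⁻¹ * (t : X)⁻¹) =
        (t : X) * (v * x * v⁻¹) * (t : X)⁻¹ by simp [mul_assoc], hvx, mul_inv_cancel_right, hinv]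
    · show (t : X) * ((t : X) * v) = v
      rw [← mul_assoc, ht2, one_mul]

lemma card_inverting_zero (h : Hyp S) {x : X} (hx : IsTor S x)
    (hk : Nat.card (Subgroup.normalizer (cen x : Set X)) = Nat.card (cen x)) :
    Nat.card {t : X | (t ≠ 1 ∧ t * t = 1) ∧ t * x * t⁻¹ = x⁻¹} = 0 := by
  rw [Nat.card_eq_zero]
  left
  rw [isEmpty_subtype]
  rintro t ⟨⟨ht1, ht2⟩, hinv⟩
  have htN : t ∈ Subgroup.normalizer (cen x : Set X) :=
    cen_TI h hx t x (mem_cen_self x) hx.1 (hinv ▸ inv_mem (mem_cen_self x))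
  have heq := Subgroup.eq_of_le_of_card_ge (Subgroup.le_normalizer (H := cen x)) hk.le
  rw [← heq] at htN
  exact (isTor_odd h (tor_closed h hx htN ht1)).not_two_dvd_nat
    (by rw [orderOf_eq_prime (p := 2) (hp := ⟨Nat.prime_two⟩) (by rw [pow_two]; exact ht2) ht1])

lemma k_ne_four (h : Hyp S) (hel : ∀ u ∈ S, u * u = 1) {x : X} (hx : IsTor S x) :
    Nat.card (Subgroup.normalizer (cen x : Set X)) ≠ 4 * Nat.card (cen x) := by
  intro hk
  haveI : Fact (Nat.Prime 2) := ⟨Nat.prime_two⟩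
  obtain ⟨K, hK⟩ := Sylow.exists_subgroup_card_pow_prime
    (G := Subgroup.normalizer (cen x : Set X)) 2 (n := 2) (hk ▸ dvd_mul_right 4 _)
  have hinv : ∀ a ∈ K, a ≠ 1 → ((a : X) ≠ 1 ∧ (a : X) * a = 1) := by
    intro a ha ha1
    have ha1' : (a : X) ≠ 1 := fun h' => ha1 (Subtype.ext h')
    obtain ⟨n, hn⟩ := IsPGroup.iff_orderOf.1 (IsPGroup.of_card hK) ⟨a, ha⟩
    obtain ⟨-, g, hg⟩ := mem_conjSet_of_two h ha1' (n := n)
      (by rw [Subgroup.orderOf_coe, ← Subgroup.orderOf_mk a ha]; exact hn)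
    refine ⟨ha1', ?_⟩
    have h2 := hel _ hg
    have := congrArg (fun w => g⁻¹ * w * g) h2
    simpa [mul_assoc] using this
  have hK4 : 4 = Nat.card K := by rw [hK]; norm_num
  obtain ⟨a, ha, ha1⟩ : ∃ a ∈ K, a ≠ 1 := by
    by_contra hcon
    push Not at hcon
    rw [(Subgroup.eq_bot_iff_forall K).2 hcon, Subgroup.card_bot] at hK4
    omega
  obtain ⟨b, hb, hb1, hba⟩ : ∃ b ∈ K, b ≠ 1 ∧ b ≠ a := by
    by_contra hcon
    push Not at hcon
    have hsub : (K : Set _) ⊆ {1, a} := fun b hb => by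
      rcases eq_or_ne b 1 with rfl | hb1
      · exact Or.inl rfl
      · exact Or.inr (hcon b hb hb1)
    have hle := Set.ncard_le_ncard hsub (Set.toFinite _)
    rw [← Nat.card_coe_set_eq] at hle
    have : ({1, a} : Set _).ncard ≤ 2 := (Set.ncard_insert_le _ _).trans (by rw [Set.ncard_singleton])
    have h4 : Nat.card ((K : Set (Subgroup.normalizer (cen x : Set X))) : Type _) = 4 := hK4.symm
    omega
  obtain ⟨a1, a2⟩ := hinv a ha ha1
  obtain ⟨b1, b2⟩ := hinv b hb hb1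
  have hab : (a : X) * b ≠ 1 := fun h' => hba (Subtype.ext (by
    rw [← inv_eq_of_mul_eq_one_right h', inv_eq_of_mul_eq_one_right a2]))
  obtain ⟨-, c2⟩ := hinv (a * b) (mul_mem ha hb) (fun h' => hab (congrArg Subtype.val h'))
  have hA := inverts h hx a1 a2 a.2 (mem_cen_self x)
  have hB := inverts h hx b1 b2 b.2 (mem_cen_self x)
  have hC := inverts h hx hab c2 (a * b).2 (mem_cen_self x)
  rw [_root_.mul_inv_rev, show (a : X) * b * x * ((b : X)⁻¹ * (a : X)⁻¹) =
    (a : X) * ((b : X) * x * (b : X)⁻¹) * (a : X)⁻¹ by simp [mul_assoc], hB] at hC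
  have h3 : (a : X) * x⁻¹ * (a : X)⁻¹ = x := by
    rw [← conj_inv, hA, inv_inv]
  rw [h3] at hC
  exact (isTor_odd h hx).not_two_dvd_nat (by
    rw [orderOf_eq_prime (p := 2) (hp := ⟨Nat.prime_two⟩)
      (by rw [pow_two]; exact mul_eq_one_iff_eq_inv.2 hC) hx.1])

lemma conj_of_not_commute (h : Hyp S) {t u : X} (ht1 : t ≠ 1) (ht2 : t * t = 1)
    (hu2 : u * u = 1) (htu : t * u ≠ u * t) : ∃ g, g * t * g⁻¹ = u := by
  set z := t * u with hz
  have hzt : IsTor S z := by
    refine ⟨fun h' => htu ?_, fun hc => ?_⟩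
    · rw [hz, show u = t from (inv_eq_of_mul_eq_one_right h').symm.trans
        (inv_eq_of_mul_eq_one_right ht2)]
    · obtain ⟨hz1, g, hg⟩ := hc
      -- `t` inverts `z`, so normalises its Sylow subgroup
      have hconj : (g * t * g⁻¹) * (g * z * g⁻¹) * (g * t * g⁻¹)⁻¹ = (g * z * g⁻¹)⁻¹ := by
        have hti : t⁻¹ = t := inv_eq_of_mul_eq_one_right ht2
        have hui : u⁻¹ = u := inv_eq_of_mul_eq_one_right hu2
        rw [hz]
        simp [mul_assoc, hti, hui, ← mul_assoc t t, ht2]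
      have hT1 : g * t * g⁻¹ ≠ 1 := fun h' => ht1 (conj_eq_one_iff.1 h')
      have hTN : g * t * g⁻¹ ∈ Subgroup.normalizer (S : Set X) :=
        h.ti _ _ hg (fun h' => hz1 (conj_eq_one_iff.1 h')) (by rw [hconj]; exact inv_mem hg)
      have hT2 : g * t * g⁻¹ * (g * t * g⁻¹) = 1 := by
        rw [show g * t * g⁻¹ * (g * t * g⁻¹) = g * (t * t) * g⁻¹ by simp [mul_assoc], ht2]
        simp
      have hTS := h.max _ hTN (mem_conjSet_of_sq h hT1 hT2)
      have hUS : g * u * g⁻¹ ∈ S := by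
        have := mul_mem hTS hg
        rw [hz, show g * t * g⁻¹ * (g * (t * u) * g⁻¹) = g * (t * t * u) * g⁻¹ by
          simp [mul_assoc], ht2, one_mul] at this
        exact this
      have := congrArg (fun w => g⁻¹ * w * g) (h.central _ hTS hT2 _ hUS)
      exact htu (by simpa [mul_assoc] using this)
  obtain ⟨j, hj⟩ := isTor_odd h hzt
  have hti : t⁻¹ = t := inv_eq_of_mul_eq_one_right ht2
  have hui : u⁻¹ = u := inv_eq_of_mul_eq_one_right hu2
  have hflip : ∀ i : ℕ, t * (z ^ i)⁻¹ = z ^ i * t := by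
    intro i
    induction i with
    | zero => simp
    | succ i ih =>
      rw [pow_succ, _root_.mul_inv_rev, ← mul_assoc]
      have h1 : t * z⁻¹ = z * t := by rw [hz, _root_.mul_inv_rev, hti, hui, mul_assoc]
      rw [h1, mul_assoc, ih, ← mul_assoc, ← pow_succ', pow_succ]
  refine ⟨z ^ j, ?_⟩
  rw [mul_assoc, hflip, ← mul_assoc, ← pow_add, ← two_mul]
  have h2 : z ^ (2 * j) = z⁻¹ := eq_inv_of_mul_eq_one_left (by
    rw [← pow_succ, ← hj, pow_orderOf_eq_one])
  rw [h2, hz, _root_.mul_inv_rev, hti, hui, mul_assoc, ht2, mul_one]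

lemma not_commute_of_notMem (h : Hyp S) {t u : X} (ht : t ∈ S) (ht1 : t ≠ 1) (hu : u ∉ S) :
    t * u ≠ u * t := fun h' =>
  hu (h.centr_le t ht ht1 (Subgroup.mem_centralizer_singleton_iff.2 h'.symm))

lemma card_normalizer_S (h : Hyp S) (hS : S ≠ ⊥) (hnn : Subgroup.normalizer (S : Set X) ≠ ⊤) :
    Nat.card (Subgroup.normalizer (S : Set X)) =
      Nat.card S * (Nat.card (omegaOne h) - 1) := by
  classical
  obtain ⟨g, -, hg⟩ := SetLike.exists_of_lt (lt_top_iff_ne_top.2 hnn)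
  obtain ⟨t, htZ, ht1⟩ := exists_involution h hS
  set N := Subgroup.normalizer (S : Set X)
  set Ω := omegaOne h
  have hout : g * t * g⁻¹ ∉ S := fun h' => hg (h.ti g t htZ.1 ht1 h')
  have ho2 : g * t * g⁻¹ * (g * t * g⁻¹) = 1 := by
    rw [show g * t * g⁻¹ * (g * t * g⁻¹) = g * (t * t) * g⁻¹ by simp [mul_assoc], htZ.2]
    simp
  have ho1 : g * t * g⁻¹ ≠ 1 := fun h' => ht1 (conj_eq_one_iff.1 h')
  have htrans : ∀ u ∈ Ω, u ≠ 1 → ∃ n ∈ N, n * t * n⁻¹ = u := by
    intro u hu hu1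
    obtain ⟨c, hc⟩ := conj_of_not_commute h ho1 ho2 hu.2
      (fun h' => not_commute_of_notMem h hu.1 hu1 hout h'.symm)
    refine ⟨c * g, h.ti _ t htZ.1 ht1 ?_, ?_⟩
    · rw [show c * g * t * (c * g)⁻¹ = c * (g * t * g⁻¹) * c⁻¹ by simp [mul_assoc], hc]
      exact hu.1
    · rw [show c * g * t * (c * g)⁻¹ = c * (g * t * g⁻¹) * c⁻¹ by simp [mul_assoc], hc]
  let B := S.subgroupOf N
  have hmem : ∀ n : N, (n : X) * t * (n : X)⁻¹ ∈ Ω ∧ (n : X) * t * (n : X)⁻¹ ≠ 1 := by
    intro n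
    have hn : (n : X) ∈ Subgroup.normalizer (Ω : Set X) := by
      rw [normalizer_omegaOne h hS]; exact n.2
    exact ⟨(Subgroup.mem_normalizer_iff.1 hn t).1 htZ, fun h' => ht1 (conj_eq_one_iff.1 h')⟩
  have hfix : ∀ n n' : N, (QuotientGroup.mk n : N ⧸ B) = QuotientGroup.mk n' ↔
      (n : X) * t * (n : X)⁻¹ = (n' : X) * t * (n' : X)⁻¹ := by
    intro n n'
    rw [QuotientGroup.eq, Subgroup.mem_subgroupOf, Subgroup.coe_mul, Subgroup.coe_inv]
    constructor
    · intro h'
      have h1 := congrArg (fun y => (n : X) * y * (n' : X)⁻¹) (h.central t htZ.1 htZ.2 _ h')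
      simpa [mul_assoc] using h1
    · intro h'
      refine h.centr_le t htZ.1 ht1 (Subgroup.mem_centralizer_singleton_iff.2 ?_)
      have h1 := congrArg (fun y => (n : X)⁻¹ * y * (n' : X)) h'
      simpa [mul_assoc] using h1.symm
  let f : N ⧸ B → {u : Ω // u ≠ 1} := fun c =>
    ⟨⟨_, (hmem c.out).1⟩, fun h' => (hmem c.out).2 (congrArg Subtype.val h')⟩
  have hf : Function.Bijective f := by
    constructor
    · intro c c' h'
      rw [← c.out_eq, ← c'.out_eq]
      exact (hfix _ _).2 (congrArg (fun y => ((y : {u : Ω // u ≠ 1}).1 : X)) h')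
    · rintro ⟨⟨u, hu⟩, hu1⟩
      obtain ⟨n, hn, hnu⟩ := htrans u hu (fun h' => hu1 (Subtype.ext h'))
      refine ⟨QuotientGroup.mk ⟨n, hn⟩, Subtype.ext (Subtype.ext ?_)⟩
      exact ((hfix _ ⟨n, hn⟩).1 (Quotient.out_eq _)).trans hnu
  have hidx : B.index = Nat.card Ω - 1 := by
    rw [Subgroup.index_eq_card, Nat.card_congr (Equiv.ofBijective f hf)]
    have : Fintype Ω := Fintype.ofFinite Ω
    rw [Nat.card_eq_fintype_card, Nat.card_eq_fintype_card, Fintype.card_subtype_compl,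
      Fintype.card_subtype_eq]
  rw [← B.index_mul_card, hidx,
    Nat.card_congr (Subgroup.subgroupOfEquivOfLe (Subgroup.le_normalizer (H := S))).toEquiv,
    mul_comm]

lemma card_split (h : Hyp S) :
    Nat.card X = 1 + Nat.card (conjSet S) + Nat.card {x : X | IsTor S x} := by
  classical
  simp only [Nat.card_coe_set_eq]
  have hd : Disjoint (conjSet S) {x : X | IsTor S x} := Set.disjoint_left.2 fun x hx hx' => hx'.2 hx
  rw [add_assoc, ← Set.ncard_union_eq hd, ← Set.ncard_singleton (1 : X),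
    ← Set.ncard_union_eq (Set.disjoint_left.2 ?_)]
  · rw [show {1} ∪ (conjSet S ∪ {x : X | IsTor S x}) = Set.univ from ?_, Set.ncard_univ]
    refine Set.eq_univ_of_forall fun x => ?_
    rcases eq_or_ne x 1 with rfl | hx
    · exact Or.inl rfl
    · by_cases hc : x ∈ conjSet S
      · exact Or.inr (Or.inl hc)
      · exact Or.inr (Or.inr ⟨hx, hc⟩)
  · rintro x rfl (hx | hx) <;> exact hx.1 rfl

/-- The pairs of an involution and a torus element inverted by it, torus element in `Z`. -/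
def invPairs (Z : Set X) : Set (X × X) :=
  {p | (p.1 ≠ 1 ∧ p.1 * p.1 = 1) ∧ p.2 ∈ Z ∧ p.1 * p.2 * p.1⁻¹ = p.2⁻¹}

lemma card_invPairs_union {Z W : Set X} (hd : Disjoint Z W) :
    Nat.card (invPairs (Z ∪ W)) = Nat.card (invPairs Z) + Nat.card (invPairs W) := by
  simp only [Nat.card_coe_set_eq]
  rw [← Set.ncard_union_eq (Set.disjoint_left.2 fun p hp hp' =>
    Set.disjoint_left.1 hd hp.2.1 hp'.2.1)]
  congr 1
  ext p
  simp only [invPairs, Set.mem_union, Set.mem_ofPred_eq]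
  tauto

lemma card_invPairs_class (h : Hyp S) {x : X} (hx : IsTor S x) {k : ℕ}
    (hk : Nat.card (Subgroup.normalizer (cen x : Set X)) = k * Nat.card (cen x)) (hev : 2 ∣ k) :
    Nat.card (invPairs (conjSet (cen x))) * k = Nat.card X * (Nat.card (cen x) - 1) := by
  classical
  have hfib : Nat.card (invPairs (conjSet (cen x))) =
      Nat.card (conjSet (cen x)) * Nat.card (cen x) := by
    let E : invPairs (conjSet (cen x)) ≃
        Σ z : conjSet (cen x), {t : X | (t ≠ 1 ∧ t * t = 1) ∧ t * (z : X) * t⁻¹ = (z : X)⁻¹} :=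
      { toFun := fun p => ⟨⟨p.1.2, p.2.2.1⟩, ⟨p.1.1, p.2.1, p.2.2.2⟩⟩
        invFun := fun q => ⟨(q.2.1, q.1.1), q.2.2.1, q.1.2, q.2.2.2⟩
        left_inv := fun p => rfl
        right_inv := fun q => rfl }
    haveI : Fintype (conjSet (cen x)) := Fintype.ofFinite _
    rw [Nat.card_congr E, Nat.card_sigma, Nat.card_eq_fintype_card (α := conjSet (cen x)),
      ← smul_eq_mul, ← Finset.card_univ, ← Finset.sum_const]
    refine Finset.sum_congr rfl fun z _ => ?_
    obtain ⟨h1, h2⟩ := card_cen_eq h hx z.2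
    rw [card_inverting h (isTor_of_mem_conjSet h hx z.2) (by rw [h2, hk, h1]) hev, h1]
  rw [hfib, mul_assoc, mul_comm (Nat.card (cen x)) k, torus_count h hx hk]

lemma card_invPairs_tor (h : Hyp S) (hS : S ≠ ⊥) :
    Nat.card (invPairs {x : X | IsTor S x}) + (Nat.card (omegaOne h) - 1) *
        Nat.card {t : X | t ≠ 1 ∧ t * t = 1} =
      Nat.card {t : X | t ≠ 1 ∧ t * t = 1} * Nat.card {t : X | t ≠ 1 ∧ t * t = 1} := by
  classical
  set I := {t : X | t ≠ 1 ∧ t * t = 1} with hI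
  let A : Set (X × X) := {p | p.1 ∈ I ∧ p.2 ∈ I ∧ p.1 * p.2 ≠ p.2 * p.1}
  let B : Set (X × X) := {p | p.1 ∈ I ∧ p.2 ∈ I ∧ p.1 * p.2 = p.2 * p.1}
  have hAB : Nat.card A + Nat.card B = Nat.card I * Nat.card I := by
    simp only [Nat.card_coe_set_eq]
    rw [← Set.ncard_union_eq (Set.disjoint_left.2 fun p hp hp' => hp.2.2 hp'.2.2),
      ← Set.ncard_prod]
    congr 1
    ext p
    simp only [A, B, Set.mem_union, Set.mem_ofPred_eq, Set.mem_prod]
    tauto
  have hA : Nat.card A = Nat.card (invPairs {x : X | IsTor S x}) := by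
    refine Nat.card_congr
      { toFun := fun p => ⟨(p.1.1, p.1.1 * p.1.2), p.2.1, ?_, ?_⟩
        invFun := fun p => ⟨(p.1.1, p.1.1 * p.1.2), p.2.1, ?_, ?_⟩
        left_inv := fun p => Subtype.ext (Prod.ext rfl (by
          show p.1.1 * (p.1.1 * p.1.2) = p.1.2
          rw [← mul_assoc, p.2.1.2, one_mul]))
        right_inv := fun p => Subtype.ext (Prod.ext rfl (by
          show p.1.1 * (p.1.1 * p.1.2) = p.1.2
          rw [← mul_assoc, p.2.1.2, one_mul])) }
    · obtain ⟨⟨t, u⟩, ⟨ht1, ht2⟩, ⟨-, hu2⟩, htu⟩ := p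
      refine ⟨fun h' => htu ?_, fun hc => htu ?_⟩
      · have e : u = t := (inv_eq_of_mul_eq_one_right h').symm.trans
          (inv_eq_of_mul_eq_one_right ht2)
        show t * u = u * t
        rw [e]
      · show t * u = u * t
        obtain ⟨hz1, g, hg⟩ := hc
        by_contra htu'
        obtain ⟨n, hn⟩ := two_elem_of_mem_conjSet h ⟨hz1, g, hg⟩
        have hconj : (g * t * g⁻¹) * (g * (t * u) * g⁻¹) * (g * t * g⁻¹)⁻¹ =
            (g * (t * u) * g⁻¹)⁻¹ := by
          have hti : t⁻¹ = t := inv_eq_of_mul_eq_one_right ht2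
          have hui : u⁻¹ = u := inv_eq_of_mul_eq_one_right hu2
          simp [mul_assoc, hti, hui, ← mul_assoc t t, ht2]
        have hT1 : g * t * g⁻¹ ≠ 1 := fun h' => ht1 (conj_eq_one_iff.1 h')
        have hTN : g * t * g⁻¹ ∈ Subgroup.normalizer (S : Set X) :=
          h.ti _ _ hg (fun h' => hz1 (conj_eq_one_iff.1 h')) (by rw [hconj]; exact inv_mem hg)
        have hT2 : g * t * g⁻¹ * (g * t * g⁻¹) = 1 := by
          rw [show g * t * g⁻¹ * (g * t * g⁻¹) = g * (t * t) * g⁻¹ by simp [mul_assoc], ht2]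
          simp
        have hTS := h.max _ hTN (mem_conjSet_of_sq h hT1 hT2)
        have hUS : g * u * g⁻¹ ∈ S := by
          have := mul_mem hTS hg
          rw [show g * t * g⁻¹ * (g * (t * u) * g⁻¹) = g * (t * t * u) * g⁻¹ by
            simp [mul_assoc], ht2, one_mul] at this
          exact this
        have := congrArg (fun w => g⁻¹ * w * g) (h.central _ hTS hT2 _ hUS)
        exact htu' (by simpa [mul_assoc] using this)
    · obtain ⟨⟨t, u⟩, ⟨-, ht2⟩, ⟨-, hu2⟩, -⟩ := p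
      show t * (t * u) * t⁻¹ = (t * u)⁻¹
      rw [← mul_assoc, ht2, one_mul, _root_.mul_inv_rev, inv_eq_of_mul_eq_one_right ht2,
        inv_eq_of_mul_eq_one_right hu2]
    · obtain ⟨⟨t, z⟩, ⟨ht1, ht2⟩, hz, hinv⟩ := p
      refine ⟨fun h' => ?_, ?_⟩
      · have h1 : z = t⁻¹ := (inv_eq_of_mul_eq_one_right h').symm
        exact hz.2 (mem_conjSet_of_sq h hz.1 (by rw [h1, ← _root_.mul_inv_rev, ht2, inv_one]))
      · show t * z * (t * z) = 1
        rw [inv_eq_of_mul_eq_one_right ht2] at hinv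
        rw [← mul_assoc, hinv, inv_mul_cancel]
    · obtain ⟨⟨t, z⟩, ⟨ht1, ht2⟩, hz, hinv⟩ := p
      intro h'
      simp only at h' hinv
      rw [← mul_assoc, ht2, one_mul] at h'
      rw [inv_eq_of_mul_eq_one_right ht2] at hinv
      rw [← h'] at hinv
      exact (isTor_odd h hz).not_two_dvd_nat (by
        rw [orderOf_eq_prime (p := 2) (hp := ⟨Nat.prime_two⟩)
          (by rw [pow_two]; exact mul_eq_one_iff_eq_inv.2 hinv) hz.1])
  have hB : Nat.card B = (Nat.card (omegaOne h) - 1) * Nat.card I := by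
    let E : B ≃ Σ t : I, {u : X | u ∈ I ∧ (t : X) * u = u * (t : X)} :=
      { toFun := fun p => ⟨⟨p.1.1, p.2.1⟩, ⟨p.1.2, p.2.2⟩⟩
        invFun := fun q => ⟨(q.1.1, q.2.1), q.1.2, q.2.2⟩
        left_inv := fun p => rfl
        right_inv := fun q => rfl }
    haveI : Fintype I := Fintype.ofFinite _
    rw [Nat.card_congr E, Nat.card_sigma, Nat.card_eq_fintype_card (α := I), mul_comm,
      ← smul_eq_mul, ← Finset.card_univ, ← Finset.sum_const]
    refine Finset.sum_congr rfl fun t _ => ?_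
    obtain ⟨-, g, hg⟩ := mem_conjSet_of_sq h t.2.1 t.2.2
    have hT1 : g * t * g⁻¹ ≠ 1 := fun h' => t.2.1 (conj_eq_one_iff.1 h')
    have hT2 : g * (t : X) * g⁻¹ * (g * t * g⁻¹) = 1 := by
      rw [show g * (t : X) * g⁻¹ * (g * t * g⁻¹) = g * ((t : X) * t) * g⁻¹ by simp [mul_assoc],
        t.2.2]
      simp
    haveI : Fintype (omegaOne h) := Fintype.ofFinite _
    have h1 : Nat.card {u : omegaOne h // u ≠ 1} = Nat.card (omegaOne h) - 1 := by
      rw [Nat.card_eq_fintype_card, Nat.card_eq_fintype_card, Fintype.card_subtype_compl,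
        Fintype.card_subtype_eq]
    rw [← h1]
    refine Nat.card_congr
      { toFun := fun u => ⟨⟨g * u.1 * g⁻¹, ?_⟩, fun h' => u.2.1.1
          (conj_eq_one_iff.1 (congrArg Subtype.val h'))⟩
        invFun := fun u => ⟨g⁻¹ * u.1.1 * g, ⟨?_, ?_⟩, ?_⟩
        left_inv := fun u => Subtype.ext (by simp [mul_assoc])
        right_inv := fun u => Subtype.ext (Subtype.ext (by simp [mul_assoc])) }
    · obtain ⟨u, ⟨hu1, hu2⟩, hc⟩ := u
      refine ⟨h.centr_le _ hg hT1 (Subgroup.mem_centralizer_singleton_iff.2 ?_), ?_⟩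
      · have := congrArg (fun w => g * w * g⁻¹) hc
        simpa [mul_assoc] using this.symm
      · show g * u * g⁻¹ * (g * u * g⁻¹) = 1
        rw [show g * u * g⁻¹ * (g * u * g⁻¹) = g * (u * u) * g⁻¹ by simp [mul_assoc], hu2]
        simp
    · intro h'
      refine u.2 (Subtype.ext ?_)
      have := congrArg (fun w => g * w * g⁻¹) h'
      simpa [mul_assoc] using this
    · rw [show g⁻¹ * u.1.1 * g * (g⁻¹ * u.1.1 * g) = g⁻¹ * (u.1.1 * u.1.1) * g by
        simp [mul_assoc], u.1.2.2]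
      simp
    · have := congrArg (fun w => g⁻¹ * w * g) (h.central _ hg hT2 _ u.1.2.1)
      simpa [mul_assoc] using this
  rw [← hA, ← hB, hAB]

lemma card_le_index (h : Hyp S) (hnn : Subgroup.normalizer (S : Set X) ≠ ⊤) :
    Nat.card S + 1 ≤ (Subgroup.normalizer (S : Set X)).index := by
  classical
  obtain ⟨g, -, hg⟩ := SetLike.exists_of_lt (lt_top_iff_ne_top.2 hnn)
  set N := Subgroup.normalizer (S : Set X)
  let f : Option S → X ⧸ N := fun o => match o with
    | none => QuotientGroup.mk 1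
    | some s => QuotientGroup.mk ((s : X) * g)
  have hf : Function.Injective f := by
    have hin : ∀ s : S, (s : X) * g ∉ N := fun s h' =>
      hg (by simpa using mul_mem (inv_mem (Subgroup.le_normalizer s.2)) h')
    rintro (_ | s) (_ | s') h' <;> simp only [f, QuotientGroup.eq] at h'
    · rfl
    · exact absurd (by simpa using h') (hin s')
    · exact absurd (inv_mem_iff.1 (by simpa using h')) (hin s)
    · have hS' : (s : X)⁻¹ * s' ∈ S := mul_mem (inv_mem s.2) s'.2
      by_contra hne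
      have hd1 : (s : X)⁻¹ * s' ≠ 1 := fun h1 => hne (congrArg some (Subtype.ext
        (inv_mul_eq_one.1 h1)))
      set w := g⁻¹ * ((s : X)⁻¹ * s') * g with hw
      have hwN : w ∈ N := by simpa [w, mul_assoc] using h'
      have hwS : w ∈ S := h.max w hwN ⟨fun h1 => hd1 (by
        have := congrArg (fun y => g * y * g⁻¹) h1
        simpa [w, mul_assoc] using this), g, by simpa [w, mul_assoc] using hS'⟩
      exact hg (h.ti g w hwS (fun h1 => hd1 (by
        have := congrArg (fun y => g * y * g⁻¹) h1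
        simpa [w, mul_assoc] using this)) (by simpa [w, mul_assoc] using hS'))
  have := Nat.card_le_card_of_injective f hf
  rwa [Finite.card_option] at this

/-- Unique involution in `S`: normal torus unless `S` is normal. -/
theorem two_case (h : Hyp S) (hS : S ≠ ⊥) (hZ : Nat.card (omegaOne h) = 2)
    (hnn : Subgroup.normalizer (S : Set X) ≠ ⊤) (ha : Nat.card S = 2 ∨ Nat.card S = 4) :
    ∃ x, IsTor S x ∧ Subgroup.normalizer (cen x : Set X) = ⊤ := by
  have hN : Nat.card (Subgroup.normalizer (S : Set X)) = Nat.card S := by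
    rw [card_normalizer_S h hS hnn, hZ]; simp
  have hX := Subgroup.card_mul_index (Subgroup.normalizer (S : Set X))
  have hidx := card_le_index h hnn
  have hcS := card_conjSet S (fun g a => h.ti g a)
  have hsp := card_split h
  rw [hN] at hX hcS
  set a := Nat.card S with ha'
  set N := (Subgroup.normalizer (S : Set X)).index with hNd
  set Z := Nat.card {x : X | IsTor S x} with hZd
  obtain ⟨b, hb⟩ : ∃ b, a = b + 1 := ⟨a - 1, by omega⟩
  have hcS' : Nat.card (conjSet S) = N * b := by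
    rw [← hX, hb, Nat.add_sub_cancel] at hcS
    exact Nat.eq_of_mul_eq_mul_right (show 0 < b + 1 by omega) (by linear_combination hcS)
  have hZ1 : Z + 1 = N := by
    rw [hcS', ← hX, hb] at hsp
    linear_combination -hsp
  have hsmall : 2 * Z < Nat.card X := by rw [← hX]; rcases ha with h2 | h2 <;> rw [h2] <;> omega
  rcases classes h {x : X | IsTor S x} (fun z hz => hz)
    (fun z hz w hw => isTor_of_mem_conjSet h hz hw) hsmall with
    h0 | ⟨x, k, hx, -, hxe, hk, hkN⟩ | ⟨x, y, hx, hy, hxy, hxe, hkx, hky⟩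
  · rw [hZd, h0] at hZ1
    simp at hZ1
    omega
  · have hc := torus_count h hx hkN
    rw [← hxe, ← hZd, ← hX] at hc
    obtain ⟨-, -, h5, -⟩ := h.tor x hx
    refine ⟨x, hx, Subgroup.eq_top_of_card_eq _ ?_⟩
    rw [hkN, ← hX]
    obtain ⟨c, hc'⟩ : ∃ c, Nat.card (cen x) = c + 1 := ⟨_, (Nat.sub_add_cancel (by omega)).symm⟩
    rw [hc', Nat.add_sub_cancel] at hc
    rw [hc'] at h5 ⊢
    rw [← hZ1] at hc ⊢
    have hc4 : 4 ≤ c := by omega
    rcases hk with rfl | rfl <;> rcases ha with h2 | h2 <;> rw [h2] at hc ⊢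
    · linarith
    · have := Nat.mul_le_mul_left Z hc4
      linarith
    · have := Nat.mul_le_mul_right c (show 2 ≤ Z by omega)
      linarith
    · linarith
  · exfalso
    have hd := disjoint_of_notMem h hx hy hxy
    have hcop := coprime_card h hx hy hxy
    have hdvd : ∀ w : X, IsTor S w → Nat.card (cen w) ∣ N := by
      intro w hw
      have h1 := Subgroup.card_subgroup_dvd_card (cen w)
      rw [← hX] at h1
      refine Nat.Coprime.dvd_of_dvd_mul_left ?_ h1
      refine Nat.coprime_of_dvd fun r hr h2 h3 => (h.tor w hw).2.1 ?_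
      obtain rfl : r = 2 := (Nat.prime_dvd_prime_iff_eq hr Nat.prime_two).1 (by
        rcases ha with h4 | h4 <;> rw [h4] at h3
        · exact h3
        · exact hr.dvd_of_dvd_pow (show r ∣ 2 ^ 2 by simpa using h3))
      exact h2
    have hbc := Nat.le_of_dvd (by omega) (hcop.mul_dvd_of_dvd_of_dvd (hdvd x hx) (hdvd y hy))
    have hcx := torus_count h hx hkx
    have hcy := torus_count h hy hky
    have hsum : Z = Nat.card (conjSet (cen x)) + Nat.card (conjSet (cen y)) := by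
      rw [hZd, hxe]
      simp only [Nat.card_coe_set_eq]
      exact Set.ncard_union_eq hd
    obtain ⟨-, -, h5, -⟩ := h.tor x hx
    obtain ⟨-, -, h5', -⟩ := h.tor y hy
    rw [← hX] at hcx hcy
    generalize Nat.card (conjSet (cen x)) = u at hcx hsum
    generalize Nat.card (conjSet (cen y)) = v at hcy hsum
    obtain ⟨c, hc'⟩ : ∃ c, Nat.card (cen x) = c + 1 := ⟨_, (Nat.sub_add_cancel (by omega)).symm⟩
    obtain ⟨d, hd'⟩ : ∃ d, Nat.card (cen y) = d + 1 := ⟨_, (Nat.sub_add_cancel (by omega)).symm⟩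
    rw [hc', Nat.add_sub_cancel] at hcx
    rw [hd', Nat.add_sub_cancel] at hcy
    rw [hc', hd'] at hbc
    rw [hc'] at h5
    rw [hd'] at h5'
    have key : 4 * Z * ((c + 1) * (d + 1)) = a * N * (c * (d + 1) + d * (c + 1)) := by
      rw [hsum]; linear_combination (d + 1) * hcx + (c + 1) * hcy
    rw [← hZ1] at key hbc
    rcases ha with h2 | h2 <;> rw [h2] at key
    · have key' : (Z + 1) * (c + d + 2) = 2 * ((c + 1) * (d + 1)) := by linarith
      have := Nat.mul_le_mul_right (c + d + 2) hbc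
      nlinarith
    · have key' : (Z + 1) * (c + d + 2) = (Z + 1) * ((c + 1) * (d + 1)) + (c + 1) * (d + 1) := by
        linarith
      have h6 : c + d + 2 ≤ (c + 1) * (d + 1) := by nlinarith
      have := Nat.mul_le_mul_left (Z + 1) h6
      have h7 : 0 < (c + 1) * (d + 1) := by positivity
      linarith

/-- The data for at least two involutions in `S`. -/
lemma big_setup (h : Hyp S) (hS : S ≠ ⊥) (hs : 4 ≤ Nat.card (omegaOne h))
    (hnn : Subgroup.normalizer (S : Set X) ≠ ⊤) {x₀ : X} (hx₀ : IsTor S x₀)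
    (hd₀ : Nat.card (cen x₀) = Nat.card (omegaOne h) - 1)
    (hk₀ : Nat.card (Subgroup.normalizer (cen x₀ : Set X)) ≤ 2 * Nat.card (cen x₀)) :
    ∃ N, Nat.card S + 1 ≤ N ∧ Nat.card X = Nat.card S * (Nat.card (omegaOne h) - 1) * N ∧
      (N * (Nat.card (omegaOne h) - 1)) * (N * (Nat.card (omegaOne h) - 1)) =
        Nat.card (invPairs {z : X | IsTor S z}) +
          (Nat.card (omegaOne h) - 1) * (N * (Nat.card (omegaOne h) - 1)) ∧
      Nat.card {z : X | IsTor S z} + 1 + N * (Nat.card S - 1) = Nat.card X ∧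
      Nat.card (Subgroup.normalizer (cen x₀ : Set X)) = 2 * Nat.card (cen x₀) ∧
      2 * Nat.card (conjSet (cen x₀)) = Nat.card S * N * (Nat.card (omegaOne h) - 2) := by
  have hN := card_normalizer_S h hS hnn
  have hidx := card_le_index h hnn
  have hX := Subgroup.card_mul_index (Subgroup.normalizer (S : Set X))
  have hI := card_involutions h hS
  have hcS := card_conjSet S (fun g a => h.ti g a)
  have hpairs := card_invPairs_tor h hS
  have hsp := card_split h
  rw [hN] at hX hI hcS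
  set a := Nat.card S
  set N := (Subgroup.normalizer (S : Set X)).index
  obtain ⟨s, hs'⟩ : ∃ s, Nat.card (omegaOne h) = s + 2 := ⟨_, (Nat.sub_add_cancel (by omega)).symm⟩
  rw [hs'] at hX hI hcS hpairs hd₀ ⊢
  simp only [show s + 2 - 1 = s + 1 from rfl, show s + 2 - 2 = s from rfl] at hX hI hcS hpairs hd₀ ⊢
  have ha0 : 0 < a := Nat.card_pos
  have hI' : Nat.card {t : X | t ≠ 1 ∧ t * t = 1} = N * (s + 1) := by
    rw [← hX] at hI
    exact Nat.eq_of_mul_eq_mul_right (show 0 < a * (s + 1) by positivity)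
      (by linear_combination hI)
  have hcS' : Nat.card (conjSet S) = N * (a - 1) := by
    rw [← hX] at hcS
    exact Nat.eq_of_mul_eq_mul_right (show 0 < a * (s + 1) by positivity)
      (by linear_combination hcS)
  have hk2 : Nat.card (Subgroup.normalizer (cen x₀ : Set X)) = 2 * Nat.card (cen x₀) := by
    obtain ⟨-, -, h5, k, hk, hkN⟩ := h.tor x₀ hx₀
    rcases hk with rfl | rfl | rfl
    · -- a self-normalising torus of this order leaves room for no other Sylow subgroup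
      exfalso
      have hc := torus_count h hx₀ hkN
      rw [← hX, hd₀, one_mul, Nat.add_sub_cancel] at hc
      have hc' : Nat.card (conjSet (cen x₀)) = a * N * s :=
        Nat.eq_of_mul_eq_mul_right (show 0 < s + 1 by omega) (by linear_combination hc)
      rw [hcS', ← hX] at hsp
      obtain ⟨b, hb⟩ : ∃ b, a = b + 1 := ⟨a - 1, by omega⟩
      rw [hb] at hsp hc' hidx
      simp only [Nat.add_sub_cancel] at hsp
      have hrest : Nat.card ({z : X | IsTor S z} \ conjSet (cen x₀) : Set X) + 1 = N := by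
        have h1 : Nat.card ({z : X | IsTor S z} \ conjSet (cen x₀) : Set X) +
            Nat.card (conjSet (cen x₀)) = Nat.card {z : X | IsTor S z} := by
          simp only [Nat.card_coe_set_eq]
          exact Set.ncard_sdiff_add_ncard_of_subset fun z hz => isTor_of_mem_conjSet h hx₀ hz
        rw [hc'] at h1
        rw [← h1] at hsp
        linear_combination -hsp
      set Z := {z : X | IsTor S z} \ conjSet (cen x₀) with hZdef
      rcases Z.eq_empty_or_nonempty with h0 | ⟨y, hy⟩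
      · rw [h0] at hrest
        simp at hrest
        omega
      · obtain ⟨j, hj, -, hj5⟩ := five_mul_le h hy.1
        have hsub : conjSet (cen y) ⊆ Z := fun z hz => ⟨isTor_of_mem_conjSet h hy.1 hz,
          fun hz' => hy.2 (mem_conjSet_trans h hx₀ hy.1 hz' hz)⟩
        have hle := Nat.card_mono Z.toFinite hsub
        rw [← hX, hb] at hj5
        have hb4 : 3 ≤ b := by
          have := Subgroup.card_le_of_le (fun t ht => ((mem_omegaOne h).1 ht).1 : omegaOne h ≤ S)
          rw [hs'] at this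
          omega
        have h12 : 12 * N ≤ (b + 1) * (s + 1) * N :=
          Nat.mul_le_mul_right N (Nat.mul_le_mul (show 4 ≤ b + 1 by omega) (show 3 ≤ s + 1 by omega))
        rcases hj with rfl | rfl | rfl <;> omega
    · exact hkN
    · rw [hkN] at hk₀ ⊢
      omega
  refine ⟨N, hidx, hX.symm, ?_, ?_, hk2, ?_⟩
  · rw [hI'] at hpairs
    exact hpairs.symm
  · rw [hcS'] at hsp
    omega
  · have hc := torus_count h hx₀ hk2
    rw [← hX, hd₀, Nat.add_sub_cancel] at hc
    exact Nat.eq_of_mul_eq_mul_right (show 0 < s + 1 by omega) (by linear_combination hc)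

lemma rest_split (h : Hyp S) {x₀ : X} (hx₀ : IsTor S x₀) :
    let Z := {z : X | IsTor S z} \ conjSet (cen x₀)
    (∀ z ∈ Z, IsTor S z) ∧ (∀ z ∈ Z, conjSet (cen z) ⊆ Z) ∧
      Nat.card Z + Nat.card (conjSet (cen x₀)) = Nat.card {z : X | IsTor S z} ∧
      Nat.card (invPairs Z) + Nat.card (invPairs (conjSet (cen x₀))) =
        Nat.card (invPairs {z : X | IsTor S z}) := by
  intro Z
  have hsub : conjSet (cen x₀) ⊆ {z : X | IsTor S z} := fun z hz => isTor_of_mem_conjSet h hx₀ hz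
  refine ⟨fun z hz => hz.1, fun z hz w hw => ⟨isTor_of_mem_conjSet h hz.1 hw,
    fun hw' => hz.2 (mem_conjSet_trans h hx₀ hz.1 hw' hw)⟩, ?_, ?_⟩
  · simp only [Nat.card_coe_set_eq]
    exact Set.ncard_sdiff_add_ncard_of_subset hsub
  · rw [← card_invPairs_union (Set.disjoint_left.2 fun z hz hz' => hz.2 hz'),
      Set.sdiff_union_of_subset hsub]

/-- `|S| = s`: impossible unless `S` is normal, as it forces an element of order three. -/
theorem elem_case (h : Hyp S) (hS : S ≠ ⊥) (hs : 8 ≤ Nat.card (omegaOne h))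
    (hodd : Nat.card (omegaOne h) % 3 = 2) (ha : Nat.card S = Nat.card (omegaOne h))
    {x₀ : X} (hx₀ : IsTor S x₀) (hd₀ : Nat.card (cen x₀) = Nat.card (omegaOne h) - 1)
    (hk₀ : Nat.card (Subgroup.normalizer (cen x₀ : Set X)) ≤ 2 * Nat.card (cen x₀)) :
    Subgroup.normalizer (S : Set X) = ⊤ := by
  by_contra hnn
  obtain ⟨N, hidx, hX, hpairs, htot, hk2, hD⟩ := big_setup h hS (by omega) hnn hx₀ hd₀ hk₀
  obtain ⟨hZ1, hZ2, hZc, hZp⟩ := rest_split h hx₀
  have hel : ∀ u ∈ S, u * u = 1 := by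
    intro u hu
    have : S = omegaOne h := (Subgroup.eq_of_le_of_card_ge (fun t ht => ((mem_omegaOne h).1 ht).1) ha.le).symm
    rw [this] at hu
    exact hu.2
  have hDp := card_invPairs_class h hx₀ hk2 (dvd_refl 2)
  set Z := {z : X | IsTor S z} \ conjSet (cen x₀) with hZdef
  obtain ⟨s, hs'⟩ : ∃ s, Nat.card (omegaOne h) = s + 2 := ⟨_, (Nat.sub_add_cancel (by omega)).symm⟩
  obtain ⟨L, hL⟩ : ∃ L, N = L + 1 := ⟨N - 1, by omega⟩
  rw [hs', hL] at hpairs hD
  rw [ha, hs', hL] at hX htot hidx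
  rw [ha, hs'] at hD
  rw [hd₀, hs', hX] at hDp
  simp only [show s + 2 - 1 = s + 1 from rfl, show s + 2 - 2 = s from rfl,
    show s + 1 - 1 = s from rfl] at hX htot hpairs hD hDp
  have hZ' : 2 * Nat.card Z + 2 = (L + 1) * (s * s + 2 * s + 2) := by
    linear_combination 2 * htot + 2 * hZc - hD + 2 * hX
  have hsmall : 2 * Nat.card Z < Nat.card X := by rw [hX]; nlinarith
  rcases classes h Z hZ1 hZ2 hsmall with
    h0 | ⟨x, k, hx, -, hxe, hk, hkN⟩ | ⟨x, y, hx, hy, -, -, hkx, -⟩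
  · rw [h0] at hZ'
    simp at hZ'
    nlinarith
  · rcases hk with rfl | rfl
    swap
    · exact k_ne_four h hel hx hkN
    obtain ⟨-, -, h5, -⟩ := h.tor x hx
    have hc := torus_count h hx hkN
    have hp := card_invPairs_class h hx hkN (dvd_refl 2)
    rw [hxe] at hZ' hZp
    rw [hX] at hc hp
    obtain ⟨b, hb⟩ : ∃ b, Nat.card (cen x) = b + 1 := ⟨_, (Nat.sub_add_cancel (by omega)).symm⟩
    rw [hb, Nat.add_sub_cancel] at hc hp
    generalize Nat.card (conjSet (cen x)) = u at hc hZ'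
    generalize Nat.card (invPairs (conjSet (cen x))) = P at hp hZp
    generalize Nat.card (invPairs (conjSet (cen x₀))) = P₀ at hDp hZp
    generalize Nat.card (invPairs {z : X | IsTor S z}) = T at hpairs hZp
    have e1 : 2 * (s + 1) * L = (s + 2) * (s + b) := by
      apply Nat.eq_of_mul_eq_mul_left (show 0 < (L + 1) * (s + 1) by positivity)
      linear_combination 2 * hpairs - 2 * hZp + hp + hDp
    have e2 : (b + 1) * ((L + 1) * (s * s + 2 * s + 2)) =
        2 * (b + 1) + (s + 2) * (s + 1) * (L + 1) * b := by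
      linear_combination hc - (b + 1) * hZ'
    have e1' : (2 : ℤ) * (s + 1) * L = (s + 2) * (s + b) := by exact_mod_cast e1
    have e2' : ((b : ℤ) + 1) * ((L + 1) * (s * s + 2 * s + 2)) =
        2 * (b + 1) + (s + 2) * (s + 1) * (L + 1) * b := by exact_mod_cast e2
    have hprod : ((L : ℤ) - (s + 2)) * ((s + 1) * L + (s + 2)) * (2 * s) = 0 := by
      linear_combination ((((L : ℤ) + 1) * s + 2)) * e1' - ((s : ℤ) + 2) * e2'
    have hLs : L = s + 2 := by
      rcases mul_eq_zero.1 hprod with h1 | h1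
      · rcases mul_eq_zero.1 h1 with h2 | h2
        · omega
        · have : (0 : ℤ) < ((s : ℤ) + 1) * L + (s + 2) := by positivity
          omega
      · omega
    subst hLs
    refine h.three ?_
    rw [hX]
    exact (show 3 ∣ s + 2 + 1 by omega).mul_left _
  · exact k_ne_four h hel hx hkx

/-- `|S| = s ^ 2`: the order of the Suzuki group over the field with `s` elements. -/
theorem square_case (h : Hyp S) (hS : S ≠ ⊥) (hs : 8 ≤ Nat.card (omegaOne h))
    (ha : Nat.card S = Nat.card (omegaOne h) ^ 2)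
    (hnn : Subgroup.normalizer (S : Set X) ≠ ⊤)
    {x₀ : X} (hx₀ : IsTor S x₀) (hd₀ : Nat.card (cen x₀) = Nat.card (omegaOne h) - 1)
    (hk₀ : Nat.card (Subgroup.normalizer (cen x₀ : Set X)) ≤ 2 * Nat.card (cen x₀)) :
    Nat.card X = Nat.card (omegaOne h) ^ 2 * (Nat.card (omegaOne h) - 1) *
        (Nat.card (omegaOne h) ^ 2 + 1) ∧
      Nat.card (Subgroup.normalizer (cen x₀ : Set X)) = 2 * Nat.card (cen x₀) := by
  obtain ⟨N, hidx, hX, hpairs, htot, hk2, hD⟩ := big_setup h hS (by omega) hnn hx₀ hd₀ hk₀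
  refine ⟨?_, hk2⟩
  obtain ⟨hZ1, hZ2, hZc, hZp⟩ := rest_split h hx₀
  have hDp := card_invPairs_class h hx₀ hk2 (dvd_refl 2)
  set Z := {z : X | IsTor S z} \ conjSet (cen x₀) with hZdef
  obtain ⟨s, hs'⟩ : ∃ s, Nat.card (omegaOne h) = s + 2 := ⟨_, (Nat.sub_add_cancel (by omega)).symm⟩
  obtain ⟨L, hL⟩ : ∃ L, N = L + 1 := ⟨N - 1, by omega⟩
  rw [hs', hL] at hpairs hD
  rw [ha, hs', hL] at hX htot hidx
  rw [ha, hs'] at hD
  rw [hd₀, hs', hX] at hDp
  rw [hs']
  have hsq : (s + 2) ^ 2 - 1 = s * s + 4 * s + 3 := by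
    rw [Nat.sub_eq_iff_eq_add (Nat.one_le_pow _ _ (by omega))]; ring
  simp only [hsq, show s + 2 - 1 = s + 1 from rfl, show s + 2 - 2 = s from rfl,
    show s + 1 - 1 = s from rfl] at hX htot hpairs hD hDp ⊢
  have hZ' : 2 * Nat.card Z + 2 + (L + 1) * (2 * (s * s + 4 * s + 3)) =
      (s + 2) ^ 2 * (s + 2) * (L + 1) := by
    linear_combination 2 * htot + 2 * hZc - hD + 2 * hX
  have hsmall : 2 * Nat.card Z < Nat.card X := by rw [hX]; nlinarith
  rcases classes h Z hZ1 hZ2 hsmall with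
    h0 | ⟨x, k, hx, -, hxe, hk, hkN⟩ | ⟨x, y, hx, hy, hxy, hxe, hkx, hky⟩
  · exfalso
    rw [h0] at hZ'
    simp at hZ'
    nlinarith
  · exfalso
    obtain ⟨-, -, h5, -⟩ := h.tor x hx
    have hc := torus_count h hx hkN
    have hp := card_invPairs_class h hx hkN (by rcases hk with rfl | rfl <;> norm_num)
    rw [hxe] at hZ' hZp
    rw [hX] at hc hp
    obtain ⟨b, hb⟩ : ∃ b, Nat.card (cen x) = b + 1 := ⟨_, (Nat.sub_add_cancel (by omega)).symm⟩
    rw [hb, Nat.add_sub_cancel] at hc hp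
    rw [hb] at h5
    generalize Nat.card (conjSet (cen x)) = u at hc hZ'
    generalize Nat.card (invPairs (conjSet (cen x))) = P at hp hZp
    generalize Nat.card (invPairs (conjSet (cen x₀))) = P₀ at hDp hZp
    generalize Nat.card (invPairs {z : X | IsTor S z}) = T at hpairs hZp
    rcases hk with rfl | rfl
    · have e1 : 2 * (s + 1) * L = (s + 2) ^ 2 * (s + b) := by
        apply Nat.eq_of_mul_eq_mul_left (show 0 < (L + 1) * (s + 1) by positivity)
        linear_combination 2 * hpairs - 2 * hZp + hp + hDp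
      have e2 : (b + 1) * ((s + 2) ^ 2 * (s + 2) * (L + 1)) =
          2 * (b + 1) + (b + 1) * ((L + 1) * (2 * (s * s + 4 * s + 3))) +
            (s + 2) ^ 2 * (s + 1) * (L + 1) * b := by
        linear_combination hc - (b + 1) * hZ'
      have hbs : s + 2 ≤ b := by
        by_contra hlt
        have h1 : (s + 2) ^ 2 * (s + b) < (s + 2) ^ 2 * (2 * (s + 1)) :=
          Nat.mul_lt_mul_of_pos_left (by omega) (by positivity)
        have h2 : (s + 2) ^ 2 ≤ L := by omega
        have := Nat.mul_le_mul_left (2 * (s + 1)) h2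
        linarith
      have h3 : (L + 1) * ((s + 2) ^ 2 * (s + 1)) =
          (b + 1) * ((L + 1) * ((s + 2) ^ 2 - 2) + 2) := by
        obtain ⟨c, hc'⟩ : ∃ c, (s + 2) ^ 2 = c + 2 :=
          ⟨_, (Nat.sub_add_cancel (by nlinarith)).symm⟩
        rw [hc', Nat.add_sub_cancel]
        have hc2 : s * s + 4 * s + 2 = c := by linarith
        rw [hc'] at e2
        subst hc2
        linarith
      obtain ⟨c, hc'⟩ : ∃ c, (s + 2) ^ 2 = c + 2 :=
        ⟨_, (Nat.sub_add_cancel (by nlinarith)).symm⟩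
      rw [hc', Nat.add_sub_cancel] at h3
      have h4 : (s + 3) * ((L + 1) * c + 2) ≤ (b + 1) * ((L + 1) * c + 2) :=
        Nat.mul_le_mul_right _ (by omega)
      have h5' : (L + 1) * ((c + 2) * (s + 1)) ≤ (L + 1) * ((s + 3) * c) :=
        Nat.mul_le_mul_left _ (by nlinarith)
      linarith
    · have h4u : 4 * u ≤ (s + 2) ^ 2 * (s + 1) * (L + 1) :=
        Nat.le_of_mul_le_mul_right (c := b + 1)
          (by nlinarith [Nat.zero_le ((s + 2) ^ 2 * (s + 1) * (L + 1))]) (by omega)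
      have h4v : (L + 1) * ((s + 3) * s ^ 2) ≤ 4 := by linarith
      have h6 := Nat.mul_le_mul (show 9 ≤ s + 3 by omega)
        (Nat.pow_le_pow_left (show 6 ≤ s by omega) 2)
      have h7 := Nat.mul_le_mul_left (L + 1) h6
      omega
  · obtain ⟨-, -, h5, -⟩ := h.tor x hx
    obtain ⟨-, -, h5', -⟩ := h.tor y hy
    have hd := disjoint_of_notMem h hx hy hxy
    have hcop := coprime_card h hx hy hxy
    have hcx := torus_count h hx hkx
    have hcy := torus_count h hy hky
    have hpx := card_invPairs_class h hx hkx (by norm_num)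
    have hpy := card_invPairs_class h hy hky (by norm_num)
    have hsum : Nat.card Z = Nat.card (conjSet (cen x)) + Nat.card (conjSet (cen y)) := by
      rw [hxe]
      simp only [Nat.card_coe_set_eq]
      exact Set.ncard_union_eq hd
    rw [hxe, card_invPairs_union hd] at hZp
    rw [hsum] at hZ'
    rw [hX] at hcx hcy hpx hpy
    have hdvd : ∀ w : X, IsTor S w → (∀ r, r.Prime → r ∣ Nat.card (cen w) → ¬ r ∣ s + 1) →
        Nat.card (cen w) ∣ L + 1 := by
      intro w hw hws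
      have h1 := Subgroup.card_subgroup_dvd_card (cen w)
      rw [hX] at h1
      refine Nat.Coprime.dvd_of_dvd_mul_left ?_ h1
      refine Nat.coprime_of_dvd fun r hr h2 h3 => ?_
      rcases hr.dvd_mul.1 h3 with h4 | h4
      · obtain ⟨n, hn⟩ := IsPGroup.iff_card.1 h.two
        rw [ha, hs'] at hn
        rw [hn] at h4
        exact (h.tor w hw).2.1
          ((Nat.prime_dvd_prime_iff_eq hr Nat.prime_two).1 (hr.dvd_of_dvd_pow h4) ▸ h2)
      · exact hws r hr h2 h4
    have hnot : ∀ w : X, IsTor S w → w ∉ conjSet (cen x₀) →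
        ∀ r, r.Prime → r ∣ Nat.card (cen w) → ¬ r ∣ s + 1 := by
      intro w hw hwn r hr h1 h2
      have := coprime_card h hx₀ hw hwn
      rw [hd₀, hs'] at this
      exact hr.one_lt.ne' (Nat.dvd_one.1 (this ▸ Nat.dvd_gcd h2 h1))
    have hxn : x ∉ conjSet (cen x₀) := fun h' =>
      (show x ∈ Z by rw [hxe]; exact Or.inl (mem_conjSet_self hx.1)).2 h'
    have hyn : y ∉ conjSet (cen x₀) := fun h' =>
      (show y ∈ Z by rw [hxe]; exact Or.inr (mem_conjSet_self hy.1)).2 h'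
    have hbc := Nat.le_of_dvd (by omega) (hcop.mul_dvd_of_dvd_of_dvd
      (hdvd x hx (hnot x hx hxn)) (hdvd y hy (hnot y hy hyn)))
    obtain ⟨b, hb⟩ : ∃ b, Nat.card (cen x) = b + 1 := ⟨_, (Nat.sub_add_cancel (by omega)).symm⟩
    obtain ⟨c, hc⟩ : ∃ c, Nat.card (cen y) = c + 1 := ⟨_, (Nat.sub_add_cancel (by omega)).symm⟩
    rw [hb, Nat.add_sub_cancel] at hcx hpx
    rw [hc, Nat.add_sub_cancel] at hcy hpy
    rw [hb, hc] at hbc
    generalize Nat.card (conjSet (cen x)) = u at hcx hZ'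
    generalize Nat.card (conjSet (cen y)) = v at hcy hZ'
    generalize Nat.card (invPairs (conjSet (cen x))) = P at hpx hZp
    generalize Nat.card (invPairs (conjSet (cen y))) = Q at hpy hZp
    generalize Nat.card (invPairs (conjSet (cen x₀))) = P₀ at hDp hZp
    generalize Nat.card (invPairs {z : X | IsTor S z}) = T at hpairs hZp
    have e1 : 4 * (s + 1) * L = (s + 2) ^ 2 * (2 * s + b + c) := by
      apply Nat.eq_of_mul_eq_mul_left (show 0 < (L + 1) * (s + 1) by positivity)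
      linear_combination 4 * hpairs - 4 * hZp + hpx + hpy + 2 * hDp
    have e2 : 2 * ((b + 1) * (c + 1)) * ((s + 2) ^ 2 * (s + 2) * (L + 1)) =
        2 * ((b + 1) * (c + 1)) * (2 + (L + 1) * (2 * (s * s + 4 * s + 3))) +
          (s + 2) ^ 2 * (s + 1) * (L + 1) * (b * (c + 1) + c * (b + 1)) := by
      linear_combination (c + 1) * hcx + (b + 1) * hcy - 2 * ((b + 1) * (c + 1)) * hZ'
    -- with `σ = b + c + 2` and `π = (b + 1) (c + 1)`
    have e3 : ((b : ℤ) + 1) * (c + 1) * (2 * (((s : ℤ) + 2) ^ 2 - 2) * (L + 1) + 4) =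
        ((L : ℤ) + 1) * (b + c + 2) * (s + 1) * (s + 2) ^ 2 := by
      have e2' : (2 : ℤ) * ((b + 1) * (c + 1)) * ((s + 2) ^ 2 * (s + 2) * (L + 1)) =
        2 * ((b + 1) * (c + 1)) * (2 + (L + 1) * (2 * (s * s + 4 * s + 3))) +
          (s + 2) ^ 2 * (s + 1) * (L + 1) * (b * (c + 1) + c * (b + 1)) := by exact_mod_cast e2
      linear_combination -e2'
    have hbc' : ((b : ℤ) + 1) * (c + 1) ≤ L + 1 := by exact_mod_cast hbc
    have e1' : (4 : ℤ) * (s + 1) * L = (s + 2) ^ 2 * (2 * s + b + c) := by exact_mod_cast e1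
    have hpos : (0 : ℤ) ≤ 2 * (((s : ℤ) + 2) ^ 2 - 2) * (L + 1) + 4 := by
      have : (0 : ℤ) ≤ ((s : ℤ) + 2) ^ 2 - 2 := by nlinarith
      positivity
    have e4 : ((b : ℤ) + c + 2) * (s + 1) * (s + 2) ^ 2 ≤
        2 * (((s : ℤ) + 2) ^ 2 - 2) * (L + 1) + 4 := by
      refine le_of_mul_le_mul_left ?_ (show (0 : ℤ) < L + 1 by positivity)
      have := mul_le_mul_of_nonneg_right hbc' hpos
      rw [e3] at this
      linarith
    have e5 : ((s : ℤ) + 2) ^ 2 * (b + c + 2) = 4 * (s + 1) * L - 2 * (s + 2) ^ 2 * (s - 1) := by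
      linear_combination -e1'
    have e6 : ((b : ℤ) + c + 2) * (s + 1) * (s + 2) ^ 2 =
        (4 * (s + 1) * L - 2 * (s + 2) ^ 2 * (s - 1)) * (s + 1) := by
      linear_combination ((s : ℤ) + 1) * e5
    rw [e6] at e4
    have hLle : (L : ℤ) * (2 * s ^ 2) ≤ ((s : ℤ) + 2) ^ 2 * (2 * s ^ 2) := by linarith
    have hLle' : (L : ℤ) ≤ ((s : ℤ) + 2) ^ 2 := by
      have hs6 : (6 : ℤ) ≤ s := by omega
      exact le_of_mul_le_mul_right hLle (by positivity)
    have hLle'' : L ≤ (s + 2) ^ 2 := by exact_mod_cast hLle'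
    rw [hX, show L = (s + 2) ^ 2 by omega]

end CfsgLib.KnownB.SzCount
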