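import Cfsg.Agent.Lib.KnownB.WordSL2

set_option autoImplicit false

/-!
A non-trivial word takes non-central values in all large alternating groups.
-/

namespace CfsgLib.KnownB.WordAlt

open CfsgLib.KnownB.WordSL2

/-- A finite group acts faithfully by even permutations on any set twice its size. -/
theorem exists_hom_alternating {K : Type*} [Group K] [Fintype K] (n : ℕ)
    (hn : 2 * Fintype.card K ≤ n) :
    ∃ ψ : K →* alternatingGroup (Fin n), Function.Injective ψ := by
  classical
  obtain ⟨e⟩ : Nonempty (K ⊕ K ↪ Fin n) :=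
    Function.Embedding.nonempty_of_card_le (by simp; omega)
  let d : K →* Equiv.Perm (K ⊕ K) :=
    (Equiv.Perm.sumCongrHom K K).comp ((MulAction.toPermHom K K).prod (MulAction.toPermHom K K))
  let ψ : K →* Equiv.Perm (Fin n) := (Equiv.Perm.viaEmbeddingHom e).comp d
  have hmem : ∀ k, ψ k ∈ alternatingGroup (Fin n) := by
    intro k
    rw [Equiv.Perm.mem_alternatingGroup]
    simp only [ψ, d, MonoidHom.comp_apply, Equiv.Perm.viaEmbeddingHom_apply,
      Equiv.Perm.sumCongrHom_apply, MonoidHom.prod_apply, Equiv.Perm.viaEmbedding,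
      Equiv.Perm.sign_extendDomain, Equiv.Perm.sign_sumCongr]
    exact Int.units_mul_self _
  refine ⟨ψ.codRestrict _ hmem, fun a b hab => ?_⟩
  have h : ψ a = ψ b := congrArg Subtype.val hab
  simp only [ψ, MonoidHom.comp_apply] at h
  have h2 := Equiv.Perm.viaEmbeddingHom_injective e h
  simpa [d] using DFunLike.congr_fun h2 (Sum.inl 1)

/-- A non-trivial word has non-central values in every large alternating group. -/
theorem noncentralValue_alternating {α : Type*} [DecidableEq α] (w : FreeGroup α) (hw : w ≠ 1) :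
    ∃ N : ℕ, ∀ n : ℕ, N ≤ n → NoncentralValue w (alternatingGroup (Fin n)) := by
  obtain ⟨p, hp, hpr⟩ := Nat.exists_infinite_primes (8 * w.toWord.length + 4)
  have : Fact p.Prime := ⟨hpr⟩
  have h := noncentralValue_SL2 (F := ZMod p) w hw (by rw [ZMod.card]; omega)
  have : Fintype (commutator (Matrix.SpecialLinearGroup (Fin 2) (ZMod p))) := Fintype.ofFinite _
  refine ⟨2 * Fintype.card (commutator (Matrix.SpecialLinearGroup (Fin 2) (ZMod p))),
    fun n hn => ?_⟩
  obtain ⟨ψ, hψ⟩ := exists_hom_alternating (K := commutator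
    (Matrix.SpecialLinearGroup (Fin 2) (ZMod p))) n hn
  exact h.of_injective ψ hψ

end CfsgLib.KnownB.WordAlt
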