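import Mathlib

set_option autoImplicit false

/-!
Leading coefficient argument: a product along a reduced word of matrices `t^{-D} S diag(t^n) T`
is not scalar for a suitable value of the parameter `t` of a large enough field.
-/

namespace CfsgLib.KnownB.WordPoly

open Matrix Polynomial

variable {F : Type*} [Field F] {ι : Type*} [Fintype ι] [DecidableEq ι]

/-- Data attached to a letter: `S * diagonal (X ^ n) * T` with unique top exponent `2 * D` at `a`. -/
structure LetterData (F : Type*) (ι : Type*) where
  S : Matrix ι ι F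
  T : Matrix ι ι F
  n : ι → ℕ
  a : ι

/-- The polynomial matrix of a letter. -/
noncomputable def LetterData.poly (d : LetterData F ι) : Matrix ι ι F[X] :=
  d.S.map C * diagonal (fun r => (X : F[X]) ^ d.n r) * d.T.map C

lemma poly_eval (d : LetterData F ι) (t : F) :
    d.poly.map (Polynomial.eval t) = d.S * diagonal (fun r => t ^ d.n r) * d.T := by
  have hC : ∀ M : Matrix ι ι F, (M.map C).map (Polynomial.eval t) = M := by
    intro M; ext i j; simp
  unfold LetterData.poly
  rw [← Polynomial.coe_evalRingHom, Matrix.map_mul, Matrix.map_mul]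
  simp only [Polynomial.coe_evalRingHom, hC, Matrix.diagonal_map (eval_zero (x := t))]
  simp [Function.comp_def]

lemma poly_apply (d : LetterData F ι) (i j : ι) :
    d.poly i j = ∑ r, C (d.S i r) * X ^ d.n r * C (d.T r j) := by
  unfold LetterData.poly
  rw [Matrix.mul_apply]
  simp [Matrix.mul_diagonal]

/-- Degree and top coefficient hypotheses on a letter. -/
def LetterData.Good (d : LetterData F ι) (D : ℕ) : Prop :=
  d.n d.a = 2 * D ∧ ∀ r, r ≠ d.a → d.n r < 2 * D

lemma natDegree_poly_le {d : LetterData F ι} {D : ℕ} (h : d.Good D) (i j : ι) :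
    (d.poly i j).natDegree ≤ 2 * D := by
  rw [poly_apply]
  refine natDegree_sum_le_of_forall_le _ _ fun r _ => ?_
  refine (natDegree_mul_C_le _ _).trans ((natDegree_C_mul_X_pow_le _ _).trans ?_)
  by_cases hr : r = d.a
  · subst hr; exact h.1.le
  · exact (h.2 r hr).le

lemma coeff_poly_top {d : LetterData F ι} {D : ℕ} (h : d.Good D) (i j : ι) :
    (d.poly i j).coeff (2 * D) = d.S i d.a * d.T d.a j := by
  rw [poly_apply, finsetSum_coeff, Finset.sum_eq_single d.a]
  · rw [coeff_mul_C, coeff_C_mul_X_pow, h.1, if_pos rfl]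
  · intro r _ hr
    have := (h.2 r hr).ne'
    rw [coeff_mul_C, coeff_C_mul_X_pow, if_neg this, zero_mul]
  · simp

/-- Product of letter polynomials. -/
noncomputable def wordPoly (l : List (LetterData F ι)) : Matrix ι ι F[X] :=
  (l.map LetterData.poly).prod

lemma natDegree_wordPoly_le {D : ℕ} :
    ∀ l : List (LetterData F ι), (∀ d ∈ l, d.Good D) →
      ∀ i j, (wordPoly l i j).natDegree ≤ 2 * D * l.length := by
  intro l
  induction l with
  | nil =>
    intro _ i j
    simp only [wordPoly, List.map_nil, List.prod_nil, Matrix.one_apply]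
    split <;> simp
  | cons d l ih =>
    intro hl i j
    simp only [wordPoly, List.map_cons, List.prod_cons, Matrix.mul_apply, List.length_cons]
    refine natDegree_sum_le_of_forall_le _ _ fun r _ => ?_
    refine natDegree_mul_le.trans ?_
    have h1 := natDegree_poly_le (hl d (by simp)) i r
    have h2 := ih (fun e he => hl e (by simp [he])) r j
    simp only [wordPoly] at h2
    rw [Nat.mul_succ]
    omega

/-- Consecutive letters have non-vanishing pairing. -/
def Pairing (d e : LetterData F ι) : Prop := (d.T * e.S) d.a e.a ≠ 0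

lemma coeff_wordPoly_top {D : ℕ} :
    ∀ (d : LetterData F ι) (l : List (LetterData F ι)), (∀ e ∈ d :: l, e.Good D) →
      (d :: l).IsChain Pairing →
      ∃ (κ : F) (e : LetterData F ι), e ∈ d :: l ∧ κ ≠ 0 ∧ ∀ i j,
        (wordPoly (d :: l) i j).coeff (2 * D * (l.length + 1)) =
          κ * (d.S i d.a * e.T e.a j) := by
  intro d l
  induction l generalizing d with
  | nil =>
    intro hg _
    refine ⟨1, d, by simp, one_ne_zero, fun i j => ?_⟩
    simp [wordPoly, coeff_poly_top (hg d (by simp)) i j]
  | cons d' l ih =>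
    intro hg hc
    rw [List.isChain_cons_cons] at hc
    obtain ⟨κ, e, he, hκ, hco⟩ := ih d' (fun x hx => hg x (List.mem_cons_of_mem _ hx)) hc.2
    refine ⟨(d.T * d'.S) d.a d'.a * κ, e, List.mem_cons_of_mem _ he,
      mul_ne_zero hc.1 hκ, fun i j => ?_⟩
    have hsplit : 2 * D * ((d' :: l).length + 1) = 2 * D + 2 * D * (l.length + 1) := by
      simp only [List.length_cons]; ring
    show ((d.poly * wordPoly (d' :: l)) i j).coeff _ = _
    rw [Matrix.mul_apply, finsetSum_coeff, hsplit]
    have : ∀ r, (d.poly i r * wordPoly (d' :: l) r j).coeff (2 * D + 2 * D * (l.length + 1)) =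
        d.S i d.a * d.T d.a r * (κ * (d'.S r d'.a * e.T e.a j)) := by
      intro r
      rw [coeff_mul_add_eq_of_natDegree_le (natDegree_poly_le (hg d (by simp)) i r)
        (by simpa using natDegree_wordPoly_le _ (fun x hx => hg x (List.mem_cons_of_mem _ hx)) r j),
        coeff_poly_top (hg d (by simp)) i r, hco r j]
    simp only [this, Matrix.mul_apply, Finset.sum_mul, Finset.mul_sum]
    exact Finset.sum_congr rfl fun r _ => by ring

/-- The evaluation of `wordPoly`. -/
lemma wordPoly_eval (l : List (LetterData F ι)) (t : F) :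
    (wordPoly l).map (Polynomial.eval t) =
      (l.map fun d => d.S * diagonal (fun r => t ^ d.n r) * d.T).prod := by
  induction l with
  | nil => simp [wordPoly, Matrix.map_one]
  | cons d l ih =>
    simp only [wordPoly, List.map_cons, List.prod_cons] at *
    have := Matrix.map_mul (f := Polynomial.evalRingHom t) (L := d.poly)
      (M := (l.map LetterData.poly).prod)
    simp only [Polynomial.coe_evalRingHom] at this
    rw [this, poly_eval, ih]

/-- Core statement: some parameter value makes the scaled word value non-scalar. -/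
theorem exists_not_scalar [Fintype F] (D : ℕ) (hD : 0 < D) (d : LetterData F ι)
    (l : List (LetterData F ι)) (hg : ∀ e ∈ d :: l, e.Good D) (hc : (d :: l).IsChain Pairing)
    (hS : ∃ i, d.S i d.a ≠ 0) (hT : ∀ e ∈ d :: l, ∃ j, e.T e.a j ≠ 0) (cs : Finset F)
    (hq : cs.card * (2 * D * (l.length + 1)) + 1 < Fintype.card F) :
    ∃ t : F, t ≠ 0 ∧ ∀ c ∈ cs,
      ((d :: l).map fun e => e.S * diagonal (fun r => t ^ e.n r) * e.T).prod ≠
        (c * t ^ (D * (l.length + 1))) • (1 : Matrix ι ι F) := by
  classical
  obtain ⟨κ, e, he, hκ, hco⟩ := coeff_wordPoly_top d l hg hc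
  obtain ⟨i, hi⟩ := hS
  obtain ⟨j, hj⟩ := hT e he
  set L := l.length + 1 with hL
  have hL0 : 0 < D * L := Nat.mul_pos hD (by omega)
  let p : F → F[X] := fun c => wordPoly (d :: l) i j - C (c * if i = j then 1 else 0) * X ^ (D * L)
  have hpdeg : ∀ c, (p c).natDegree ≤ 2 * D * L := by
    intro c
    refine (natDegree_sub_le _ _).trans (max_le ?_ ?_)
    · simpa [hL] using natDegree_wordPoly_le _ hg i j
    · exact (natDegree_C_mul_X_pow_le _ _).trans (by rw [mul_assoc]; omega)
  have hp0 : ∀ c, p c ≠ 0 := by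
    intro c hz
    have h2 : (p c).coeff (2 * D * L) = 0 := by rw [hz, coeff_zero]
    have hne : D * L ≠ 2 * D * L := by rw [mul_assoc]; omega
    simp only [p, coeff_sub, coeff_C_mul_X_pow, hne.symm, if_false, sub_zero] at h2
    rw [hL, hco] at h2
    exact mul_ne_zero hκ (mul_ne_zero hi hj) h2
  let Q : F[X] := X * ∏ c ∈ cs, p c
  have hQ0 : Q ≠ 0 := mul_ne_zero X_ne_zero (Finset.prod_ne_zero_iff.2 fun c _ => hp0 c)
  have hQd : Q.natDegree < Fintype.card F := by
    refine lt_of_le_of_lt (natDegree_mul_le.trans ?_) hq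
    rw [natDegree_X, add_comm]
    gcongr
    exact (natDegree_prod_le _ _).trans ((Finset.sum_le_card_nsmul _ _ _ fun c _ => hpdeg c))
  obtain ⟨t, ht⟩ : ∃ t, Q.eval t ≠ 0 := by
    by_contra hall
    push Not at hall
    exact hQ0 (eq_zero_of_natDegree_lt_card_of_eval_eq_zero' Q Finset.univ (fun t _ => hall t)
      (by rwa [Finset.card_univ]))
  simp only [Q, eval_mul, eval_X, eval_prod, mul_ne_zero_iff, Finset.prod_ne_zero_iff] at ht
  refine ⟨t, ht.1, fun c hc' heq => ht.2 c hc' ?_⟩
  have hev := congrFun (congrFun (wordPoly_eval (d :: l) t) i) j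
  rw [heq, Matrix.map_apply] at hev
  simp only [p, eval_sub, eval_mul, eval_C, eval_pow, eval_X, hev, Matrix.smul_apply,
    Matrix.one_apply, smul_eq_mul, ← hL]
  split <;> ring

/-- Passage from the group: the scaled product is the word value times `t ^ (D * length)`. -/
lemma prod_map_smul {α : Type*} (c : F) (f g : α → Matrix ι ι F) (h : ∀ x, f x = c • g x) :
    ∀ l : List α, (l.map f).prod = c ^ l.length • (l.map g).prod
  | [] => by simp
  | x :: l => by
    simp only [List.map_cons, List.prod_cons, List.length_cons, prod_map_smul c f g h l, h x]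
    rw [Matrix.smul_mul, Matrix.mul_smul, smul_smul, pow_succ']

/-- Word values are not in a given finite set of scalars, for a large enough field. -/
theorem exists_word_value [Fintype F] {α : Type*} [DecidableEq α] {G : Type*} [Group G]
    (φ : G →* Matrix ι ι F) (w : FreeGroup α) (hw : w ≠ 1) (D : ℕ) (hD : 0 < D)
    (data : α × Bool → LetterData F ι) (g : F → α → G)
    (hgood : ∀ x ∈ w.toWord, (data x).Good D)
    (hpair : ∀ x ∈ w.toWord, ∀ y ∈ w.toWord, (x.1 = y.1 → x.2 = y.2) → Pairing (data x) (data y))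
    (hnz : ∀ x ∈ w.toWord,
      (∃ i, (data x).S i (data x).a ≠ 0) ∧ ∃ j, (data x).T (data x).a j ≠ 0)
    (hval : ∀ t : F, t ≠ 0 → ∀ x ∈ w.toWord,
      t ^ D • φ (cond x.2 (g t x.1) (g t x.1)⁻¹) =
        (data x).S * diagonal (fun r => t ^ (data x).n r) * (data x).T)
    (cs : Finset F) (hq : cs.card * (2 * D * w.toWord.length) + 1 < Fintype.card F) :
    ∃ t : F, t ≠ 0 ∧ ∀ c ∈ cs, φ (FreeGroup.lift (g t) w) ≠ c • (1 : Matrix ι ι F) := by
  classical
  obtain ⟨x, W, hW⟩ : ∃ x W, w.toWord = x :: W := by
    cases h : w.toWord with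
    | nil => exact absurd (FreeGroup.toWord_eq_nil_iff.1 h) hw
    | cons x W => exact ⟨x, W, rfl⟩
  rw [hW] at hgood hpair hnz hval hq
  have hred : (x :: W).IsChain fun a b => a.1 = b.1 → a.2 = b.2 := hW ▸ FreeGroup.isReduced_toWord
  have hmem : ∀ e ∈ data x :: W.map data, ∃ y ∈ x :: W, data y = e := by
    intro e he
    rw [← List.map_cons (f := data)] at he
    exact List.mem_map.1 he
  have hchain : (data x :: W.map data).IsChain Pairing := by
    rw [← List.map_cons (f := data), List.isChain_map]
    have h2 : (x :: W).IsChain fun a b =>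
        (a ∈ x :: W ∧ b ∈ x :: W) ∧ (a.1 = b.1 → a.2 = b.2) := by
      rw [List.isChain_iff_getElem] at hred ⊢
      intro i hi
      exact ⟨⟨List.getElem_mem _, List.getElem_mem _⟩, hred i hi⟩
    exact h2.imp fun a b h => hpair a h.1.1 b h.1.2 h.2
  obtain ⟨t, ht0, ht⟩ := exists_not_scalar D hD (data x) (W.map data)
    (fun e he => by obtain ⟨y, hy, rfl⟩ := hmem e he; exact hgood y hy) hchain
    (hnz x (by simp)).1
    (fun e he => by obtain ⟨y, hy, rfl⟩ := hmem e he; exact (hnz y hy).2) cs
    (by simpa using hq)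
  refine ⟨t, ht0, fun c hc heq => ht c hc ?_⟩
  have hlift : φ (FreeGroup.lift (g t) w) =
      ((x :: W).map fun y => φ (cond y.2 (g t y.1) (g t y.1)⁻¹)).prod := by
    conv_lhs => rw [← FreeGroup.mk_toWord (x := w), hW, FreeGroup.lift_mk, map_list_prod,
      List.map_map]
    rfl
  have key : ((x :: W).map fun y =>
      (data y).S * diagonal (fun r => t ^ (data y).n r) * (data y).T).prod =
        (t ^ D) ^ (x :: W).length • φ (FreeGroup.lift (g t) w) := by
    rw [hlift, List.map_congr_left (fun y hy => (hval t ht0 y hy).symm),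
      prod_map_smul (t ^ D) (fun y : α × Bool => t ^ D • φ (cond y.2 (g t y.1) (g t y.1)⁻¹))
        (fun y => φ (cond y.2 (g t y.1) (g t y.1)⁻¹)) (fun _ => rfl)]
  rw [← List.map_cons (f := data), List.map_map]
  simp only [Function.comp_def]
  rw [key, heq, List.length_cons, List.length_map, smul_smul, pow_mul, mul_comm c]

end CfsgLib.KnownB.WordPoly
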