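import Cfsg.Agent.Lib.KnownB.WordPoly

set_option autoImplicit false

/-!
A non-trivial word takes a non-central value on the derived subgroup of `SL₂` of a large finite field,
and how this passes along injective homomorphisms.
-/

namespace CfsgLib.KnownB.WordSL2

open Matrix CfsgLib.KnownB.WordPoly
open scoped commutatorElement

/-- A homomorphism commutes with evaluation of a word. -/
lemma hom_lift {α : Type*} {K H : Type*} [Group K] [Group H] (ψ : K →* H) (f : α → K)
    (w : FreeGroup α) : ψ (FreeGroup.lift f w) = FreeGroup.lift (fun i => ψ (f i)) w := by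
  have : ψ.comp (FreeGroup.lift f) = FreeGroup.lift (fun i => ψ (f i)) := by
    apply FreeGroup.ext_hom
    intro i
    simp
  exact DFunLike.congr_fun this w

/-- `w` takes a value in `K` that is not central. -/
def NoncentralValue {α : Type*} (w : FreeGroup α) (K : Type*) [Group K] : Prop :=
  ∃ (f : α → K) (z : K), ¬ Commute (FreeGroup.lift f w) z

lemma NoncentralValue.of_injective {α : Type*} {w : FreeGroup α} {K H : Type*} [Group K] [Group H]
    (h : NoncentralValue w K) (ψ : K →* H) (hψ : Function.Injective ψ) : NoncentralValue w H := by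
  obtain ⟨f, z, hz⟩ := h
  refine ⟨fun i => ψ (f i), ψ z, fun hc => hz (hψ ?_)⟩
  rw [← hom_lift] at hc
  simpa only [map_mul] using hc.eq

lemma NoncentralValue.quotient_center {α : Type*} {w : FreeGroup α} {H : Type*} [Group H]
    (h : NoncentralValue w H) :
    ∃ f : α → H ⧸ Subgroup.center H, FreeGroup.lift f w ≠ 1 := by
  obtain ⟨f, z, hz⟩ := h
  refine ⟨fun i => QuotientGroup.mk' _ (f i), fun h1 => hz ?_⟩
  rw [← hom_lift, QuotientGroup.mk'_apply, QuotientGroup.eq_one_iff] at h1
  exact ((Subgroup.mem_center_iff.1 h1) z).symm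

/-- Derived subgroups: an injective homomorphism restricts to them. -/
lemma NoncentralValue.commutator_map {α : Type*} {w : FreeGroup α} {K H : Type*} [Group K]
    [Group H] (h : NoncentralValue w (commutator K)) (ψ : K →* H) (hψ : Function.Injective ψ) :
    NoncentralValue w (commutator H) := by
  have hle : (commutator K).map ψ ≤ commutator H := by
    rw [commutator_def, commutator_def, Subgroup.map_commutator]
    exact Subgroup.commutator_mono le_top le_top
  refine h.of_injective
    ((ψ.comp (commutator K).subtype).codRestrict (commutator H)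
      fun k => hle (Subgroup.mem_map_of_mem ψ k.2)) ?_
  intro a b hab
  exact Subtype.ext (hψ (congrArg Subtype.val hab))

variable {F : Type*} [Field F]

/-- `diag(t, t⁻¹)`, and `1` for `t = 0`. -/
noncomputable def tor (t : F) : SpecialLinearGroup (Fin 2) F := by
  classical
  exact if h : t = 0 then 1 else ⟨!![t, 0; 0, t⁻¹], by simp [Matrix.det_fin_two, h]⟩

lemma coe_tor {t : F} (h : t ≠ 0) :
    (tor t : Matrix (Fin 2) (Fin 2) F) = !![t, 0; 0, t⁻¹] := by
  simp [tor, h]

/-- The Weyl element. -/
def weyl : SpecialLinearGroup (Fin 2) F := ⟨!![0, 1; -1, 0], by simp [Matrix.det_fin_two]⟩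

/-- Upper unitriangular. -/
def upp (c : F) : SpecialLinearGroup (Fin 2) F := ⟨!![1, c; 0, 1], by simp [Matrix.det_fin_two]⟩

/-- Lower unitriangular. -/
def low (c : F) : SpecialLinearGroup (Fin 2) F := ⟨!![1, 0; c, 1], by simp [Matrix.det_fin_two]⟩

lemma coe_weyl : ((weyl : SpecialLinearGroup (Fin 2) F) : Matrix (Fin 2) (Fin 2) F) = !![0, 1; -1, 0] :=
  rfl

lemma coe_upp (c : F) : (upp c : Matrix (Fin 2) (Fin 2) F) = !![1, c; 0, 1] := rfl

lemma coe_low (c : F) : (low c : Matrix (Fin 2) (Fin 2) F) = !![1, 0; c, 1] := rfl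

/-- Element with columns proportional to `(1,p)` and `(1,r)`. -/
noncomputable def pts (p r : F) : SpecialLinearGroup (Fin 2) F := by
  classical
  exact if h : r = p then 1 else
    ⟨!![(r - p)⁻¹, 1; (r - p)⁻¹ * p, r], by
      simp only [Matrix.det_fin_two_of]
      field_simp [sub_ne_zero.2 h]⟩

lemma coe_pts {p r : F} (h : r ≠ p) :
    (pts p r : Matrix (Fin 2) (Fin 2) F) = !![(r - p)⁻¹, 1; (r - p)⁻¹ * p, r] := by
  simp [pts, h]

lemma commutator_tor {t : F} (h : t ≠ 0) :
    ((⁅tor t, weyl⁆ : SpecialLinearGroup (Fin 2) F) : Matrix (Fin 2) (Fin 2) F) =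
      !![t ^ 2, 0; 0, (t ^ 2)⁻¹] := by
  rw [commutatorElement_def]
  simp [Matrix.SpecialLinearGroup.coe_mul, Matrix.SpecialLinearGroup.coe_inv, coe_tor h, coe_weyl,
    Matrix.adjugate_fin_two, pow_two, mul_inv, Matrix.mul_fin_two]

lemma upp_mem_commutator [Fintype F] (hF : 4 ≤ Fintype.card F) (c : F) :
    upp c ∈ commutator (SpecialLinearGroup (Fin 2) F) ∧
      low c ∈ commutator (SpecialLinearGroup (Fin 2) F) := by
  classical
  obtain ⟨s, hs⟩ : ∃ s : F, s ∉ ({0, 1, -1} : Finset F) := by
    by_contra hall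
    push Not at hall
    have h1 := Finset.card_le_card (s := Finset.univ) fun x _ => hall x
    have h2 : ({0, 1, -1} : Finset F).card ≤ 3 := Finset.card_le_three
    rw [Finset.card_univ] at h1
    omega
  simp only [Finset.mem_insert, Finset.mem_singleton, not_or] at hs
  have hs2 : s ^ 2 - 1 ≠ 0 := by
    intro h
    rcases sq_eq_one_iff.1 (sub_eq_zero.1 h) with h | h
    · exact hs.2.1 h
    · exact hs.2.2 h
  have hi2 : s⁻¹ ^ 2 - 1 ≠ 0 := by
    intro h
    rw [inv_pow, sub_eq_zero, inv_eq_one] at h
    exact hs2 (sub_eq_zero.2 h)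
  constructor
  · have : upp c = ⁅tor s, upp (c / (s ^ 2 - 1))⁆ := by
      apply Subtype.ext
      rw [commutatorElement_def]
      simp [Matrix.SpecialLinearGroup.coe_mul, Matrix.SpecialLinearGroup.coe_inv, coe_tor hs.1, coe_upp, hs.1,
        Matrix.adjugate_fin_two, Matrix.mul_fin_two]
      field_simp
      grind
    rw [this, commutator_def]
    exact Subgroup.commutator_mem_commutator (Subgroup.mem_top _) (Subgroup.mem_top _)
  · have : low c = ⁅tor s⁻¹, low (c / (s ^ 2 - 1))⁆ := by
      apply Subtype.ext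
      rw [commutatorElement_def]
      simp [Matrix.SpecialLinearGroup.coe_mul, Matrix.SpecialLinearGroup.coe_inv, coe_tor (inv_ne_zero hs.1), coe_low, hs.1,
        Matrix.adjugate_fin_two, Matrix.mul_fin_two]
      field_simp
      grind
    rw [this, commutator_def]
    exact Subgroup.commutator_mem_commutator (Subgroup.mem_top _) (Subgroup.mem_top _)

/-- Main statement: non-central word values in the derived subgroup of `SL₂`. -/
theorem noncentralValue_SL2 [Fintype F] {α : Type*} [DecidableEq α] (w : FreeGroup α)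
    (hw : w ≠ 1) (hF : 8 * w.toWord.length + 3 < Fintype.card F) :
    NoncentralValue w (commutator (SpecialLinearGroup (Fin 2) F)) := by
  classical
  let I : Finset α := (w.toWord.map Prod.fst).toFinset
  have hI : I.card ≤ w.toWord.length := (List.toFinset_card_le _).trans (by simp)
  have hemb : Fintype.card (I × Bool) ≤ Fintype.card F := by simp; omega
  obtain ⟨emb⟩ := Function.Embedding.nonempty_of_card_le hemb
  let pt : α → Bool → F := fun i b => if h : i ∈ I then emb (⟨i, h⟩, b) else 0
  have hptne : ∀ i ∈ I, ∀ j ∈ I, ∀ b b', pt i b = pt j b' → i = j ∧ b = b' := by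
    intro i hi j hj b b' h
    simp only [pt, hi, hj, dif_pos] at h
    simpa using emb.injective h
  let S : α → SpecialLinearGroup (Fin 2) F := fun i => pts (pt i true) (pt i false)
  let data : α × Bool → LetterData F (Fin 2) := fun x =>
    ⟨(S x.1 : Matrix (Fin 2) (Fin 2) F), ((S x.1)⁻¹ : SpecialLinearGroup (Fin 2) F),
      if x.2 then ![4, 0] else ![0, 4], if x.2 then 0 else 1⟩
  let g : F → α → SpecialLinearGroup (Fin 2) F := fun t i => S i * ⁅tor t, weyl⁆ * (S i)⁻¹
  let φ : SpecialLinearGroup (Fin 2) F →* Matrix (Fin 2) (Fin 2) F :=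
    (Units.coeHom _).comp SpecialLinearGroup.toGL
  have hφ : ∀ x, φ x = (x : Matrix (Fin 2) (Fin 2) F) := fun x => rfl
  have hmemI : ∀ x ∈ w.toWord, x.1 ∈ I := fun x hx => by
    simp only [I, List.mem_toFinset]; exact List.mem_map.2 ⟨x, hx, rfl⟩
  have hSne : ∀ i ∈ I, pt i false ≠ pt i true := fun i hi h => by
    simpa using (hptne i hi i hi _ _ h).2
  obtain ⟨t, ht0, ht⟩ := exists_word_value φ w hw 2 two_pos data g
    (fun x _ => by
      rcases x with ⟨i, b⟩
      cases b <;> refine ⟨by simp [data], fun r hr => ?_⟩ <;> fin_cases r <;> simp_all [data])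
    (fun x hx y hy hxy => by
      have hi := hmemI x hx
      have hj := hmemI y hy
      rcases x with ⟨i, b⟩
      rcases y with ⟨j, b'⟩
      dsimp only at hi hj hxy
      have key : pt i (!b) ≠ pt j b' := by
        intro h
        obtain ⟨h1, h2⟩ := hptne i hi j hj _ _ h
        have := hxy h1
        subst this
        simp at h2
      have hni := sub_ne_zero.2 (hSne i hi)
      have hnj := sub_ne_zero.2 (hSne j hj)
      cases b <;> cases b' <;>
        simp [data, Pairing, S, Matrix.SpecialLinearGroup.coe_inv, coe_pts (hSne i hi),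
          coe_pts (hSne j hj), Matrix.adjugate_fin_two, Matrix.mul_fin_two] <;>
        simp only [Bool.not_false, Bool.not_true] at key <;>
        intro h <;> apply key <;> field_simp at h <;> grind)
    (fun x hx => by
      have hi := hmemI x hx
      rcases x with ⟨i, b⟩
      have hni := sub_ne_zero.2 (hSne i hi)
      cases b
      · refine ⟨⟨0, ?_⟩, ⟨1, ?_⟩⟩ <;>
          simp [data, S, Matrix.SpecialLinearGroup.coe_inv, coe_pts (hSne i hi), Matrix.adjugate_fin_two,
            hni]
      · refine ⟨⟨0, ?_⟩, ⟨1, ?_⟩⟩ <;>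
          simp [data, S, Matrix.SpecialLinearGroup.coe_inv, coe_pts (hSne i hi), Matrix.adjugate_fin_two,
            hni])
    (fun t ht x _ => by
      rcases x with ⟨i, b⟩
      have hc := commutator_tor (F := F) ht
      have ht2 : t ^ 2 ≠ 0 := pow_ne_zero _ ht
      cases b
      · simp only [data, cond_false, g, hφ, Matrix.SpecialLinearGroup.coe_mul, _root_.mul_inv_rev,
          inv_inv, Bool.false_eq_true, if_false, ← mul_assoc]
        rw [← Matrix.smul_mul, ← Matrix.mul_smul, Matrix.SpecialLinearGroup.coe_inv ⁅_, _⁆, hc]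
        congr 2
        ext a b; fin_cases a <;> fin_cases b <;>
          simp [Matrix.adjugate_fin_two] <;> field_simp
      · simp only [data, cond_true, g, hφ, Matrix.SpecialLinearGroup.coe_mul, if_true]
        rw [← Matrix.smul_mul, ← Matrix.mul_smul, hc]
        congr 2
        ext a b; fin_cases a <;> fin_cases b <;> simp <;> field_simp)
    {1, -1} (by
      have : ({1, -1} : Finset F).card ≤ 2 := Finset.card_le_two
      have := Nat.mul_le_mul_right (2 * 2 * w.toWord.length) this
      omega)
  have hmem : ∀ i, g t i ∈ commutator (SpecialLinearGroup (Fin 2) F) := fun i => by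
    refine Subgroup.Normal.conj_mem inferInstance _ ?_ _
    rw [commutator_def]
    exact Subgroup.commutator_mem_commutator (Subgroup.mem_top _) (Subgroup.mem_top _)
  let f : α → commutator (SpecialLinearGroup (Fin 2) F) := fun i => ⟨g t i, hmem i⟩
  set v := FreeGroup.lift (g t) w with hv
  have hfv : ((FreeGroup.lift f w : commutator _) : SpecialLinearGroup (Fin 2) F) = v := by
    rw [← Subgroup.coe_subtype, hom_lift]; rfl
  by_contra hne
  unfold NoncentralValue at hne
  push Not at hne
  obtain ⟨hu, hl⟩ := upp_mem_commutator (by omega) (1 : F)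
  have hcomm : ∀ (x : SpecialLinearGroup (Fin 2) F)
      (hx : x ∈ commutator (SpecialLinearGroup (Fin 2) F)),
      (v : Matrix (Fin 2) (Fin 2) F) * x = (x : Matrix (Fin 2) (Fin 2) F) * v := by
    intro x hx
    have h := congrArg Subtype.val (hne f ⟨x, hx⟩).eq
    rw [Subgroup.coe_mul, Subgroup.coe_mul, hfv] at h
    rw [← Matrix.SpecialLinearGroup.coe_mul, ← Matrix.SpecialLinearGroup.coe_mul, h]
  have h1 := hcomm _ hu
  have h2 := hcomm _ hl
  set M := (v : Matrix (Fin 2) (Fin 2) F) with hM
  have e1 := congrFun (congrFun h1 0) 0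
  have e2 := congrFun (congrFun h1 0) 1
  have e3 := congrFun (congrFun h2 0) 0
  simp [coe_upp, coe_low, Matrix.mul_apply] at e1 e2 e3
  have hd : M.det = 1 := v.2
  rw [Matrix.det_fin_two, e1, e3] at hd
  have hsc : M = M 0 0 • (1 : Matrix (Fin 2) (Fin 2) F) := by
    ext a b; fin_cases a <;> fin_cases b <;> simp <;> grind
  have hsq : M 0 0 = 1 ∨ M 0 0 = -1 := by
    have : M 1 1 = M 0 0 := by rw [hsc]; simp
    rw [this] at hd
    exact mul_self_eq_one_iff.1 (by grind)
  refine ht (M 0 0) (by simpa using hsq) ?_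
  rw [hφ]
  exact hsc

end CfsgLib.KnownB.WordSL2
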